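import Groth.Agent.L14.Chev.Adj

/-!
The dual root homomorphisms of a Chevalley system are the root homomorphisms of the opposite roots up to sign.
-/

set_option autoImplicit false
universe u

open CategoryTheory CategoryTheory.Limits AlgebraicGeometry MonoidalCategory CartesianMonoidalCategory MonObj
open Groth.L14.RankOne Groth.L25 Groth.L14.Chart

set_option backward.isDefEq.respectTransparency.types false
set_option linter.style.haveILetI false

noncomputable section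

namespace Groth.L14.Chev

section Abstract

variable {A : Type*} [CommRing A] {Γ : Type*} [Group Γ] (a b : A → Γ) (h : Aˣ → Γ)

/-- The Weyl element carries one unipotent part to the other at parameters with the needed units. -/
theorem weyl_conj_unit (ha : ∀ x y, a (x + y) = a x * a y) (hb : ∀ x y, b (x + y) = b x * b y)
    (hh : ∀ u w, h (u * w) = h u * h w) (hha : ∀ (u : Aˣ) x, h u * a x = a ((u : A) ^ 2 * x) * h u)
    (hd : ∀ x y (u : Aˣ), (u : A) = 1 + x * y → a x * b y = b (↑u⁻¹ * y) * h u * a (↑u⁻¹ * x))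
    (x : A) (xu u₁ : Aˣ) (hx : (xu : A) = x) (hu₁ : (u₁ : A) = 1 - x) :
    a 1 * b (-1) * a 1 * a x = b (-x) * (a 1 * b (-1) * a 1) := by
  have a0 : ∀ z, a (-z) = (a z)⁻¹ := fun z => by
    have h0 : a 0 = 1 := by simpa using (ha 0 0).symm
    exact eq_inv_of_mul_eq_one_left (by rw [← ha, neg_add_cancel, h0])
  have b0 : ∀ z, b (-z) = (b z)⁻¹ := fun z => by
    have h0 : b 0 = 1 := by simpa using (hb 0 0).symm
    exact eq_inv_of_mul_eq_one_left (by rw [← hb, neg_add_cancel, h0])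
  have h1 : h 1 = 1 := by simpa using (hh 1 1).symm
  have hinv : ∀ u, h u⁻¹ = (h u)⁻¹ := fun u => eq_inv_of_mul_eq_one_left (by rw [← hh, inv_mul_cancel, h1])
  -- moving the second kind past the first
  have hsw : ∀ y z (u : Aˣ), (u : A) = 1 + y * z → b y * a z = a (↑u⁻¹ * z) * h u⁻¹ * b (↑u⁻¹ * y) := by
    intro y z u hu
    have e := hd (-z) (-y) u (by rw [hu]; ring)
    rw [← inv_inj, mul_inv_rev, ← a0, ← b0, e, mul_inv_rev, mul_inv_rev, ← a0, ← b0, hinv, inv_inv,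
      ← _root_.mul_assoc, mul_neg, mul_neg]
  have hx1 : (↑xu⁻¹ : A) * x = 1 := by rw [← hx, Units.inv_mul]
  have hu1 : (↑u₁⁻¹ : A) * (1 - x) = 1 := by rw [← hu₁, Units.inv_mul]
  have L : a 1 * b (-1) * a 1 * a x = a (-↑xu⁻¹) * h (-xu)⁻¹ * b ↑xu⁻¹ := by
    rw [_root_.mul_assoc _ (a 1), ← ha, _root_.mul_assoc, hsw (-1) (1 + x) (-xu) (by rw [Units.val_neg, hx]; ring),
      ← _root_.mul_assoc, ← _root_.mul_assoc, ← ha]
    congr 3
    · rw [inv_neg, Units.val_neg]; linear_combination (-1 : A) * hx1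
    · rw [inv_neg, Units.val_neg]; ring
  let u₂ : Aˣ := -xu * u₁⁻¹
  have hu₂ : (↑u₂⁻¹ : A) = -(↑xu⁻¹ * (1 - x)) := by
    rw [show u₂⁻¹ = -(xu⁻¹ * u₁) by simp [u₂, mul_comm], Units.val_neg, Units.val_mul, hu₁]
  rw [L, ← _root_.mul_assoc, ← _root_.mul_assoc, hsw (-x) 1 u₁ (by rw [hu₁]; ring),
    _root_.mul_assoc _ (b (↑u₁⁻¹ * -x)) (b (-1)), ← hb, _root_.mul_assoc _ (b _) (a 1),
    hsw _ 1 u₂ (by simp [u₂, hx]; ring), ← _root_.mul_assoc, ← _root_.mul_assoc,
    _root_.mul_assoc _ (h u₁⁻¹) (a _), hha, ← _root_.mul_assoc, ← ha, _root_.mul_assoc _ (h u₁⁻¹) (h u₂⁻¹), ← hh]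
  congr 3
  · rw [hu₂]
    linear_combination (↑u₁⁻¹ : A) * hx1 + ((↑u₁⁻¹ : A) * ↑xu⁻¹ + ↑xu⁻¹) * hu1
  · simp [u₂, mul_comm]
  · rw [hu₂]
    linear_combination (-(↑xu⁻¹ : A) * x) * hu1

end Abstract

variable {S : Scheme.{u}} {G : Over S} [GrpObj G] {D : Red.SplitRed G} {R : Type u} [CommRing R]
  (j : Spec (CommRingCat.of R) ⟶ S) {C : Type u} [CommRing C] [Algebra R C]

theorem char_up (w : Cˣ) (k : ℤ) :
    DSPts.char (up j w) (Multiplicative.ofAdd k) = (Scheme.ΓSpecIso (CommRingCat.of C)).inv ((w ^ k : Cˣ) : C) := by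
  have h : DSPts.char (up j w) = (Scheme.ΓSpecIso (CommRingCat.of C)).inv.hom.toMonoidHom.comp
      ((Units.coeHom C).comp (zpowersHom Cˣ w)) := by
    refine MonoidHom.ext_mint ?_
    rw [← gmFn_eq_char, gmFn_up]
    simp
  rw [h]
  simp

variable (avc : D.idx → (Red.Gm S ⟶ D.T))
  (havc : ∀ a, avc a = Red.DSmap S (D.P.coroot a).toAddMonoidHom ≫ D.split.inv.hom.hom)

/-- The character of a point of a coroot. -/
def cochi (c : D.idx) (w : Cˣ) : Multiplicative D.M →* C :=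
  (Units.coeHom C).comp ((zpowersHom Cˣ w).comp (AddMonoidHom.toMultiplicative (D.P.coroot c).toAddMonoidHom))

theorem cochi_root (c d : D.idx) (w : Cˣ) :
    cochi c w (Multiplicative.ofAdd (D.P.root d)) = ((w ^ D.P.pairing d c : Cˣ) : C) := by
  have h : D.P.coroot c (D.P.root d) = D.P.pairing d c := by
    rw [← D.P.root_coroot_eq_pairing, D.pairing_eq]
    rfl
  simp [cochi, h]

include havc in
theorem up_avc (c : D.idx) (w : Cˣ) : up j w ≫ avc c = tpt D j (cochi c w) := by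
  rw [havc, ← Category.assoc, tpt]
  congr 1
  refine DSPts.char_injective (MonoidHom.ext fun m => ?_)
  rw [SplitSub.char_DSmap, DSPts.char_pt]
  show DSPts.char (up j w) (Multiplicative.ofAdd ((D.P.coroot c).toAddMonoidHom m.toAdd)) = _
  rw [char_up]
  rfl

/-- The point of a coroot. -/
def hpt (c : D.idx) (w : Cˣ) : Sp j C ⟶ G := up j w ≫ avc c ≫ D.i

include havc in
theorem hpt_mul (c : D.idx) (w w' : Cˣ) : hpt j avc c (w * w') = hpt j avc c w * hpt j avc c w' := by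
  haveI : IsMonHom D.i := isMonHom_i
  have h : cochi (C := C) c (w * w') = cochi c w * cochi c w' := MonoidHom.ext fun m => by
    simp [cochi, mul_zpow]
  simp only [hpt, ← Category.assoc, up_avc j avc havc, h, tpt_mul, MonObj.mul_comp]

/-- `vd c` is dual to the root homomorphism `v c`. -/
def DualAt (v vd : D.idx → (Red.Ga S ⟶ G)) (c : D.idx) : Prop :=
  IsMonHom (vd c) ∧ ∀ (X : Over S) (x y : X ⟶ Red.Ga S), IsUnit (1 + Red.gaFn x * Red.gaFn y) →
        ∃ (x' y' : X ⟶ Red.Ga S) (z : X ⟶ Red.Gm S), Red.gmFn z = 1 + Red.gaFn x * Red.gaFn y ∧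
          Red.gaFn x' * Red.gmFn z = Red.gaFn x ∧ Red.gaFn y' * Red.gmFn z = Red.gaFn y ∧
          (x ≫ v c) * (y ≫ vd c) = (y' ≫ vd c) * (z ≫ avc c ≫ D.i) * (x' ≫ v c)

variable [IsOpenImmersion j] {v vd : D.idx → (Red.Ga S ⟶ G)}
  (hv : ∀ c, Red.IsRootHom D.i (D.split.hom.hom.hom ≫ Red.chi S (D.P.root c)) (v c))
  (hvd : ∀ c, IsMonHom (vd c) ∧ ∀ (X : Over S) (x y : X ⟶ Red.Ga S), IsUnit (1 + Red.gaFn x * Red.gaFn y) →
        ∃ (x' y' : X ⟶ Red.Ga S) (z : X ⟶ Red.Gm S), Red.gmFn z = 1 + Red.gaFn x * Red.gaFn y ∧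
          Red.gaFn x' * Red.gmFn z = Red.gaFn x ∧ Red.gaFn y' * Red.gmFn z = Red.gaFn y ∧
          (x ≫ v c) * (y ≫ vd c) = (y' ≫ vd c) * (z ≫ avc c ≫ D.i) * (x' ≫ v c))

include havc hv in
omit [IsOpenImmersion j] in
theorem hpt_conj (c d : D.idx) (w : Cˣ) (x : C) :
    hpt j avc c w * (gp j x ≫ v d) * (hpt j avc c w)⁻¹ = gp j (((w ^ D.P.pairing d c : Cˣ) : C) * x) ≫ v d := by
  rw [hpt, ← Category.assoc, up_avc j avc havc, conj_root j hv, cochi_root]

omit [IsOpenImmersion j] in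
theorem dual_pt (c : D.idx) (hdc : DualAt avc v vd c) (x y : C) (w : Cˣ) (hw : (w : C) = 1 + x * y) :
    (gp j x ≫ v c) * (gp j y ≫ vd c) =
      (gp j (↑w⁻¹ * y) ≫ vd c) * hpt j avc c w * (gp j (↑w⁻¹ * x) ≫ v c) := by
  let Γi := (Scheme.ΓSpecIso (CommRingCat.of C)).inv
  have hval : 1 + Red.gaFn (gp j x) * Red.gaFn (gp j y) = Γi (w : C) := by
    rw [gaFn_gp, gaFn_gp, hw, map_add, map_one, map_mul]
  obtain ⟨x', y', z, hz, hx', hy', he⟩ := hdc.2 _ (gp j x) (gp j y) (by rw [hval]; exact w.isUnit.map Γi.hom)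
  rw [hval] at hz
  have hzu : z = up j w := GmPts.gmFn_injective (by
    show Red.gmFn z = Red.gmFn _
    rw [hz, gmFn_up])
  have key : ∀ (x₁ : Sp j C ⟶ Red.Ga S) (x₀ : C), Red.gaFn x₁ * Red.gmFn z = Red.gaFn (gp j x₀) →
      x₁ = gp j (↑w⁻¹ * x₀) := fun x₁ x₀ h => GaPts.gaFn_injective (by
    show Red.gaFn x₁ = Red.gaFn _
    rw [hz, gaFn_gp] at h
    have h' : Γi (↑w⁻¹ : C) * Γi (w : C) = 1 := by rw [← map_mul, Units.inv_mul, map_one]
    rw [gaFn_gp, map_mul]
    linear_combination Γi (↑w⁻¹ : C) * h - Red.gaFn x₁ * h')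
  rw [he, key x' x hx', key y' y hy', hzu]
  rfl

include havc hv in
omit [IsOpenImmersion j] in
/-- The Weyl element of a root carries its root homomorphism to the dual one. -/
theorem weyl_conj (c : D.idx) (hdc : DualAt avc v vd c) (x : C) :
    (gp j (1 : C) ≫ v c) * (gp j (-1 : C) ≫ vd c) * (gp j (1 : C) ≫ v c) * (gp j x ≫ v c) *
      ((gp j (1 : C) ≫ v c) * (gp j (-1 : C) ≫ vd c) * (gp j (1 : C) ≫ v c))⁻¹ = gp j (-x) ≫ vd c := by
  haveI : IsMonHom (v c) := (hv c).1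
  haveI : IsMonHom (vd c) := hdc.1
  haveI := reductive_affine D
  let N : ∀ (B : Type u) [CommRing B] [Algebra R B], Sp j B ⟶ G := fun B _ _ =>
    (gp j (1 : B) ≫ v c) * (gp j (-1 : B) ≫ vd c) * (gp j (1 : B) ≫ v c)
  have hunit : ∀ (B : Type u) [CommRing B] [Algebra R B] (z : B), IsUnit z → IsUnit (1 - z) →
      N B * (gp j z ≫ v c) * (N B)⁻¹ = gp j (-z) ≫ vd c := by
    intro B _ _ z ⟨zu, hzu⟩ ⟨u₁, hu₁⟩
    rw [mul_inv_eq_iff_eq_mul]
    exact weyl_conj_unit (fun z => gp j z ≫ v c) (fun z => gp j z ≫ vd c) (hpt j avc c)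
      (fun a b => by rw [gp_add, MonObj.mul_comp]) (fun a b => by rw [gp_add, MonObj.mul_comp])
      (hpt_mul j avc havc c)
      (fun w a => by
        rw [← mul_inv_eq_iff_eq_mul, hpt_conj j avc havc hv, D.P.pairing_same]
        norm_cast)
      (dual_pt j avc c hdc) z zu u₁ hzu hu₁
  let P := Polynomial C
  let q : P := Polynomial.X * (Polynomial.X - Polynomial.C 1) * (Polynomial.X - Polynomial.C x) *
    (Polynomial.X - Polynomial.C (x - 1))
  have hq : q.Monic := ((Polynomial.monic_X.mul (Polynomial.monic_X_sub_C 1)).mul (Polynomial.monic_X_sub_C x)).mul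
    (Polynomial.monic_X_sub_C (x - 1))
  let L := Localization.Away q
  let inc : C →ₐ[R] L := IsScalarTower.toAlgHom R C L
  have hinc : Function.Injective inc := by
    show Function.Injective (algebraMap C L)
    rw [IsScalarTower.algebraMap_eq C P L]
    exact (IsLocalization.injective L (M := Submonoid.powers q) ((Submonoid.powers_le).2 hq.mem_nonZeroDivisors)).comp
      (Polynomial.C_injective)
  have hqu : IsUnit (algebraMap P L q) := IsLocalization.Away.algebraMap_isUnit q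
  simp only [q, map_mul, map_sub, IsUnit.mul_iff, ← Polynomial.algebraMap_eq,
    ← IsScalarTower.algebraMap_apply C P L, map_one] at hqu
  obtain ⟨⟨⟨hs, hs1⟩, hsx⟩, hsx1⟩ := hqu
  let s : L := algebraMap P L Polynomial.X
  have hL : N L * (gp j (inc x) ≫ v c) * (N L)⁻¹ = gp j (-inc x) ≫ vd c := by
    have e1 := hunit L s hs (by rw [← IsUnit.neg_iff, neg_sub]; exact hs1)
    have e2 := hunit L (inc x - s) (by rw [← IsUnit.neg_iff, neg_sub]; exact hsx)
      (by rw [show 1 - (inc x - s) = s - (inc x - 1) by ring]; exact hsx1)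
    rw [show inc x = (inc x - s) + s by ring, gp_add, MonObj.mul_comp, neg_add, gp_add, MonObj.mul_comp, ← e1, ← e2]
    group
  refine ptEquiv.symm.injective (AlgHom.ext fun a => hinc ?_)
  rw [← AlgHom.comp_apply, ← AlgHom.comp_apply, ← ptEquiv_symm_comp, ← ptEquiv_symm_comp]
  congr 2
  simp only [N] at hL
  simp only [MonObj.comp_mul, GrpObj.comp_inv, ← Category.assoc, mor_gp, map_neg, map_one]
  exact hL

variable (v) in
/-- The Weyl element of a root, with the sign of its dual. -/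
def weyl (C : Type u) [CommRing C] [Algebra R C] (c : D.idx) (s : ℤ) : Sp j C ⟶ G :=
  (gp j (1 : C) ≫ v c) * (gp j ((s : C)) ≫ v (D.P.reflectionPerm c c)) * (gp j (1 : C) ≫ v c)

variable (v) in
/-- The signs of a Chevalley system. -/
structure IsChev (sg : D.idx → D.idx → ℤ) : Prop where
  sign : ∀ c b, sg c b = 1 ∨ sg c b = -1
  conj : ∀ (C : Type u) [CommRing C] [Algebra R C] (c b : D.idx) (x : C),
    weyl j v C c (sg c c) * (gp j x ≫ v b) * (weyl j v C c (sg c c))⁻¹ =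
      gp j ((sg c b : C) * x) ≫ v (D.P.reflectionPerm c b)

variable (v) in
/-- The Weyl element of `a` with sign `s` carries the root `b` to its reflection with sign `t`. -/
def WeylAct (a b : D.idx) (s t : ℤ) : Prop :=
  ∀ (C : Type u) [CommRing C] [Algebra R C] (x : C),
    weyl j v C a s * (gp j x ≫ v b) * (weyl j v C a s)⁻¹ = gp j ((t : C) * x) ≫ v (D.P.reflectionPerm a b)

theorem IsChev.weylAct {j : Spec (CommRingCat.of R) ⟶ S} {v : D.idx → (Red.Ga S ⟶ G)}
    {sg : D.idx → D.idx → ℤ} (h : IsChev j v sg) (a b : D.idx) :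
    WeylAct j v a b (sg a a) (sg a b) := fun C _ _ x => h.conj C a b x

variable (e₁ : 𝟙_ (Over S) ⟶ Red.Ga S) (he₁ : Red.gaFn e₁ = 1)
  (n : D.idx → (𝟙_ (Over S) ⟶ G)) (hn : ∀ c, n c = (e₁ ≫ v c) * (e₁ ≫ vd c)⁻¹ * (e₁ ≫ v c))

include hv hvd havc he₁ hn in
omit [IsOpenImmersion j] in
/-- A Chevalley system at the level of root groups gives the signs, on every affine open. -/
theorem isChev_of_system {sg : D.idx → D.idx → ℤ} (hsg : ∀ c b, sg c b = 1 ∨ sg c b = -1)
    (hSC : ∀ c b, ∀ (X : Over S) (x y : X ⟶ Red.Ga S), Red.gaFn y = (sg c b : Γ(X.left, ⊤)) * Red.gaFn x →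
        (toUnit X ≫ n c) * (x ≫ v b) * (toUnit X ≫ n c)⁻¹ = y ≫ v (D.P.reflectionPerm c b)) :
    IsChev j v sg := by
  haveI : ∀ c, IsMonHom (v c) := fun c => (hv c).1
  haveI : ∀ c, IsMonHom (vd c) := fun c => (hvd c).1
  refine ⟨hsg, fun C _ _ c b x => ?_⟩
  have he : toUnit (Sp j C) ≫ e₁ = gp j (1 : C) := GaPts.gaFn_injective (by
    show Red.gaFn _ = Red.gaFn _
    rw [GaPts.gaFn_comp, he₁, map_one, gaFn_gp, map_one])
  have hpt : ∀ d (z : C), (toUnit (Sp j C) ≫ n c) * (gp j z ≫ v d) * (toUnit (Sp j C) ≫ n c)⁻¹ =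
      gp j ((sg c d : C) * z) ≫ v (D.P.reflectionPerm c d) := fun d z => hSC c d _ _ _ (by
    rw [gaFn_gp, gaFn_gp, map_mul, map_intCast])
  have hN : toUnit (Sp j C) ≫ n c = (gp j (1 : C) ≫ v c) * (gp j (-1 : C) ≫ vd c) * (gp j (1 : C) ≫ v c) := by
    rw [hn, gp_neg, GrpObj.inv_comp]
    simp only [MonObj.comp_mul, GrpObj.comp_inv, ← Category.assoc, he]
  have hdual : ∀ z : C, gp j z ≫ vd c = gp j (-(sg c c : C) * z) ≫ v (D.P.reflectionPerm c c) := fun z => by
    have := weyl_conj j avc havc hv c (hvd c) (-z)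
    rw [← hN, hpt, neg_neg] at this
    rw [← this, mul_neg, neg_mul]
  have : weyl j v C c (sg c c) = toUnit (Sp j C) ≫ n c := by
    rw [hN, hdual, weyl, neg_mul_neg, _root_.mul_one]
  rw [this, hpt]

end Groth.L14.Chev
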