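import Groth.Agent.L14.Chev.Adj
import Groth.Agent.L14.Chev.Dual

/-!
The rules governing the first order coefficients of a Chevalley system: the Weyl element fixes the extreme ones, they
are skew symmetric, and composing conjugations relates the ones of a string.
-/

set_option autoImplicit false
universe u

open CategoryTheory CategoryTheory.Limits AlgebraicGeometry MonoidalCategory CartesianMonoidalCategory MonObj
open Groth.L14.RankOne Groth.L25 Groth.L14.Chart

set_option backward.isDefEq.respectTransparency.types false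
set_option linter.style.haveILetI false

noncomputable section

namespace Groth.L14.Chev

variable {S : Scheme.{u}} {G : Over S} [GrpObj G] {D : Red.SplitRed G} {R : Type u} [CommRing R]
  {j : Spec (CommRingCat.of R) ⟶ S} [IsOpenImmersion j] {v : D.idx → (Red.Ga S ⟶ G)}
  (hv : ∀ c, Red.IsRootHom D.i (D.split.hom.hom.hom ≫ Red.chi S (D.P.root c)) (v c))

omit [IsOpenImmersion j] in
theorem root_self_refl (a : D.idx) : D.P.root (D.P.reflectionPerm a a) = -D.P.root a := by
  rw [D.P.root_reflectionPerm, D.P.reflection_apply_self]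

include hv in
/-- Commuting root subgroups. -/
theorem commute_roots {a b : D.idx} (h0 : D.P.root a + D.P.root b ≠ 0)
    (hab : D.P.root a + D.P.root b ∉ Set.range D.P.root) {C : Type u} [CommRing C] [Algebra R C] (x y : C) :
    (gp j x ≫ v a) * (gp j y ≫ v b) = (gp j y ≫ v b) * (gp j x ≫ v a) :=
  commute_of_no_combo j hv a b (fun _ _ hi hk => RootCombo.no_combo D.P h0 hab hi hk) x y

include hv in
/-- The conjugate by `a` of the reflected string. -/
theorem WeylAct.top {a b : D.idx} {s₀ t₀ : ℤ} (hW : WeylAct j v a b s₀ t₀) {A Gc : D.idx → R}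
    (hA : IsAdj j v a b A) (hG : IsAdj j v (D.P.reflectionPerm a a) (D.P.reflectionPerm a b) Gc)
    (h0 : D.P.root a + D.P.root (D.P.reflectionPerm a b) ≠ 0)
    (hadd : D.P.root a + D.P.root (D.P.reflectionPerm a b) ∉ Set.range D.P.root) (d : D.idx) :
    A d = (t₀ : R) * (-(s₀ : R)) ^ adeg (D.P.reflectionPerm a a) (D.P.reflectionPerm a b) d * Gc d := by
  haveI : ∀ c, IsMonHom (v c) := fun c => (hv c).1
  let C := DualNumber R
  let e : C := DualNumber.eps
  have he : e * e = 0 := DualNumber.eps_mul_eps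
  let s : C := (s₀ : C)
  let σ : C := (t₀ : C)
  have hσ : σ * e * (σ * e) = 0 := by linear_combination σ * σ * he
  have h1 := hW C e
  let E : Sp j C ⟶ G := gp j (1 : C) ≫ v a
  let W : Sp j C ⟶ G := gp j s ≫ v (D.P.reflectionPerm a a)
  let T : Sp j C ⟶ G := gp j (σ * e) ≫ v (D.P.reflectionPerm a b)
  have hET : E * T = T * E := commute_roots hv h0 hadd _ _
  have key : E * (gp j e ≫ v b) * E⁻¹ = W⁻¹ * T * W := by
    have h2 : E * W * E * (gp j e ≫ v b) * (E * W * E)⁻¹ = T := h1
    calc E * (gp j e ≫ v b) * E⁻¹ = W⁻¹ * (E⁻¹ * (E * W * E * (gp j e ≫ v b) * (E * W * E)⁻¹) * E) * W := by group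
      _ = W⁻¹ * (E⁻¹ * T * E) * W := by rw [h2]
      _ = W⁻¹ * (E⁻¹ * (E * T)) * W := by rw [hET]; group
      _ = W⁻¹ * T * W := by group
  have hWi : W⁻¹ = gp j (-s) ≫ v (D.P.reflectionPerm a a) := by rw [gp_neg, GrpObj.inv_comp]
  rw [hA.conj C 1 e he, ← inv_inv W, hWi, inv_inv (gp j (-s) ≫ v _),
    hG.conj C (-s) (σ * e) hσ] at key
  have hm : ∀ d, adjVec (D.P.reflectionPerm a a) (D.P.reflectionPerm a b) Gc (-s) (σ * e) d ∈ Ideal.span {e} :=
    fun d => Ideal.mul_mem_left _ _ (Ideal.mul_mem_left _ _ (Ideal.mem_span_singleton_self e))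
  have := congrFun (rp_injective j hv (isNilpotent_span_singleton he) (IsAdj.mem 1 e) hm key) d
  simp only [adjVec, one_pow, _root_.mul_one] at this
  refine smul_eps_injective (C := R) (this.trans ?_)
  simp only [s, σ, map_mul, map_pow, map_neg, map_intCast]
  ring

include hv in
/-- The coefficient of the reflected root. -/
theorem WeylAct.top_value {a b t : D.idx} {s₀ t₀ : ℤ} (hW : WeylAct j v a b s₀ t₀) {A : D.idx → R}
    (hA : IsAdj j v a b A) (ht : D.P.reflectionPerm a b = t) (hind : Indep D a t)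
    (hadd : D.P.root a + D.P.root t ∉ Set.range D.P.root) : A t = (t₀ : R) := by
  subst ht
  have h0 : D.P.root a + D.P.root (D.P.reflectionPerm a b) ≠ 0 := fun h => by
    have := (hind 1 1 (by rw [one_smul, one_smul]; exact h)).1
    omega
  have hi : Indep D (D.P.reflectionPerm a a) (D.P.reflectionPerm a b) := fun r s h => by
    have := hind (-r) s (by rw [root_self_refl, smul_neg] at h; rw [neg_smul]; exact h)
    omega
  obtain ⟨Gc, hG⟩ := exists_isAdj (j := j) hv _ _ hi
  rw [hW.top hv hA hG h0 hadd, adeg_self, pow_zero, hG.self, _root_.mul_one, _root_.mul_one]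

include hv in
/-- The coefficient next to the reflected root. -/
theorem WeylAct.top_second {a b t m : D.idx} {s₀ t₀ : ℤ} (hW : WeylAct j v a b s₀ t₀) {A Gc : D.idx → R}
    (hA : IsAdj j v a b A) (hG : IsAdj j v (D.P.reflectionPerm a a) t Gc) (ht : D.P.reflectionPerm a b = t)
    (hind : Indep D a t) (hadd : D.P.root a + D.P.root t ∉ Set.range D.P.root)
    (hm : D.P.root m + D.P.root a = D.P.root t) : A m = -(t₀ : R) * (s₀ : R) * Gc m := by
  subst ht
  have h0 : D.P.root a + D.P.root (D.P.reflectionPerm a b) ≠ 0 := fun h => by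
    have := (hind 1 1 (by rw [one_smul, one_smul]; exact h)).1
    omega
  rw [hW.top hv hA hG h0 hadd, adeg_eq (n := 1) (by rw [root_self_refl, one_smul, ← hm]; abel), pow_one]
  ring

include hv in
theorem IsChev.top {sg : D.idx → D.idx → ℤ} (hC : IsChev j v sg) {a b : D.idx} {A Gc : D.idx → R}
    (hA : IsAdj j v a b A) (hG : IsAdj j v (D.P.reflectionPerm a a) (D.P.reflectionPerm a b) Gc)
    (h0 : D.P.root a + D.P.root (D.P.reflectionPerm a b) ≠ 0)
    (hadd : D.P.root a + D.P.root (D.P.reflectionPerm a b) ∉ Set.range D.P.root) (d : D.idx) :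
    A d = (sg a b : R) * (-(sg a a : R)) ^ adeg (D.P.reflectionPerm a a) (D.P.reflectionPerm a b) d * Gc d :=
  (hC.weylAct a b).top hv hA hG h0 hadd d

include hv in
theorem IsChev.top_value {sg : D.idx → D.idx → ℤ} (hC : IsChev j v sg) {a b t : D.idx} {A : D.idx → R}
    (hA : IsAdj j v a b A) (ht : D.P.reflectionPerm a b = t) (hind : Indep D a t)
    (hadd : D.P.root a + D.P.root t ∉ Set.range D.P.root) : A t = (sg a b : R) :=
  (hC.weylAct a b).top_value hv hA ht hind hadd

include hv in
theorem IsChev.top_second {sg : D.idx → D.idx → ℤ} (hC : IsChev j v sg) {a b t m : D.idx} {A Gc : D.idx → R}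
    (hA : IsAdj j v a b A) (hG : IsAdj j v (D.P.reflectionPerm a a) t Gc) (ht : D.P.reflectionPerm a b = t)
    (hind : Indep D a t) (hadd : D.P.root a + D.P.root t ∉ Set.range D.P.root)
    (hm : D.P.root m + D.P.root a = D.P.root t) : A m = -(sg a b : R) * (sg a a : R) * Gc m :=
  (hC.weylAct a b).top_second hv hA hG ht hind hadd hm

include hv in
/-- Conjugation between two square zero parameters. -/
theorem IsAdj.conj_sqzero {p q d : D.idx} {A : D.idx → R} (hA : IsAdj j v p q A) (hpq : Indep D p q)
    (hd : D.P.root d = D.P.root p + D.P.root q) {C : Type u} [CommRing C] [Algebra R C] (x y : C)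
    (hx : x * x = 0) (hy : y * y = 0) :
    (gp j x ≫ v p) * (gp j y ≫ v q) * (gp j x ≫ v p)⁻¹ =
      (gp j y ≫ v q) * (gp j (algebraMap R C (A d) * (x * y)) ≫ v d) := by
  classical
  have hne : d ≠ q := fun e => by
    have := (hpq 1 0 (by rw [one_smul, zero_smul, add_zero]; simpa [e] using hd)).1
    omega
  rw [hA.conj C x y hy, ← rp_single j hv, ← rp_single j hv]
  rw [← rp_add j hv (span_singleton_sqzero hy)]
  · congr 1
    funext e
    rw [Pi.add_apply, adjVec]
    by_cases he : e = q
    · subst he; rw [Pi.single_eq_same, Pi.single_eq_of_ne hne.symm, adeg_self, hA.self]; simp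
    rw [Pi.single_eq_of_ne he]
    by_cases he' : e = d
    · subst he'
      rw [Pi.single_eq_same, adeg_eq (n := 1) (by rw [one_smul, hd, add_comm]), pow_one, zero_add, _root_.mul_assoc]
    rw [Pi.single_eq_of_ne he', zero_add]
    by_cases hA0 : A e = 0
    · simp [hA0]
    obtain ⟨k, hk⟩ := hA.supp e hA0
    rw [adeg_eq hk]
    match k, hk with
    | 0, hk => exact absurd (D.P.root.injective (by simpa using hk)) he
    | 1, hk => exact absurd (D.P.root.injective (by rw [hk, hd, one_smul, add_comm])) he'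
    | k + 2, _ => rw [pow_add, pow_two x, hx, mul_zero, mul_zero, zero_mul]
  · intro e
    by_cases he : e = q
    · subst he; rw [Pi.single_eq_same]; exact Ideal.mem_span_singleton_self y
    · rw [Pi.single_eq_of_ne he]; exact Submodule.zero_mem _
  · intro e
    by_cases he : e = d
    · subst he; rw [Pi.single_eq_same]
      exact Ideal.mul_mem_left _ _ (Ideal.mul_mem_left _ _ (Ideal.mem_span_singleton_self y))
    · rw [Pi.single_eq_of_ne he]; exact Submodule.zero_mem _

omit [IsOpenImmersion j] in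
theorem eq_zero_of_mul_eps_eps (r : R)
    (h : algebraMap R (DualNumber (DualNumber R)) r * (TrivSqZeroExt.inl DualNumber.eps * DualNumber.eps) = 0) :
    r = 0 := by
  have h2 := congrArg TrivSqZeroExt.snd (congrArg TrivSqZeroExt.snd h)
  simpa [TrivSqZeroExt.algebraMap_eq_inl'] using h2

theorem skew_group {Γ : Type*} [Group Γ] {P Q a b : Γ} (h1 : P * Q * P⁻¹ = Q * a) (h2 : Q * P * Q⁻¹ = P * b)
    (ha : Commute a P) (hb : Commute b Q) : b * a = 1 := by
  rw [mul_inv_eq_iff_eq_mul] at h1 h2
  rw [_root_.mul_assoc, ha.eq, ← _root_.mul_assoc] at h1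
  rw [_root_.mul_assoc, hb.eq, ← _root_.mul_assoc] at h2
  rw [h2, _root_.mul_assoc (P * Q)] at h1
  exact mul_left_cancel (h1.symm.trans (_root_.mul_one _).symm)

include hv in
theorem IsAdj.skew_sqzero {p q d : D.idx} {A B : D.idx → R} (hA : IsAdj j v p q A) (hB : IsAdj j v q p B)
    (hpq : Indep D p q) (hd : D.P.root d = D.P.root p + D.P.root q) {C : Type u} [CommRing C] [Algebra R C]
    (x y : C) (hx : x * x = 0) (hy : y * y = 0) : algebraMap R C (B d + A d) * (x * y) = 0 := by
  classical
  have e1 := hA.conj_sqzero hv hpq hd x y hx hy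
  have e2 := hB.conj_sqzero hv hpq.symm (by rw [hd, add_comm]) y x hy hx
  rw [mul_comm y x] at e2
  have hxy0 : x * y * (x * y) = 0 := by linear_combination y * y * hx
  have hone := skew_group e1 e2
    (commute_sqzero j hv d p (by linear_combination algebraMap R C (A d) ^ 2 * hxy0) hx
      (by linear_combination algebraMap R C (A d) * y * hx))
    (commute_sqzero j hv d q (by linear_combination algebraMap R C (B d) ^ 2 * hxy0) hy
      (by linear_combination algebraMap R C (B d) * x * hy))
  have hin : ∀ (r : R) e, (Pi.single d (algebraMap R C r * (x * y)) : D.idx → C) e ∈ Ideal.span {x * y} := fun r e => by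
    by_cases he : e = d
    · subst he; rw [Pi.single_eq_same]; exact Ideal.mul_mem_left _ _ (Ideal.mem_span_singleton_self _)
    · rw [Pi.single_eq_of_ne he]; exact Submodule.zero_mem _
  rw [← rp_single j hv, ← rp_single j hv, ← rp_add j hv (span_singleton_sqzero hxy0) (hin _) (hin _)] at hone
  have := congrFun (rp_injective j hv (isNilpotent_span_singleton hxy0)
    (fun e => Submodule.add_mem _ (hin _ e) (hin _ e)) (fun e => Submodule.zero_mem _)
    (hone.trans (rp_zero j hv).symm)) d
  rw [Pi.single_eq_same, Pi.single_eq_same, ← add_mul, ← map_add] at this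
  exact this

include hv in
/-- The coefficients of a sum are skew symmetric. -/
theorem IsAdj.swap {p q d : D.idx} {A B : D.idx → R} (hA : IsAdj j v p q A) (hB : IsAdj j v q p B)
    (hpq : Indep D p q) (hd : D.P.root d = D.P.root p + D.P.root q) : A d = -B d := by
  have hx : (TrivSqZeroExt.inl DualNumber.eps : DualNumber (DualNumber R)) * TrivSqZeroExt.inl DualNumber.eps = 0 := by
    rw [← TrivSqZeroExt.inl_mul, DualNumber.eps_mul_eps, TrivSqZeroExt.inl_zero]
  have h := hA.skew_sqzero hv hB hpq hd (C := DualNumber (DualNumber R)) _ _ hx DualNumber.eps_mul_eps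
  linear_combination eq_zero_of_mul_eps_eps _ h

include hv in
/-- Composition along a string. -/
theorem IsAdj.comp_mid {a c : D.idx} (hac : Indep D a c) {A : D.idx → R} (hA : IsAdj j v a c A) {n : ℕ}
    (mid : Fin (n + 1) → D.idx) (hmid : ∀ k, D.P.root (mid k) = D.P.root c + (k : ℕ) • D.P.root a)
    (B : Fin (n + 1) → D.idx → R) (hB : ∀ k, IsAdj j v a (mid k) (B k))
    {C : Type u} [CommRing C] [Algebra R C] (x x' : C) :
    algebraMap R C (A (mid (Fin.last n))) * (x + x') ^ n =
      ∑ k : Fin (n + 1), algebraMap R C (A (mid k) * B k (mid (Fin.last n))) * x' ^ (k : ℕ) * x ^ (n - k) := by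
  classical
  haveI : IsAddTorsionFree D.M := .of_isTorsionFree ℤ D.M
  have hdeg : ∀ k, adeg a c (mid k) = (k : ℕ) := fun k => adeg_eq (hmid k)
  have hinj : Function.Injective mid := fun k k' h => Fin.ext (by rw [← hdeg, h, hdeg])
  let Bf : D.idx → D.idx → R := fun m =>
    if h : ∃ k, mid k = m then B h.choose
    else if h' : Indep D a m then (exists_isAdj (j := j) hv a m h').choose else 0
  have hBf : ∀ m, A m ≠ 0 → IsAdj j v a m (Bf m) := fun m hm => by
    obtain ⟨k, hk⟩ := hA.supp m hm
    have hind : Indep D a m := hac.of_combo (r := 1) (s := 0) (t := (k : ℤ)) (w := 1)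
      (by simp) (by rw [natCast_zsmul, one_smul, hk, add_comm]) (by simp)
    simp only [Bf]
    split_ifs with h
    · convert hB h.choose
      exact h.choose_spec.symm
    · exact (exists_isAdj (j := j) hv a m hind).choose_spec
  have h := hA.comp hv Bf hBf (mid (Fin.last n)) x x'
  rw [hdeg, Fin.val_last] at h
  rw [h, ← Finset.sum_subset (Finset.subset_univ (Finset.univ.image mid)), Finset.sum_image fun k _ k' _ h => hinj h]
  · refine Finset.sum_congr rfl fun k _ => ?_
    have hk : Bf (mid k) = B k := by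
      have he : ∃ k', mid k' = mid k := ⟨k, rfl⟩
      simp only [Bf, dif_pos he]
      exact congrArg B (hinj he.choose_spec)
    rw [hdeg, hk, adeg_eq (n := n - k) (show D.P.root (mid (Fin.last n)) = D.P.root (mid k) + (n - k) • D.P.root a by
      rw [hmid, hmid, Fin.val_last, add_assoc, ← add_smul, Nat.add_sub_cancel' (Nat.le_of_lt_succ k.2)]), map_mul]
    ring
  · intro m _ hm
    by_cases hA0 : A m = 0
    · simp [hA0]
    obtain ⟨k, hk⟩ := hA.supp m hA0
    by_cases hB0 : Bf m (mid (Fin.last n)) = 0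
    · simp [hB0]
    obtain ⟨l, hl⟩ := (hBf m hA0).supp _ hB0
    have hkl : n = k + l := by
      rw [← Fin.val_last n, ← hdeg]
      exact adeg_eq (by rw [hl, hk, add_smul, add_assoc])
    exact absurd (Finset.mem_image.2 ⟨⟨k, by omega⟩, Finset.mem_univ _,
      D.P.root.injective ((hmid _).trans hk.symm)⟩) hm

include hv in
/-- The composition law for a string of three roots. -/
theorem IsAdj.comp_two {a c c₁ c₂ : D.idx} (hac : Indep D a c) {A B : D.idx → R} (hA : IsAdj j v a c A)
    (hB : IsAdj j v a c₁ B) (h₁ : D.P.root c₁ = D.P.root c + D.P.root a)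
    (h₂ : D.P.root c₂ = D.P.root c + (2 : ℕ) • D.P.root a) : 2 * A c₂ = A c₁ * B c₂ := by
  have hi : Indep D a c₂ := hac.of_combo (r := 1) (s := 0) (t := 2) (w := 1) (by simp)
    (by rw [h₂, one_smul, add_comm, ofNat_zsmul]) (by simp)
  obtain ⟨C, hC⟩ := exists_isAdj (j := j) hv a c₂ hi
  have := hA.comp_mid hv hac ![c, c₁, c₂] (by simp [Fin.forall_fin_succ, h₁, h₂]) ![A, B, C]
    (by intro k; fin_cases k <;> assumption) (C := R) 1 1
  simp [Fin.sum_univ_three, hA.self, hC.self] at this
  linear_combination this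

include hv in
/-- The composition laws for a string of four roots. -/
theorem IsAdj.comp_three {a c c₁ c₂ c₃ : D.idx} (hac : Indep D a c) {A B₁ B₂ : D.idx → R} (hA : IsAdj j v a c A)
    (hB₁ : IsAdj j v a c₁ B₁) (hB₂ : IsAdj j v a c₂ B₂) (h₁ : D.P.root c₁ = D.P.root c + D.P.root a)
    (h₂ : D.P.root c₂ = D.P.root c + (2 : ℕ) • D.P.root a)
    (h₃ : D.P.root c₃ = D.P.root c + (3 : ℕ) • D.P.root a) :
    3 * A c₃ = A c₁ * B₁ c₃ ∧ 3 * A c₃ = A c₂ * B₂ c₃ := by
  have hi : Indep D a c₃ := hac.of_combo (r := 1) (s := 0) (t := 3) (w := 1) (by simp)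
    (by rw [h₃, one_smul, add_comm, ofNat_zsmul]) (by simp)
  obtain ⟨C, hC⟩ := exists_isAdj (j := j) hv a c₃ hi
  have h := hA.comp_mid hv hac ![c, c₁, c₂, c₃] (by simp [Fin.forall_fin_succ, h₁, h₂, h₃]) ![A, B₁, B₂, C]
    (by intro k; fin_cases k <;> assumption) (C := Polynomial R) Polynomial.X 1
  rw [show (Polynomial.X + 1 : Polynomial R) = Polynomial.X + Polynomial.C 1 by rw [map_one]] at h
  simp [Fin.sum_univ_four, hA.self, hC.self, ← Polynomial.C_eq_algebraMap] at h
  have e2 := congrArg (Polynomial.coeff · 2) h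
  have e1 := congrArg (Polynomial.coeff · 1) h
  simp [Polynomial.coeff_C, Polynomial.coeff_X, Polynomial.coeff_X_pow, Polynomial.coeff_X_add_one_pow,
    Polynomial.coeff_C_mul, _root_.mul_assoc] at e1 e2
  exact ⟨by linear_combination e2, by linear_combination e1⟩

end Groth.L14.Chev
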