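import Groth.Agent.L14.Chev.Rules
import Groth.Agent.L25.RankOne.Abs
import Groth.Agent.L14.RankOne.GenRel

/-!
Conjugation by Weyl elements of dual pairs: the torus is reflected and root homomorphisms go to root homomorphisms of
reflected roots.
-/

set_option autoImplicit false
universe u

open CategoryTheory CategoryTheory.Limits AlgebraicGeometry MonoidalCategory CartesianMonoidalCategory MonObj
open Groth.L14.RankOne Groth.L25 Groth.L14.Chart

set_option backward.isDefEq.respectTransparency.types false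
set_option linter.style.haveILetI false

noncomputable section

namespace Groth.L14.Chev

variable {S : Scheme.{u}} {G : Over S} [GrpObj G]

/-- Conjugation by a point. -/
def inner (n : 𝟙_ (Over S) ⟶ G) : G ⟶ G := (toUnit G ≫ n) * 𝟙 G * (toUnit G ≫ n)⁻¹

theorem comp_inner (n : 𝟙_ (Over S) ⟶ G) {X : Over S} (g : X ⟶ G) :
    g ≫ inner n = (toUnit X ≫ n) * g * (toUnit X ≫ n)⁻¹ := by
  rw [inner, MonObj.comp_mul, MonObj.comp_mul, GrpObj.comp_inv, Category.comp_id, ← Category.assoc, comp_toUnit]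

theorem inner_inner (n : 𝟙_ (Over S) ⟶ G) : inner n ≫ inner n⁻¹ = 𝟙 G := by
  rw [comp_inner, GrpObj.comp_inv, inner]
  group

theorem isIso_inner (n : 𝟙_ (Over S) ⟶ G) : IsIso (inner n) :=
  ⟨inner n⁻¹, inner_inner n, by simpa using inner_inner n⁻¹⟩

theorem isMonHom_inner (n : 𝟙_ (Over S) ⟶ G) : IsMonHom (inner n) :=
  Groth.L25.Bridge.isMonHom_of_mul (inner n) fun Y a b => by
    rw [comp_inner, comp_inner, comp_inner]
    group

/-- The conjugate of a family member by a point. -/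
def conjHom (n : 𝟙_ (Over S) ⟶ G) (f : Red.Ga S ⟶ G) : Red.Ga S ⟶ G := f ≫ inner n

theorem comp_conjHom (n : 𝟙_ (Over S) ⟶ G) (f : Red.Ga S ⟶ G) {X : Over S} (x : X ⟶ Red.Ga S) :
    x ≫ conjHom n f = (toUnit X ≫ n) * (x ≫ f) * (toUnit X ≫ n)⁻¹ := by
  rw [conjHom, ← Category.assoc, comp_inner]

variable {D : Red.SplitRed G}

/-- The character of the reflected point. -/
def reflChar {C : Type u} [CommRing C] (a : D.idx) (χ : Multiplicative D.M →* C) : Multiplicative D.M →* C :=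
  χ.comp (AddMonoidHom.toMultiplicative (D.P.reflection a).toLinearMap.toAddMonoidHom)

theorem reflChar_root {C : Type u} [CommRing C] (a g : D.idx) (χ : Multiplicative D.M →* C) :
    reflChar a χ (Multiplicative.ofAdd (D.P.root g)) =
      χ (Multiplicative.ofAdd (D.P.root (D.P.reflectionPerm a g))) := by
  rw [D.P.root_reflectionPerm]
  rfl

theorem reflChar_reflChar {C : Type u} [CommRing C] (a : D.idx) (χ : Multiplicative D.M →* C) :
    reflChar a (reflChar a χ) = χ :=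
  MonoidHom.ext fun m => congrArg χ (congrArg Multiplicative.ofAdd (D.P.reflection_same a m.toAdd))

/-- `n` normalises the torus and acts on it by the reflection in `a`. -/
def ActsBy (n : 𝟙_ (Over S) ⟶ G) (a : D.idx) : Prop :=
  ∀ (R : Type u) [CommRing R] (j : Spec (CommRingCat.of R) ⟶ S) [IsOpenImmersion j] (C : Type u) [CommRing C]
    [Algebra R C] (χ : Multiplicative D.M →* C),
    (toUnit (Sp j C) ≫ n) * (tpt D j χ ≫ D.i) * (toUnit (Sp j C) ≫ n)⁻¹ = tpt D j (reflChar a χ) ≫ D.i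

/-- The conjugate of a root homomorphism by a normalising point is a root homomorphism of the reflected root. -/
theorem isRootHom_conjHom {n : 𝟙_ (Over S) ⟶ G} {a g g' : D.idx} (hn : ActsBy n a)
    (hg : D.P.reflectionPerm a g = g') {f : Red.Ga S ⟶ G}
    (hf : Red.IsRootHom D.i (D.split.hom.hom.hom ≫ Red.chi S (D.P.root g)) f) :
    Red.IsRootHom D.i (D.split.hom.hom.hom ≫ Red.chi S (D.P.root g')) (conjHom n f) := by
  haveI := hf.1
  haveI := isMonHom_inner n
  haveI := isIso_inner n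
  haveI : IsIso (inner n).left := inferInstanceAs (IsIso ((Over.forget S).map (inner n)))
  haveI := hf.2.1
  subst hg
  refine ⟨by unfold conjHom; infer_instance, ?_, fun X t x => ⟨GaPts.ptOfElt
    (Red.gmFn (t ≫ D.split.hom.hom.hom ≫ Red.chi S (D.P.root (D.P.reflectionPerm a g))) * Red.gaFn x), ?_,
    GaPts.gaFn_ptOfElt _⟩⟩
  · unfold conjHom
    rw [Over.comp_left]
    infer_instance
  refine hom_ext_open fun R _ j _ C _ _ s => ?_
  simp only [MonObj.comp_mul, GrpObj.comp_inv, ← Category.assoc, GaPts.ptOfElt_comp]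
  rw [← gp_gv (s ≫ x)]
  obtain ⟨χ, hχ⟩ := exists_tpt (D := D) j (s ≫ t)
  rw [← hχ, comp_conjHom, comp_conjHom]
  have h1 : (toUnit (Sp j C) ≫ n)⁻¹ * (tpt D j χ ≫ D.i) * (toUnit (Sp j C) ≫ n) = tpt D j (reflChar a χ) ≫ D.i := by
    have h := hn R j C (reflChar a χ)
    rw [reflChar_reflChar] at h
    rw [← h]
    group
  obtain ⟨y, hy, hy'⟩ := hf.2.2 _ (tpt D j (reflChar a χ)) (gp j (gv (s ≫ x)))
  have hyc : y ≫ f = GaPts.ptOfElt (s.left.appTop
      (Red.gmFn (t ≫ D.split.hom.hom.hom ≫ Red.chi S (D.P.root (D.P.reflectionPerm a g))) * Red.gaFn x)) ≫ f := by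
    refine congrArg (· ≫ f) (GaPts.gaFn_injective ?_)
    change Red.gaFn y = Red.gaFn (GaPts.ptOfElt _ : Sp j C ⟶ Red.Ga S)
    rw [hy', gmFn_tpt_chi, reflChar_root, GaPts.gaFn_ptOfElt, map_mul, gp_gv, GaPts.gaFn_comp]
    congr 1
    rw [← GmPts.gmFn_comp, ← Category.assoc s t, ← hχ]
    exact (gmFn_tpt_chi j χ _).symm
  simp only [Category.assoc t] at hyc ⊢
  rw [← hyc, hy, ← h1]
  group

variable (avc : D.idx → (Red.Gm S ⟶ D.T))
  (havc : ∀ a, avc a = Red.DSmap S (D.P.coroot a).toAddMonoidHom ≫ D.split.inv.hom.hom)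
  {v : D.idx → (Red.Ga S ⟶ G)}
  (hv : ∀ c, Red.IsRootHom D.i (D.split.hom.hom.hom ≫ Red.chi S (D.P.root c)) (v c))
  {R : Type u} [CommRing R] (j : Spec (CommRingCat.of R) ⟶ S) [IsOpenImmersion j]

include havc hv in
omit [IsOpenImmersion j] in
/-- The relations of a dual pair on points. -/
def pairRel (a : D.idx) (hd : DualAt avc v (fun c => v (D.P.reflectionPerm c c)) a) (C : Type u) [CommRing C]
    [Algebra R C] : Groth.L25.RankOne.Rel C (Sp j C ⟶ G) (Multiplicative D.M →* C) where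
  a r := gp j r ≫ v a
  b r := gp j r ≫ v (D.P.reflectionPerm a a)
  h := hpt j avc a
  j χ := tpt D j χ ≫ D.i
  χ χ := χ.toHomUnits (Multiplicative.ofAdd (D.P.root a))
  a_add r s := by haveI := (hv a).1; rw [gp_add, MonObj.mul_comp]
  b_add r s := by haveI := (hv (D.P.reflectionPerm a a)).1; rw [gp_add, MonObj.mul_comp]
  h_mul := hpt_mul j avc havc a
  conj_a χ r := by rw [conj_root j hv]; rfl
  conj_b χ r := by
    rw [conj_root j hv, root_self_refl, ofAdd_neg, ← MonoidHom.coe_toHomUnits χ, map_inv]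
  h_conj_a z r := by
    rw [hpt_conj j avc havc hv, D.P.pairing_same, show z ^ (2 : ℤ) = z * z by rw [zpow_two], Units.val_mul]
  h_conj_b z r := by
    rw [hpt_conj j avc havc hv, D.P.pairing_reflectionPerm_self_left, D.P.pairing_same,
      show z ^ (-2 : ℤ) = z⁻¹ * z⁻¹ by rw [zpow_neg, zpow_two, mul_inv], Units.val_mul]
  comm x y u hu := by
    rw [dual_pt j avc a hd x y u hu, mul_comm (↑u⁻¹ : C) y, mul_comm (↑u⁻¹ : C) x]

variable (e₁ : 𝟙_ (Over S) ⟶ Red.Ga S) (he₁ : Red.gaFn e₁ = 1)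

include he₁ hv in
omit [IsOpenImmersion j] in
/-- The point form of a global Weyl element. -/
theorem toUnit_weyl (a : D.idx) {w : 𝟙_ (Over S) ⟶ G}
    (hw : w = (e₁ ≫ v a) * (e₁ ≫ v (D.P.reflectionPerm a a))⁻¹ * (e₁ ≫ v a)) (C : Type u) [CommRing C] [Algebra R C] :
    toUnit (Sp j C) ≫ w = weyl j v C a (-1) := by
  haveI := (hv (D.P.reflectionPerm a a)).1
  have he : toUnit (Sp j C) ≫ e₁ = gp j (1 : C) := GaPts.gaFn_injective (by
    show Red.gaFn _ = Red.gaFn _
    rw [GaPts.gaFn_comp, he₁, map_one, gaFn_gp, map_one])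
  rw [hw, weyl, Int.cast_neg, Int.cast_one, gp_neg, GrpObj.inv_comp]
  simp only [MonObj.comp_mul, GrpObj.comp_inv, ← Category.assoc, he]

include havc hv he₁ in
omit [IsOpenImmersion j] in
/-- The Weyl element of a dual pair reflects the torus. -/
theorem actsBy_weyl (a : D.idx) (hd : DualAt avc v (fun c => v (D.P.reflectionPerm c c)) a) {w : 𝟙_ (Over S) ⟶ G}
    (hw : w = (e₁ ≫ v a) * (e₁ ≫ v (D.P.reflectionPerm a a))⁻¹ * (e₁ ≫ v a)) : ActsBy w a := by
  intro R _ j _ C _ _ χ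
  haveI := isMonHom_i (D := D)
  let P := pairRel avc havc hv j a hd C
  have h1 : toUnit (Sp j C) ≫ w = P.w 1 := by
    rw [toUnit_weyl hv j e₁ he₁ a hw, weyl]
    simp [Groth.L25.RankOne.Rel.w, P, pairRel]
  rw [h1]
  refine (P.w_conj_j 1 χ).trans ?_
  rw [← P.h_inv]
  show (up j _ ≫ avc a ≫ D.i) * (tpt D j χ ≫ D.i) = _
  rw [← Category.assoc, up_avc j avc havc, ← MonObj.mul_comp, ← tpt_mul]
  congr 2
  refine MonoidHom.ext fun m => ?_
  have e : Multiplicative.ofAdd (D.P.reflection a m.toAdd) =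
      m * (Multiplicative.ofAdd (D.P.root a)) ^ (-(D.P.coroot a m.toAdd)) := by
    have hc : D.P.coroot' a m.toAdd = D.P.coroot a m.toAdd := by
      show D.P.toLinearMap m.toAdd (D.P.coroot a) = _
      rw [D.pairing_eq]; rfl
    rw [D.P.reflection_apply, hc, ← ofAdd_zsmul]
    refine Multiplicative.toAdd.injective ?_
    simp [sub_eq_add_neg]
  show _ = χ (Multiplicative.ofAdd (D.P.reflection a m.toAdd))
  rw [e, ← MonoidHom.coe_toHomUnits χ (m * _), map_mul, map_zpow, Units.val_mul, MonoidHom.coe_toHomUnits,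
    zpow_neg, ← inv_zpow, mul_comm (χ m)]
  rfl

include havc hv he₁ in
omit [IsOpenImmersion j] in
/-- The Weyl element of a dual pair on its own root. -/
theorem weyl_self (a : D.idx) (hd : DualAt avc v (fun c => v (D.P.reflectionPerm c c)) a) {w : 𝟙_ (Over S) ⟶ G}
    (hw : w = (e₁ ≫ v a) * (e₁ ≫ v (D.P.reflectionPerm a a))⁻¹ * (e₁ ≫ v a)) {C : Type u} [CommRing C] [Algebra R C]
    (x : C) : (toUnit (Sp j C) ≫ w) * (gp j x ≫ v a) * (toUnit (Sp j C) ≫ w)⁻¹ =
      gp j (-x) ≫ v (D.P.reflectionPerm a a) := by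
  rw [toUnit_weyl hv j e₁ he₁ a hw, weyl, Int.cast_neg, Int.cast_one]
  exact weyl_conj j avc havc hv a hd x

end Groth.L14.Chev
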