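import Groth.Agent.L14.Chev.Listed

/-!
The commutator of a short and a long root making the angle of a base of a system of type G₂.
-/

set_option autoImplicit false
universe u

open CategoryTheory CategoryTheory.Limits AlgebraicGeometry MonoidalCategory CartesianMonoidalCategory MonObj
open Groth.L14.RankOne Groth.L25 Groth.L14.Chart

set_option backward.isDefEq.respectTransparency.types false
set_option linter.style.haveILetI false

noncomputable section

namespace Groth.L14.Chev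

section Word

variable {A : Type*} [CommRing A] {Γ : Type*} [Group Γ]

/-- Normal words in five additive families. -/
def word (P₀ P₁ P₂ P₃ P₄ : A → Γ) (y r s u e : A) : Γ := P₀ y * P₁ r * P₂ s * P₃ u * P₄ e

/-- The product of two normal words. -/
theorem word_mul (P₀ P₁ P₂ P₃ P₄ : A → Γ)
    (a₀ : ∀ x y, P₀ (x + y) = P₀ x * P₀ y) (a₁ : ∀ x y, P₁ (x + y) = P₁ x * P₁ y)
    (a₂ : ∀ x y, P₂ (x + y) = P₂ x * P₂ y) (a₃ : ∀ x y, P₃ (x + y) = P₃ x * P₃ y)
    (a₄ : ∀ x y, P₄ (x + y) = P₄ x * P₄ y)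
    (c₁₀ : ∀ x y, Commute (P₁ x) (P₀ y)) (c₂₀ : ∀ x y, Commute (P₂ x) (P₀ y))
    (c₄₀ : ∀ x y, Commute (P₄ x) (P₀ y)) (c₃₁ : ∀ x y, Commute (P₃ x) (P₁ y))
    (c₄₁ : ∀ x y, Commute (P₄ x) (P₁ y)) (c₃₂ : ∀ x y, Commute (P₃ x) (P₂ y))
    (c₄₂ : ∀ x y, Commute (P₄ x) (P₂ y)) (c₄₃ : ∀ x y, Commute (P₄ x) (P₃ y))
    {N F : A} (h₃₀ : ∀ u y, P₃ u * P₀ y = P₀ y * P₃ u * P₄ (-(N * u * y)))
    (h₂₁ : ∀ s r, P₂ s * P₁ r = P₁ r * P₂ s * P₄ (F * s * r)) (y r s u e y' r' s' u' e' : A) :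
    word P₀ P₁ P₂ P₃ P₄ y r s u e * word P₀ P₁ P₂ P₃ P₄ y' r' s' u' e' =
      word P₀ P₁ P₂ P₃ P₄ (y + y') (r + r') (s + s') (u + u') (e + e' - N * u * y' + F * s * r') := by
  have k₀ : P₀ y * P₁ r * P₂ s * P₃ u * P₄ e * P₀ y' =
      P₀ (y + y') * P₁ r * P₂ s * P₃ u * P₄ (e - N * u * y') := by
    calc P₀ y * P₁ r * P₂ s * P₃ u * P₄ e * P₀ y'
        = P₀ y * P₁ r * P₂ s * (P₃ u * P₀ y') * P₄ e := by
          rw [_root_.mul_assoc _ (P₄ e), (c₄₀ e y').eq]; group
      _ = P₀ y * P₁ r * (P₂ s * P₀ y') * P₃ u * (P₄ (-(N * u * y')) * P₄ e) := by rw [h₃₀]; group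
      _ = P₀ y * (P₁ r * P₀ y') * P₂ s * P₃ u * (P₄ (-(N * u * y')) * P₄ e) := by rw [(c₂₀ s y').eq]; group
      _ = _ := by
          rw [(c₁₀ r y').eq, ← a₄, a₀, show -(N * u * y') + e = e - N * u * y' by ring]; group
  have k₁ : ∀ z w, P₀ z * P₁ r * P₂ s * P₃ u * P₄ w * P₁ r' =
      P₀ z * P₁ (r + r') * P₂ s * P₃ u * P₄ (w + F * s * r') := by
    intro z w
    calc P₀ z * P₁ r * P₂ s * P₃ u * P₄ w * P₁ r'
        = P₀ z * P₁ r * P₂ s * (P₃ u * P₁ r') * P₄ w := by
          rw [_root_.mul_assoc _ (P₄ w), (c₄₁ w r').eq]; group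
      _ = P₀ z * P₁ r * (P₂ s * P₁ r') * P₃ u * P₄ w := by rw [(c₃₁ u r').eq]; group
      _ = P₀ z * P₁ r * P₁ r' * P₂ s * (P₄ (F * s * r') * P₃ u) * P₄ w := by rw [h₂₁]; group
      _ = _ := by
          rw [(c₄₃ (F * s * r') u).eq, a₁, show w + F * s * r' = F * s * r' + w by ring, a₄]; group
  have k₂ : ∀ z q w, P₀ z * P₁ q * P₂ s * P₃ u * P₄ w * P₂ s' =
      P₀ z * P₁ q * P₂ (s + s') * P₃ u * P₄ w := by
    intro z q w
    calc P₀ z * P₁ q * P₂ s * P₃ u * P₄ w * P₂ s'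
        = P₀ z * P₁ q * P₂ s * (P₃ u * P₂ s') * P₄ w := by
          rw [_root_.mul_assoc _ (P₄ w), (c₄₂ w s').eq]; group
      _ = _ := by rw [(c₃₂ u s').eq, a₂]; group
  have k₃ : ∀ z q t w, P₀ z * P₁ q * P₂ t * P₃ u * P₄ w * P₃ u' = P₀ z * P₁ q * P₂ t * P₃ (u + u') * P₄ w := by
    intro z q t w
    rw [_root_.mul_assoc _ (P₄ w), (c₄₃ w u').eq, a₃]; group
  unfold word
  simp only [← _root_.mul_assoc]
  rw [k₀, k₁, k₂, k₃, _root_.mul_assoc _ (P₄ _) (P₄ e'), ← a₄]
  congr 2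
  ring

end Word

variable {S : Scheme.{u}} {G : Over S} [GrpObj G] {D : Red.SplitRed G} {R : Type u} [CommRing R]
  {j : Spec (CommRingCat.of R) ⟶ S} [IsOpenImmersion j]
  {v : D.idx → (Red.Ga S ⟶ G)} (hv : ∀ c, Red.IsRootHom D.i (D.split.hom.hom.hom ≫ Red.chi S (D.P.root c)) (v c))

/-- The exponents of the roots between a short and a long simple root of a system of type G₂. -/
abbrev quadG : List (ℕ × ℕ) := [(1, 1), (2, 1), (3, 1), (3, 2)]

theorem quadrant_g2 {a b c₁ c₂ : D.idx} (hab : Indep D a b) (hba : D.P.pairing b a = -3)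
    (h₁ : D.P.root c₁ = D.P.root a + D.P.root b) (h₂ : D.P.root c₂ = (2 : ℤ) • D.P.root a + D.P.root b)
    {i k : ℕ} (hi : 1 ≤ i) (hk : 1 ≤ k) {d : D.idx} (hd : D.P.root d = i • D.P.root a + k • D.P.root b) :
    (i, k) ∈ quadG := by
  have hp := hab.pairs
  simp only [Set.mem_insert_iff, Set.mem_singleton_iff, Prod.mk.injEq] at hp
  have hab' : D.P.pairing a b = -1 := by omega
  have z₁ : D.P.root c₁ = (1 : ℤ) • D.P.root a + (1 : ℤ) • D.P.root b := by rw [h₁, one_smul, one_smul]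
  have z₂ : D.P.root c₂ = (2 : ℤ) • D.P.root a + (1 : ℤ) • D.P.root b := by rw [h₂, one_smul]
  have dbl : ∀ {c : D.idx} {r : ℤ}, D.P.root c = r • D.P.root a + (1 : ℤ) • D.P.root b → (r = 1 ∨ r = 2) →
      (2 * r) • D.P.root a + (2 : ℤ) • D.P.root b ∉ Set.range D.P.root := by
    intro c r hc hr ⟨d, hd⟩
    have hd' : D.P.root d = (2 : ℤ) • D.P.root c := by rw [hd, hc]; module
    have hac : Indep D a c := hab.of_combo (r := 1) (s := 0) (by simp) hc (by simp)
    have hbc : Indep D b c := hab.of_combo (r := 0) (s := 1) (by simp) hc (by omega)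
    have h1 := pairing_double hd' a
    have h1' := pairing_double hd' b
    have e := RootCombo.pairing_of_eq D.P hc c
    have ea := RootCombo.pairing_of_eq D.P hc a
    have eb := RootCombo.pairing_of_eq D.P hc b
    rw [D.P.pairing_same] at e ea eb
    have p1 := hac.pairs
    have p2 := hbc.pairs
    simp only [Set.mem_insert_iff, Set.mem_singleton_iff, Prod.mk.injEq] at p1 p2
    rcases hr with rfl | rfl <;> omega
  have n : ∀ r s : ℕ, ((r : ℤ) • D.P.root a + (s : ℤ) • D.P.root b ∉ Set.range D.P.root) →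
      r • D.P.root a + s • D.P.root b ∉ Set.range D.P.root := fun r s h => by
    rwa [natCast_zsmul, natCast_zsmul] at h
  have n12 := n 1 2 (not_root_of_pairing hab (by norm_num) (Or.inr (by rw [hba]; norm_num)))
  have n22 := n 2 2 (dbl z₁ (Or.inl rfl))
  have n41 := n 4 1 (not_root_of_pairing hab (by norm_num) (Or.inl (by rw [hba]; norm_num)))
  have n42 := n 4 2 (dbl z₂ (Or.inr rfl))
  have n33 : 3 • D.P.root a + 3 • D.P.root b ∉ Set.range D.P.root := fun ⟨d, hd⟩ => by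
    have := RootCombo.multiple_le_two D.P (n := 3) (i := c₁) (k := d) (by rw [hd, h₁, natCast_zsmul, smul_add])
    omega
  refine quadrant hab quadG List.mem_cons_self (fun p hp => ?_) hi hk hd
  simp only [quadG, List.mem_cons, List.not_mem_nil, or_false] at hp
  rcases hp with rfl | rfl | rfl | rfl
  · exact ⟨Or.inl (by simp [quadG]), Or.inr n12⟩
  · exact ⟨Or.inl (by simp [quadG]), Or.inr n22⟩
  · exact ⟨Or.inr n41, Or.inl (by simp [quadG])⟩
  · exact ⟨Or.inr n42, Or.inr n33⟩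

theorem eq_zero_of_mul_monomial (r : R)
    (h : algebraMap R (Trunc R 6) r * (toTrunc R 6 (MvPolynomial.X 0) ^ 3 * toTrunc R 6 (MvPolynomial.X 1) ^ 2) = 0) :
    r = 0 := by
  classical
  rw [← (toTrunc R 6).commutes, ← map_pow, ← map_pow, ← map_mul, ← map_mul, MvPolynomial.algebraMap_eq,
    MvPolynomial.X_pow_eq_monomial, MvPolynomial.X_pow_eq_monomial, MvPolynomial.monomial_mul,
    MvPolynomial.C_mul_monomial, _root_.one_mul, _root_.mul_one] at h
  have := coeff_eq_of_toTrunc (h.trans (map_zero (toTrunc R 6)).symm)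
    (ν := Finsupp.single 0 3 + Finsupp.single 1 2) (by simp [map_add, Finsupp.degree_single])
  simpa using this

theorem coeff_one_g2 {A : Type*} [CommRing A] (k₁ k₂ k₄ l f x y : A)
    (h : Polynomial.C k₄ * (Polynomial.C x + Polynomial.X * Polynomial.C x) ^ 3 * Polynomial.C y ^ 2 =
      Polynomial.C k₄ * Polynomial.C x ^ 3 * Polynomial.C y ^ 2 +
        Polynomial.C k₄ * (Polynomial.X * Polynomial.C x) ^ 3 * Polynomial.C y ^ 2 +
        Polynomial.C l * Polynomial.C x * (-(Polynomial.C k₁ * (Polynomial.X * Polynomial.C x) * Polynomial.C y)) ^ 2 +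
        Polynomial.C f * (-(Polynomial.C k₂ * Polynomial.C x ^ 2 * Polynomial.C y)) *
          (-(Polynomial.C k₁ * (Polynomial.X * Polynomial.C x) * Polynomial.C y))) :
    3 * k₄ * (x ^ 3 * y ^ 2) = f * (k₁ * k₂) * (x ^ 3 * y ^ 2) ∧
      3 * k₄ * (x ^ 3 * y ^ 2) = l * k₁ ^ 2 * (x ^ 3 * y ^ 2) := by
  have e : Polynomial.C (k₄ * (x ^ 3 * y ^ 2)) * (Polynomial.X + 1) ^ 3 =
      Polynomial.C (k₄ * (x ^ 3 * y ^ 2)) + Polynomial.C (k₄ * (x ^ 3 * y ^ 2)) * Polynomial.X ^ 3 +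
        Polynomial.C (l * k₁ ^ 2 * (x ^ 3 * y ^ 2)) * Polynomial.X ^ 2 +
        Polynomial.C (f * (k₁ * k₂) * (x ^ 3 * y ^ 2)) * Polynomial.X := by
    simp only [Polynomial.C_mul, Polynomial.C_pow]
    linear_combination h
  rw [show (Polynomial.X + 1 : Polynomial A) = Polynomial.X + Polynomial.C 1 by rw [map_one]] at e
  have := congrArg (Polynomial.coeff · 1) e
  have this' := congrArg (Polynomial.coeff · 2) e
  simp only [Polynomial.coeff_C_mul, Polynomial.coeff_X_add_C_pow, Polynomial.coeff_add, Polynomial.coeff_C,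
    Polynomial.coeff_X_pow, Polynomial.coeff_X] at this this'
  norm_num at this this'
  exact ⟨by linear_combination this, by linear_combination this'⟩

set_option maxHeartbeats 1000000 in
include hv in
/-- The commutator of a base of type G₂, with all its coefficients. -/
theorem g2_relations {σ₁ σ₂ σ₃ ν : R} (q₁ : σ₁ * σ₁ = 1) (q₂ : σ₂ * σ₂ = 1) {a b c₁ c₂ c₃ c₄ : D.idx}
    (hab : Indep D a b) (hba : D.P.pairing b a = -3)
    (h₁ : D.P.root c₁ = D.P.root a + D.P.root b) (h₂ : D.P.root c₂ = (2 : ℤ) • D.P.root a + D.P.root b)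
    (h₃ : D.P.root c₃ = (3 : ℤ) • D.P.root a + D.P.root b)
    (h₄ : D.P.root c₄ = (3 : ℤ) • D.P.root a + (2 : ℤ) • D.P.root b)
    (hAv : ∀ A, IsAdj j v a b A → A c₁ = σ₁ ∧ A c₂ = σ₂ ∧ A c₃ = σ₃)
    (hNv : ∀ N, IsAdj j v b c₃ N → N c₄ = ν)
    {C : Type u} [CommRing C] [Algebra R C] (x y : C) :
    Chart.comm j (v a) (v b) x y =
        (gp j (-algebraMap R C σ₁ * x * y) ≫ v c₁) * (gp j (-algebraMap R C σ₂ * x ^ 2 * y) ≫ v c₂) *
        (gp j (-algebraMap R C σ₃ * x ^ 3 * y) ≫ v c₃) * (gp j (algebraMap R C (ν * σ₃) * x ^ 3 * y ^ 2) ≫ v c₄) ∧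
      Chart.comm j (v a) (v c₁) x y =
        (gp j (-algebraMap R C (2 * (σ₁ * σ₂)) * x * y) ≫ v c₂) *
        (gp j (-algebraMap R C (3 * (σ₁ * σ₃)) * x ^ 2 * y) ≫ v c₃) *
        (gp j (algebraMap R C (3 * (ν * σ₃)) * x * y ^ 2) ≫ v c₄) ∧
      Chart.comm j (v a) (v c₂) x y = gp j (-algebraMap R C (3 * (σ₂ * σ₃)) * x * y) ≫ v c₃ ∧
      Chart.comm j (v b) (v c₃) x y = gp j (-algebraMap R C ν * x * y) ≫ v c₄ ∧
      Chart.comm j (v c₁) (v c₂) x y = gp j (algebraMap R C (3 * (ν * σ₁ * σ₂ * σ₃)) * x * y) ≫ v c₄ := by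
  classical
  haveI : ∀ c, IsMonHom (v c) := fun c => (hv c).1
  have hp := hab.pairs
  simp only [Set.mem_insert_iff, Set.mem_singleton_iff, Prod.mk.injEq] at hp
  have hab' : D.P.pairing a b = -1 := by omega
  -- exponents
  have w₁ : D.P.root c₁ = (1 : ℕ) • D.P.root a + (1 : ℕ) • D.P.root b := by rw [h₁, one_smul, one_smul]
  have w₂ : D.P.root c₂ = (2 : ℕ) • D.P.root a + (1 : ℕ) • D.P.root b := by rw [h₂, one_smul, ← natCast_zsmul]; rfl
  have w₃ : D.P.root c₃ = (3 : ℕ) • D.P.root a + (1 : ℕ) • D.P.root b := by rw [h₃, one_smul, ← natCast_zsmul]; rfl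
  have w₄ : D.P.root c₄ = (3 : ℕ) • D.P.root a + (2 : ℕ) • D.P.root b := by
    rw [h₄, ← natCast_zsmul, ← natCast_zsmul (D.P.root b)]; rfl
  have e₁' := pexp_eq hab le_rfl le_rfl w₁
  have e₂' := pexp_eq hab (i := 2) (by norm_num) le_rfl w₂
  have e₃' := pexp_eq hab (i := 3) (by norm_num) le_rfl w₃
  have e₄' := pexp_eq hab (i := 3) (k := 2) (by norm_num) (by norm_num) w₄
  have wa : D.P.root a = (1 : ℕ) • D.P.root a + (0 : ℕ) • D.P.root b := by simp
  have wb : D.P.root b = (0 : ℕ) • D.P.root a + (1 : ℕ) • D.P.root b := by simp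
  have quad := fun {i k : ℕ} (hi : 1 ≤ i) (hk : 1 ≤ k) {d} hd => quadrant_g2 hab hba h₁ h₂ hi hk (d := d) hd
  have nroot : ∀ (i k : ℕ), 1 ≤ i → 1 ≤ k → (i, k) ∉ quadG →
      i • D.P.root a + k • D.P.root b ∉ Set.range D.P.root := fun i k hi hk h ⟨d, hd⟩ => h (quad hi hk hd)
  -- commuting pairs
  have ncomm : ∀ {p q : D.idx} {i k i' k' : ℕ}, D.P.root p = i • D.P.root a + k • D.P.root b →
      D.P.root q = i' • D.P.root a + k' • D.P.root b → 1 ≤ i + i' → 1 ≤ k + k' → (i + i', k + k') ∉ quadG →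
      ∀ {C : Type u} [CommRing C] [Algebra R C] (x y : C), Commute (gp j x ≫ v p) (gp j y ≫ v q) := by
    intro p q i k i' k' hp hq hi hk hn C _ _ x y
    have hs : D.P.root p + D.P.root q = (i + i') • D.P.root a + (k + k') • D.P.root b := by
      rw [hp, hq, add_smul, add_smul]; abel
    refine commute_roots hv (fun h => ?_) (fun hr => nroot _ _ hi hk hn (hs ▸ hr)) x y
    rw [hs] at h
    have := (hab ((i + i' : ℕ) : ℤ) ((k + k' : ℕ) : ℤ) (by rw [natCast_zsmul, natCast_zsmul]; exact h)).1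
    omega
  -- the adjoint coefficients
  obtain ⟨A, hA⟩ := exists_isAdj (j := j) hv a b hab
  obtain ⟨a1, a2, a3⟩ := hAv A hA
  have hnd : [b, c₁, c₂, c₃, c₄].Nodup := by
    have hb : ∀ {d : D.idx} {i k : ℕ}, D.P.root d = i • D.P.root a + k • D.P.root b → i ≠ 0 → b ≠ d := by
      intro d i k hd hi e
      subst e
      have := (hab i ((k : ℤ) - 1) (by
        rw [sub_smul, one_smul, natCast_zsmul, natCast_zsmul, ← add_sub_assoc, ← hd, sub_self])).1
      omega
    have n12 : c₁ ≠ c₂ := fun e => by simp [e, e₂'] at e₁'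
    have n13 : c₁ ≠ c₃ := fun e => by simp [e, e₃'] at e₁'
    have n14 : c₁ ≠ c₄ := fun e => by simp [e, e₄'] at e₁'
    have n23 : c₂ ≠ c₃ := fun e => by simp [e, e₃'] at e₂'
    have n24 : c₂ ≠ c₄ := fun e => by simp [e, e₄'] at e₂'
    have n34 : c₃ ≠ c₄ := fun e => by simp [e, e₄'] at e₃'
    simp [hb w₁, hb w₂, hb w₃, hb w₄, n12, n13, n14, n23, n24, n34]
  obtain ⟨K, hK, hKA⟩ := exists_comm_on hv a b hab [c₁, c₂, c₃, c₄] (List.Nodup.of_cons hnd)
    (fun i k hi hk d hd => by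
      have := quad hi hk hd
      simp only [quadG, List.mem_cons, List.not_mem_nil, or_false, Prod.mk.injEq] at this ⊢
      rcases this with ⟨rfl, rfl⟩ | ⟨rfl, rfl⟩ | ⟨rfl, rfl⟩ | ⟨rfl, rfl⟩
      · exact Or.inl (D.P.root.injective (hd.trans w₁.symm))
      · exact Or.inr (Or.inl (D.P.root.injective (hd.trans w₂.symm)))
      · exact Or.inr (Or.inr (Or.inl (D.P.root.injective (hd.trans w₃.symm))))
      · exact Or.inr (Or.inr (Or.inr (D.P.root.injective (hd.trans w₄.symm))))) hA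
  have k₁ : K c₁ = -σ₁ := by rw [hKA c₁ (by simp) 1 le_rfl (by rw [one_smul, h₁]), a1]
  have k₂ : K c₂ = -σ₂ := by rw [hKA c₂ (by simp) 2 (by norm_num) (by rw [w₂, one_smul]), a2]
  have k₃ : K c₃ = -σ₃ := by rw [hKA c₃ (by simp) 3 (by norm_num) (by rw [w₃, one_smul]), a3]
  -- the structure of the products
  have hb3 : Indep D b c₃ := hab.of_combo (r := 0) (s := 1) (t := 3) (w := 1) (by simp) (by rw [h₃, one_smul]) (by simp)
  obtain ⟨N, hN⟩ := exists_isAdj (j := j) hv b c₃ hb3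
  have hN4 : N c₄ = ν := hNv N hN
  have h12 : Indep D c₁ c₂ := hab.of_combo (r := 1) (s := 1) (t := 2) (w := 1) (by rw [h₁, one_smul, one_smul])
    (by rw [h₂, one_smul]) (by norm_num)
  obtain ⟨F, hF⟩ := exists_isAdj (j := j) hv c₁ c₂ h12
  have hac₂ : Indep D a c₂ := hab.of_combo (r := 1) (s := 0) (t := 2) (w := 1) (by simp) (by rw [h₂, one_smul]) (by simp)
  obtain ⟨M, hM⟩ := exists_isAdj (j := j) hv a c₂ hac₂
  have hac₁ : Indep D a c₁ := hab.of_combo (r := 1) (s := 0) (t := 1) (w := 1) (by simp) (by rw [h₁, one_smul, one_smul]) (by simp)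
  obtain ⟨Q, hQ⟩ := exists_isAdj (j := j) hv a c₁ hac₁
  obtain ⟨L, hL, hLQ⟩ := exists_comm_on hv a c₁ hac₁ [c₂, c₃, c₄] ((List.Nodup.of_cons hnd).of_cons)
    (fun i k hi hk d hd => by
      have hd' : D.P.root d = (i + k) • D.P.root a + k • D.P.root b := by rw [hd, h₁, add_smul, smul_add]; abel
      have := quad (by omega) hk hd'
      simp only [quadG, List.mem_cons, List.not_mem_nil, or_false, Prod.mk.injEq] at this ⊢
      rcases this with ⟨e1, rfl⟩ | ⟨e1, rfl⟩ | ⟨e1, rfl⟩ | ⟨e1, rfl⟩ <;> rw [e1] at hd'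
      · omega
      · exact Or.inl (D.P.root.injective (hd'.trans w₂.symm))
      · exact Or.inr (Or.inl (D.P.root.injective (hd'.trans w₃.symm)))
      · exact Or.inr (Or.inr (D.P.root.injective (hd'.trans w₄.symm)))) hQ
  have f₂ := pexp_eq hac₁ (i := 1) (k := 1) le_rfl le_rfl (show D.P.root c₂ = 1 • D.P.root a + 1 • D.P.root c₁ by
    rw [w₂, h₁]; module)
  have f₃ := pexp_eq hac₁ (i := 2) (k := 1) (by norm_num) le_rfl (show D.P.root c₃ = 2 • D.P.root a + 1 • D.P.root c₁ by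
    rw [w₃, h₁]; module)
  have f₄ := pexp_eq hac₁ (i := 1) (k := 2) le_rfl (by norm_num) (show D.P.root c₄ = 1 • D.P.root a + 2 • D.P.root c₁ by
    rw [w₄, h₁]; module)
  -- words
  let W : ∀ (C : Type u) [CommRing C] [Algebra R C], C → C → C → C → C → (Sp j C ⟶ G) := fun C _ _ =>
    word (fun z => gp j z ≫ v b) (fun z => gp j z ≫ v c₁) (fun z => gp j z ≫ v c₂) (fun z => gp j z ≫ v c₃)
      (fun z => gp j z ≫ v c₄)
  have hmul : ∀ (C : Type u) [CommRing C] [Algebra R C] (y r s u e y' r' s' u' e' : C),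
      W C y r s u e * W C y' r' s' u' e' = W C (y + y') (r + r') (s + s') (u + u')
        (e + e' - algebraMap R C (N c₄) * u * y' + algebraMap R C (-F c₄) * s * r') := by
    intro C _ _ y r s u e y' r' s' u' e'
    have hadd : ∀ (d : D.idx) (x y : C), gp j (x + y) ≫ v d = (gp j x ≫ v d) * (gp j y ≫ v d) := fun d x y => by
      rw [gp_add, MonObj.mul_comp]
    refine word_mul _ _ _ _ _ (hadd b) (hadd c₁) (hadd c₂) (hadd c₃) (hadd c₄)
      (ncomm w₁ wb (by norm_num) (by norm_num) (by decide)) (ncomm w₂ wb (by norm_num) (by norm_num) (by decide))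
      (ncomm w₄ wb (by norm_num) (by norm_num) (by decide)) (ncomm w₃ w₁ (by norm_num) (by norm_num) (by decide))
      (ncomm w₄ w₁ (by norm_num) (by norm_num) (by decide)) (ncomm w₃ w₂ (by norm_num) (by norm_num) (by decide))
      (ncomm w₄ w₂ (by norm_num) (by norm_num) (by decide)) (ncomm w₄ w₃ (by norm_num) (by norm_num) (by decide))
      (fun u y => ?_) (fun s r => ?_) y r s u e y' r' s' u' e'
    · have hc := comm_single hv hb3 hN (c := c₄) (by rw [h₄, h₃]; module)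
        (by rw [show 2 • D.P.root b + D.P.root c₃ = (3 : ℕ) • D.P.root a + (3 : ℕ) • D.P.root b by rw [w₃]; module]
            exact nroot 3 3 (by norm_num) (by norm_num) (by decide))
        (by rw [show D.P.root b + 2 • D.P.root c₃ = (6 : ℕ) • D.P.root a + (3 : ℕ) • D.P.root b by rw [w₃]; module]
            exact nroot 6 3 (by norm_num) (by norm_num) (by decide)) y u
      rw [Chart.comm, mul_inv_eq_iff_eq_mul, mul_inv_eq_iff_eq_mul] at hc
      rw [hc, _root_.mul_assoc, ((ncomm w₄ wb (by norm_num) (by norm_num) (by decide) _ _).mul_right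
        (ncomm w₄ w₃ (by norm_num) (by norm_num) (by decide) _ _)).eq]
      congr 3
      ring
    · have hc := comm_single hv h12 hF (c := c₄) (by rw [h₄, h₁, h₂]; module)
        (by rw [show 2 • D.P.root c₁ + D.P.root c₂ = (4 : ℕ) • D.P.root a + (3 : ℕ) • D.P.root b by rw [w₁, w₂]; module]
            exact nroot 4 3 (by norm_num) (by norm_num) (by decide))
        (by rw [show D.P.root c₁ + 2 • D.P.root c₂ = (5 : ℕ) • D.P.root a + (3 : ℕ) • D.P.root b by rw [w₁, w₂]; module]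
            exact nroot 5 3 (by norm_num) (by norm_num) (by decide)) r s
      rw [Chart.comm, mul_inv_eq_iff_eq_mul, mul_inv_eq_iff_eq_mul] at hc
      rw [hc, _root_.mul_assoc, ((ncomm w₄ w₁ (by norm_num) (by norm_num) (by decide) _ _).mul_right
        (ncomm w₄ w₂ (by norm_num) (by norm_num) (by decide) _ _)).eq]
      congr 3
      rw [map_neg]
      ring
  let e4 := fun (C : Type u) [CommRing C] [Algebra R C] (d : D.idx) => algebraMap R C (K d)
  let conj : ∀ (C : Type u) [CommRing C] [Algebra R C], C → C → (Sp j C ⟶ G) := fun C _ _ x y =>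
    (gp j x ≫ v a) * (gp j y ≫ v b) * (gp j x ≫ v a)⁻¹
  have hconj : ∀ (C : Type u) [CommRing C] [Algebra R C] (x y : C), conj C x y =
      W C y (-(e4 C c₁ * x * y)) (-(e4 C c₂ * x ^ 2 * y)) (-(e4 C c₃ * x ^ 3 * y)) (e4 C c₄ * x ^ 3 * y ^ 2) := by
    intro C _ _ x y
    have h : conj C x y = (gp j y ≫ v b) * Chart.comm j (v a) (v b) x (-y) := by
      simp only [conj]
      rw [Chart.comm, gp_neg, GrpObj.inv_comp, inv_inv]
      group
    rw [h, hK]
    simp only [W, word, rootProd, List.map_cons, List.map_nil, List.prod_cons, List.prod_nil, _root_.mul_one,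
      e₁', e₂', e₃', e₄', e4, ← _root_.mul_assoc]
    congr 4 <;> ring
  have conj1 : ∀ (C : Type u) [CommRing C] [Algebra R C] (x r : C),
      (gp j x ≫ v a) * (gp j r ≫ v c₁) * (gp j x ≫ v a)⁻¹ =
        W C 0 r (-(algebraMap R C (L c₂) * x * r)) (-(algebraMap R C (L c₃) * x ^ 2 * r))
          (algebraMap R C (L c₄) * x * r ^ 2) := by
    intro C _ _ x r
    have h : (gp j x ≫ v a) * (gp j r ≫ v c₁) * (gp j x ≫ v a)⁻¹ =
        (gp j r ≫ v c₁) * Chart.comm j (v a) (v c₁) x (-r) := by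
      rw [Chart.comm, gp_neg, GrpObj.inv_comp, inv_inv]
      group
    rw [h, hL]
    simp only [W, word, rootProd, List.map_cons, List.map_nil, List.prod_cons, List.prod_nil, _root_.mul_one,
      f₂, f₃, f₄, gp_zero, MonObj.one_comp, _root_.one_mul, ← _root_.mul_assoc]
    congr 4 <;> ring
  have conj2 : ∀ (C : Type u) [CommRing C] [Algebra R C] (x s : C),
      (gp j x ≫ v a) * (gp j s ≫ v c₂) * (gp j x ≫ v a)⁻¹ = W C 0 0 s (algebraMap R C (M c₃) * x * s) 0 := by
    intro C _ _ x s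
    have hc := comm_single hv hac₂ hM (c := c₃) (by rw [h₃, h₂]; module)
      (by rw [show 2 • D.P.root a + D.P.root c₂ = (4 : ℕ) • D.P.root a + (1 : ℕ) • D.P.root b by rw [w₂]; module]
          exact nroot 4 1 (by norm_num) (by norm_num) (by decide))
      (by rw [show D.P.root a + 2 • D.P.root c₂ = (5 : ℕ) • D.P.root a + (2 : ℕ) • D.P.root b by rw [w₂]; module]
          exact nroot 5 2 (by norm_num) (by norm_num) (by decide)) x (-s)
    simp only [W, word, gp_zero, MonObj.one_comp, _root_.one_mul, _root_.mul_one]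
    rw [Chart.comm, gp_neg, GrpObj.inv_comp, inv_inv] at hc
    calc (gp j x ≫ v a) * (gp j s ≫ v c₂) * (gp j x ≫ v a)⁻¹
        = (gp j s ≫ v c₂) * ((gp j s ≫ v c₂)⁻¹ * (gp j x ≫ v a) * (gp j s ≫ v c₂) * (gp j x ≫ v a)⁻¹) := by group
      _ = _ := by
          rw [hc]
          congr 3
          ring
  have conj3 : ∀ (C : Type u) [CommRing C] [Algebra R C] (x u e : C),
      (gp j x ≫ v a) * ((gp j u ≫ v c₃) * (gp j e ≫ v c₄)) * (gp j x ≫ v a)⁻¹ = W C 0 0 0 u e := by
    intro C _ _ x u e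
    have hc := (ncomm wa w₃ (by norm_num) (by norm_num) (by decide) x u).mul_right
      (ncomm wa w₄ (by norm_num) (by norm_num) (by decide) x e)
    simp only [W, word, gp_zero, MonObj.one_comp, _root_.one_mul]
    rw [hc.eq]
    group
  -- the two linear relations
  let C₀ := Trunc R 6
  let X₀ : C₀ := toTrunc R 6 (MvPolynomial.X 0)
  let Y₀ : C₀ := toTrunc R 6 (MvPolynomial.X 1)
  have inj : ∀ (C : Type u) [CommRing C] [Algebra R C] (f : C₀ →ₐ[R] C) (y r s u e y' r' s' u' e' : C),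
      (∀ z ∈ [y, r, s, u, e, y', r', s', u', e'], f (toTrunc R 6 (MvPolynomial.X 1)) ∣ z) →
      W C y r s u e = W C y' r' s' u' e' → e = e' := by
    intro C _ _ f y r s u e y' r' s' u' e' hdvd h
    have hm : ∀ z ∈ [y, r, s, u, e, y', r', s', u', e'], z ∈ (truncIdeal R 6).map f.toRingHom := fun z hz => by
      obtain ⟨k, hk⟩ := hdvd z hz
      rw [hk]
      exact Ideal.mul_mem_right _ _ (Ideal.mem_map_of_mem f.toRingHom (toTrunc_X_mem 6 1))
    let vec : C → C → C → C → C → D.idx → C := fun y r s u e d =>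
      if d = b then y else if d = c₁ then r else if d = c₂ then s else if d = c₃ then u else e
    obtain ⟨hb0, hnd'⟩ := List.nodup_cons.1 hnd
    obtain ⟨h1', hnd''⟩ := List.nodup_cons.1 hnd'
    obtain ⟨h2', hnd'''⟩ := List.nodup_cons.1 hnd''
    simp only [List.mem_cons, List.not_mem_nil, or_false, not_or] at hb0 h1' h2'
    have h34 : c₄ ≠ c₃ := fun e => by simp [e] at hnd'''
    have hv' : ∀ y r s u e, W C y r s u e = rootProd j v [b, c₁, c₂, c₃, c₄] (vec y r s u e) := fun y r s u e => by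
      simp only [W, word, rootProd, List.map_cons, List.map_nil, List.prod_cons, List.prod_nil, _root_.mul_one, vec,
        ← _root_.mul_assoc]
      simp [Ne.symm hb0.1, Ne.symm hb0.2.1, Ne.symm hb0.2.2.1, Ne.symm hb0.2.2.2, Ne.symm h1'.1, Ne.symm h1'.2.1,
        Ne.symm h1'.2.2, Ne.symm h2'.1, Ne.symm h2'.2, h34]
    have hnil : IsNilpotent ((truncIdeal R 6).map f.toRingHom) := by
      obtain ⟨n, hn⟩ := isNilpotent_truncIdeal (R := R) 6
      refine ⟨n, ?_⟩
      rw [← Ideal.map_pow, hn]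
      exact Ideal.map_bot
    rw [hv', hv'] at h
    have := rootProd_injective_on hv hnd hnil (fun d _ => ?_) (fun d _ => ?_) h c₄ (by simp)
    · simpa [vec, Ne.symm hb0.2.2.2, Ne.symm h1'.2.2, Ne.symm h2'.2, h34] using this
    all_goals
      simp only [vec]
      split_ifs <;> exact hm _ (by simp)
  have rel1 : 2 * K c₄ = N c₄ * K c₃ + -F c₄ * (K c₁ * K c₂) := by
    have hY' : (AlgHom.id R C₀) (toTrunc R 6 (MvPolynomial.X 1)) = Y₀ := rfl
    have h : conj C₀ X₀ (Y₀ + Y₀) = conj C₀ X₀ Y₀ * conj C₀ X₀ Y₀ := by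
      simp only [conj, gp_add, MonObj.mul_comp]; group
    rw [hconj, hconj, hmul] at h
    have := inj C₀ (AlgHom.id R C₀) _ _ _ _ _ _ _ _ _ _ (fun z hz => by
      simp only [List.mem_cons, List.not_mem_nil, or_false] at hz
      rw [hY']
      rcases hz with rfl | rfl | rfl | rfl | rfl | rfl | rfl | rfl | rfl | rfl <;>
        (try simp only [pow_two]) <;>
        repeat' first
          | exact dvd_rfl
          | exact dvd_zero _
          | refine dvd_neg.2 ?_
          | refine dvd_add ?_ ?_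
          | refine dvd_sub ?_ ?_
          | refine dvd_mul_of_dvd_right ?_ _) h
    refine sub_eq_zero.1 (eq_zero_of_mul_monomial _ ?_)
    simp only [e4] at this
    simp only [map_sub, map_add, map_mul, map_ofNat, map_neg] at this ⊢
    linear_combination this
  have key2 : ∀ (C : Type u) [CommRing C] [Algebra R C] (f : C₀ →ₐ[R] C) (T : C),
      algebraMap R C (K c₄) * (f X₀ + T * f X₀) ^ 3 * f Y₀ ^ 2 =
        algebraMap R C (K c₄) * f X₀ ^ 3 * f Y₀ ^ 2 + algebraMap R C (K c₄) * (T * f X₀) ^ 3 * f Y₀ ^ 2 +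
          algebraMap R C (L c₄) * f X₀ * (-(algebraMap R C (K c₁) * (T * f X₀) * f Y₀)) ^ 2 +
          algebraMap R C (-F c₄) * (-(algebraMap R C (K c₂) * f X₀ ^ 2 * f Y₀)) *
            (-(algebraMap R C (K c₁) * (T * f X₀) * f Y₀)) := by
    intro C _ _ f T
    rw [show f Y₀ = f (toTrunc R 6 (MvPolynomial.X 1)) from rfl]
    generalize hX : f X₀ = X'
    generalize hY' : f (toTrunc R 6 (MvPolynomial.X 1)) = Y'
    have h : conj C (X' + T * X') Y' = (gp j X' ≫ v a) * conj C (T * X') Y' * (gp j X' ≫ v a)⁻¹ := by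
      simp only [conj, gp_add, MonObj.mul_comp]; group
    have hW : ∀ y r s u e : C, (gp j X' ≫ v a) * W C y r s u e * (gp j X' ≫ v a)⁻¹ = conj C X' y *
        ((gp j X' ≫ v a) * (gp j r ≫ v c₁) * (gp j X' ≫ v a)⁻¹) *
        ((gp j X' ≫ v a) * (gp j s ≫ v c₂) * (gp j X' ≫ v a)⁻¹) *
        ((gp j X' ≫ v a) * ((gp j u ≫ v c₃) * (gp j e ≫ v c₄)) * (gp j X' ≫ v a)⁻¹) := fun y r s u e => by
      simp only [W, word, conj]; group
    rw [hconj, hconj, hW, hconj, conj1, conj2, conj3, hmul, hmul, hmul] at h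
    have := inj C f _ _ _ _ _ _ _ _ _ _ (fun z hz => by
      simp only [List.mem_cons, List.not_mem_nil, or_false] at hz
      rw [hY']
      rcases hz with rfl | rfl | rfl | rfl | rfl | rfl | rfl | rfl | rfl | rfl <;>
        (try simp only [pow_two]) <;>
        repeat' first
          | exact dvd_rfl
          | exact dvd_zero _
          | refine dvd_neg.2 ?_
          | refine dvd_add ?_ ?_
          | refine dvd_sub ?_ ?_
          | refine dvd_mul_of_dvd_right ?_ _) h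
    simp only [e4] at this
    linear_combination this
  obtain ⟨rel2, rel3⟩ : 3 * K c₄ = -F c₄ * (K c₁ * K c₂) ∧ 3 * K c₄ = L c₄ * K c₁ ^ 2 := by
    have h0 := key2 (Polynomial C₀) (IsScalarTower.toAlgHom R C₀ (Polynomial C₀)) Polynomial.X
    obtain ⟨h1, h2⟩ := coeff_one_g2 (algebraMap R C₀ (K c₁)) (algebraMap R C₀ (K c₂)) (algebraMap R C₀ (K c₄))
      (algebraMap R C₀ (L c₄)) (algebraMap R C₀ (-F c₄)) X₀ Y₀ h0
    refine ⟨sub_eq_zero.1 (eq_zero_of_mul_monomial _ ?_), sub_eq_zero.1 (eq_zero_of_mul_monomial _ ?_)⟩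
    · simp only [map_sub, map_mul, map_ofNat, map_neg] at h1 ⊢
      linear_combination h1
    · simp only [map_sub, map_mul, map_pow, map_ofNat, map_neg] at h2 ⊢
      linear_combination h2
  have k₄ : K c₄ = ν * σ₃ := by
    have : K c₄ = -(N c₄ * K c₃) := by linear_combination rel2 - rel1
    rw [this, hN4, k₃]; ring
  have hF4 : F c₄ = -(3 * (ν * σ₁ * σ₂ * σ₃)) := by
    rw [k₄, k₁, k₂] at rel2
    linear_combination σ₁ * σ₂ * rel2 - F c₄ * σ₂ * σ₂ * q₁ - F c₄ * q₂
  have l₄ : L c₄ = 3 * (ν * σ₃) := by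
    rw [k₄, k₁] at rel3
    linear_combination -rel3 - L c₄ * q₁
  -- the middle coefficients
  have t₂ := hA.comp_two hv hab hQ (c₁ := c₁) (c₂ := c₂) (by rw [h₁, add_comm]) (by rw [w₂, one_smul, add_comm])
  obtain ⟨t₃, t₃'⟩ := hA.comp_three hv hab hQ hM (c₁ := c₁) (c₂ := c₂) (c₃ := c₃) (by rw [h₁, add_comm])
    (by rw [w₂, one_smul, add_comm]) (by rw [w₃, one_smul, add_comm])
  rw [a1, a2] at t₂
  rw [a1, a3] at t₃
  rw [a2, a3] at t₃'
  have l₂ : L c₂ = -(2 * (σ₁ * σ₂)) := by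
    rw [hLQ c₂ (by simp) 1 le_rfl (by rw [w₂, h₁]; module)]
    linear_combination σ₁ * t₂ + Q c₂ * q₁
  have l₃ : L c₃ = -(3 * (σ₁ * σ₃)) := by
    rw [hLQ c₃ (by simp) 2 (by norm_num) (by rw [w₃, h₁]; module)]
    linear_combination σ₁ * t₃ + Q c₃ * q₁
  have hM3 : M c₃ = 3 * (σ₂ * σ₃) := by linear_combination -σ₂ * t₃' - M c₃ * q₂
  refine ⟨?_, ?_, ?_, ?_, ?_⟩
  · rw [hK]
    simp only [rootProd, List.map_cons, List.map_nil, List.prod_cons, List.prod_nil, _root_.mul_one,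
      e₁', e₂', e₃', e₄', k₁, k₂, k₃, k₄, pow_one, ← _root_.mul_assoc, map_neg]
  · rw [hL]
    simp only [rootProd, List.map_cons, List.map_nil, List.prod_cons, List.prod_nil, _root_.mul_one,
      f₂, f₃, f₄, l₂, l₃, l₄, pow_one, ← _root_.mul_assoc, map_neg]
  · rw [comm_single hv hac₂ hM (c := c₃) (by rw [h₃, h₂]; module)
      (by rw [show 2 • D.P.root a + D.P.root c₂ = (4 : ℕ) • D.P.root a + (1 : ℕ) • D.P.root b by rw [w₂]; module]
          exact nroot 4 1 (by norm_num) (by norm_num) (by decide))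
      (by rw [show D.P.root a + 2 • D.P.root c₂ = (5 : ℕ) • D.P.root a + (2 : ℕ) • D.P.root b by rw [w₂]; module]
          exact nroot 5 2 (by norm_num) (by norm_num) (by decide)) x y, hM3]
  · rw [comm_single hv hb3 hN (c := c₄) (by rw [h₄, h₃]; module)
      (by rw [show 2 • D.P.root b + D.P.root c₃ = (3 : ℕ) • D.P.root a + (3 : ℕ) • D.P.root b by rw [w₃]; module]
          exact nroot 3 3 (by norm_num) (by norm_num) (by decide))
      (by rw [show D.P.root b + 2 • D.P.root c₃ = (6 : ℕ) • D.P.root a + (3 : ℕ) • D.P.root b by rw [w₃]; module]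
          exact nroot 6 3 (by norm_num) (by norm_num) (by decide)) x y, hN4]
  · rw [comm_single hv h12 hF (c := c₄) (by rw [h₄, h₁, h₂]; module)
      (by rw [show 2 • D.P.root c₁ + D.P.root c₂ = (4 : ℕ) • D.P.root a + (3 : ℕ) • D.P.root b by rw [w₁, w₂]; module]
          exact nroot 4 3 (by norm_num) (by norm_num) (by decide))
      (by rw [show D.P.root c₁ + 2 • D.P.root c₂ = (5 : ℕ) • D.P.root a + (3 : ℕ) • D.P.root b by rw [w₁, w₂]; module]
          exact nroot 5 3 (by norm_num) (by norm_num) (by decide)) x y, hF4, map_neg, neg_neg]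

set_option maxHeartbeats 400000 in
include hv in
/-- The commutator of a base of type G₂ in a Chevalley system. -/
theorem IsChev.comm_g2 {sg : D.idx → D.idx → ℤ} (hC : IsChev j v sg) {a b c₁ c₂ c₃ c₄ : D.idx}
    (hab : Indep D a b) (hba : D.P.pairing b a = -3)
    (h₁ : D.P.root c₁ = D.P.root a + D.P.root b) (h₂ : D.P.root c₂ = (2 : ℤ) • D.P.root a + D.P.root b)
    (h₃ : D.P.root c₃ = (3 : ℤ) • D.P.root a + D.P.root b)
    (h₄ : D.P.root c₄ = (3 : ℤ) • D.P.root a + (2 : ℤ) • D.P.root b)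
    {C : Type u} [CommRing C] [Algebra R C] (x y : C) :
    Chart.comm j (v a) (v b) x y =
      (gp j ((sg b a : C) * x * y) ≫ v c₁) *
      (gp j (-((sg a b : C) * sg a a * sg c₃ (D.P.reflectionPerm a a)) * x ^ 2 * y) ≫ v c₂) *
      (gp j (-(sg a b : C) * x ^ 3 * y) ≫ v c₃) *
      (gp j ((sg b c₃ : C) * sg a b * x ^ 3 * y ^ 2) ≫ v c₄) := by
  classical
  have hp := hab.pairs
  simp only [Set.mem_insert_iff, Set.mem_singleton_iff, Prod.mk.injEq] at hp
  have hsq : ∀ x y, (sg x y : R) * sg x y = 1 := fun x y => by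
    rcases hC.sign x y with h | h <;> simp [h]
  refine (g2_relations hv (σ₁ := -(sg b a : R))
    (σ₂ := (sg a b : R) * sg a a * sg c₃ (D.P.reflectionPerm a a)) (σ₃ := (sg a b : R)) (ν := (sg b c₃ : R))
    (by rw [neg_mul_neg, hsq])
    (by linear_combination (sg a a : R) ^ 2 * (sg c₃ (D.P.reflectionPerm a a) : R) ^ 2 * hsq a b
          + (sg c₃ (D.P.reflectionPerm a a) : R) ^ 2 * hsq a a + hsq c₃ (D.P.reflectionPerm a a))
    hab hba h₁ h₂ h₃ h₄
    (fun A hA => hC.string_base hv hab hba (e₁ := c₁) (e₂ := c₂) (e₃ := c₃) (by rw [h₁, add_comm])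
      (by rw [h₂, h₁, two_smul]; abel) (by rw [h₃, h₂]; module) hA)
    (fun N hN => hC.top_value hv hN (refl_eq (q := 1) ?_ (by rw [h₄, h₃]; module))
      (hab.of_combo (r := 0) (s := 1) (t := 3) (w := 2) (by simp) h₄ (by simp)) ?_) x y).1.trans ?_
  · rw [RootCombo.pairing_of_eq D.P (k := c₃) (i := a) (j := b) (r := 3) (s := 1) (by rw [h₃, one_smul]),
      D.P.pairing_same]
    omega
  · rw [show D.P.root b + D.P.root c₄ = (3 : ℤ) • D.P.root a + (3 : ℤ) • D.P.root b by rw [h₄]; module]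
    exact fun ⟨d, hd⟩ => by
      have := RootCombo.multiple_le_two D.P (n := 3) (i := c₁) (k := d) (by rw [hd, h₁, Nat.cast_ofNat, smul_add])
      omega
  · simp

end Groth.L14.Chev
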