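import Groth.Agent.L14.Chev.Rules
import Mathlib.LinearAlgebra.RootSystem.Chain

/-!
Root strings and quadrants spanned by two roots, and commutators with a single coefficient.
-/

set_option autoImplicit false
universe u

open CategoryTheory CategoryTheory.Limits AlgebraicGeometry MonoidalCategory CartesianMonoidalCategory MonObj
open Groth.L14.RankOne Groth.L25 Groth.L14.Chart

set_option backward.isDefEq.respectTransparency.types false
set_option linter.style.haveILetI false

noncomputable section

namespace Groth.L14.Chev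

variable {S : Scheme.{u}} {G : Over S} [GrpObj G] {D : Red.SplitRed G}

theorem refl_eq {a b t : D.idx} {q : ℤ} (hq : D.P.pairing b a = -q)
    (h : D.P.root t = D.P.root b + q • D.P.root a) : D.P.reflectionPerm a b = t :=
  D.P.root.injective (by rw [D.P.root_reflectionPerm, D.P.reflection_apply_root, hq, h, neg_smul, sub_neg_eq_add])

/-- The possible pairs of pairings of two independent roots. -/
theorem Indep.pairs {a b : D.idx} (h : Indep D a b) :
    (D.P.pairing a b, D.P.pairing b a) ∈
      ({(0, 0), (1, 1), (-1, -1), (1, 2), (2, 1), (-1, -2), (-2, -1), (1, 3), (3, 1), (-1, -3),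
        (-3, -1)} : Set (ℤ × ℤ)) :=
  RootCombo.pairs_indep D.P (LinearIndependent.pair_iff.2 h)

/-- The pairing of a string. -/
theorem pairing_of_string {a b : D.idx} (hab : Indep D a b) {r q : ℕ}
    (hr : D.P.root b - (r : ℤ) • D.P.root a ∈ Set.range D.P.root)
    (hr' : D.P.root b - ((r : ℤ) + 1) • D.P.root a ∉ Set.range D.P.root)
    (hq : D.P.root b + (q : ℤ) • D.P.root a ∈ Set.range D.P.root)
    (hq' : D.P.root b + ((q : ℤ) + 1) • D.P.root a ∉ Set.range D.P.root) :
    D.P.pairing b a = (r : ℤ) - q := by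
  haveI : Finite D.idx := Finite.of_fintype _
  haveI := RootCombo.isCrystallographic D.P
  have hli : LinearIndependent ℤ ![D.P.root a, D.P.root b] := LinearIndependent.pair_iff.2 hab
  rw [D.P.root_sub_zsmul_mem_range_iff hli, Set.mem_Icc] at hr hr'
  rw [D.P.root_add_zsmul_mem_range_iff hli, Set.mem_Icc] at hq hq'
  rw [← RootCombo.pairingIn_eq D.P b a, ← D.P.chainBotCoeff_sub_chainTopCoeff hli]
  omega

/-- Roots in the positive quadrant of two roots lie in any set of exponents closed under root successors. -/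
theorem quadrant {a b : D.idx} (hab : Indep D a b) (T : List (ℕ × ℕ)) (h11 : (1, 1) ∈ T)
    (hsucc : ∀ p ∈ T, ((p.1 + 1, p.2) ∈ T ∨ (p.1 + 1) • D.P.root a + p.2 • D.P.root b ∉ Set.range D.P.root) ∧
      ((p.1, p.2 + 1) ∈ T ∨ p.1 • D.P.root a + (p.2 + 1) • D.P.root b ∉ Set.range D.P.root))
    {i k : ℕ} (hi : 1 ≤ i) (hk : 1 ≤ k) {d : D.idx} (hd : D.P.root d = i • D.P.root a + k • D.P.root b) :
    (i, k) ∈ T := by
  haveI := RootCombo.isCrystallographic D.P
  suffices ∀ n i k : ℕ, i + k ≤ n → 1 ≤ i → 1 ≤ k →
      i • D.P.root a + k • D.P.root b ∈ Set.range D.P.root → (i, k) ∈ T from this _ i k le_rfl hi hk ⟨d, hd⟩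
  intro n
  induction n with
  | zero => intro i k h hi; omega
  | succ n ih =>
    intro i k hn hi hk ⟨d, hd⟩
    by_cases h : i = 1 ∧ k = 1
    · obtain ⟨rfl, rfl⟩ := h; exact h11
    have hdz : D.P.root d = (i : ℤ) • D.P.root a + (k : ℤ) • D.P.root b := by rw [hd, natCast_zsmul, natCast_zsmul]
    have stepi : ∀ i', i = i' + 1 → 1 ≤ i' → D.P.root d - D.P.root a ∈ Set.range D.P.root → (i, k) ∈ T := by
      intro i' e hi' hm
      subst e
      have hp := ih i' k (by omega) hi' hk (by convert hm using 1; rw [hd, succ_nsmul]; abel)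
      exact ((hsucc _ hp).1).resolve_right (fun h => h ⟨d, hd⟩)
    have stepk : ∀ k', k = k' + 1 → 1 ≤ k' → D.P.root d - D.P.root b ∈ Set.range D.P.root → (i, k) ∈ T := by
      intro k' e hk' hm
      subst e
      have hp := ih i k' (by omega) hi hk' (by convert hm using 1; rw [hd, succ_nsmul]; abel)
      exact ((hsucc _ hp).2).resolve_right (fun h => h ⟨d, hd⟩)
    have suba : 0 < D.P.pairing d a → D.P.root d - D.P.root a ∈ Set.range D.P.root := fun hp =>
      D.P.root_sub_root_mem_of_pairingIn_pos (by rwa [RootCombo.pairingIn_eq]) fun e => by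
        have := (hab ((i : ℤ) - 1) k (by rw [sub_smul, one_smul, sub_add_eq_add_sub, ← hdz, e, sub_self])).2
        omega
    have subb : 0 < D.P.pairing d b → D.P.root d - D.P.root b ∈ Set.range D.P.root := fun hp =>
      D.P.root_sub_root_mem_of_pairingIn_pos (by rwa [RootCombo.pairingIn_eq]) fun e => by
        have := (hab i ((k : ℤ) - 1) (by rw [sub_smul, one_smul, ← add_sub_assoc, ← hdz, e, sub_self])).1
        omega
    have pa := RootCombo.pairing_of_eq D.P hdz a
    have pb := RootCombo.pairing_of_eq D.P hdz b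
    rw [D.P.pairing_same] at pa pb
    rcases RootCombo.pairing_pos_or D.P hdz with hp | hp
    · rcases Nat.lt_or_ge i 2 with h2 | h2
      · -- `k b` would be a root
        obtain rfl : i = 1 := by omega
        obtain ⟨m, hm⟩ := suba hp
        have hk2 := RootCombo.multiple_le_two D.P (n := k) (i := b) (k := m) (by rw [hm, hdz]; simp)
        obtain rfl : k = 2 := by omega
        exact ((hsucc _ h11).2).resolve_right (fun h => h ⟨d, hd⟩)
      · exact stepi (i - 1) (by omega) (by omega) (suba hp)
    · rcases Nat.lt_or_ge k 2 with h2 | h2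
      · obtain rfl : k = 1 := by omega
        obtain ⟨m, hm⟩ := subb hp
        have hi2 := RootCombo.multiple_le_two D.P (n := i) (i := a) (k := m) (by rw [hm, hdz]; simp)
        obtain rfl : i = 2 := by omega
        exact ((hsucc _ h11).1).resolve_right (fun h => h ⟨d, hd⟩)
      · exact stepk (k - 1) (by omega) (by omega) (subb hp)

variable {R : Type u} [CommRing R] {j : Spec (CommRingCat.of R) ⟶ S} [IsOpenImmersion j]
  {v : D.idx → (Red.Ga S ⟶ G)} (hv : ∀ c, Red.IsRootHom D.i (D.split.hom.hom.hom ≫ Red.chi S (D.P.root c)) (v c))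

include hv in
/-- A commutator coefficient is the opposite of the conjugation coefficient. -/
theorem IsCommK.eq_neg_adj {a b d : D.idx} {K A : D.idx → R} (hK : IsCommK j v a b K) (hA : IsAdj j v a b A)
    (hab : Indep D a b) {i : ℕ} (hi : 1 ≤ i) (hd : D.P.root d = i • D.P.root a + D.P.root b) : K d = -A d := by
  classical
  have hne : d ≠ b := fun e => by
    have := (hab i 0 (by rw [zero_smul, add_zero, natCast_zsmul]; simpa [e] using hd)).1
    omega
  rw [hA.unique hv (hK.isAdj hv hab)]
  simp [hne, pexp_eq hab hi le_rfl (show D.P.root d = i • D.P.root a + 1 • D.P.root b by rw [hd, one_smul])]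

include hv in
/-- The commutator when the quadrant holds one root. -/
theorem comm_single {a b c : D.idx} (hab : Indep D a b) {A : D.idx → R} (hA : IsAdj j v a b A)
    (hc : D.P.root c = D.P.root a + D.P.root b)
    (h21 : 2 • D.P.root a + D.P.root b ∉ Set.range D.P.root)
    (h12 : D.P.root a + 2 • D.P.root b ∉ Set.range D.P.root)
    {C : Type u} [CommRing C] [Algebra R C] (x y : C) :
    Chart.comm j (v a) (v b) x y = gp j (-(algebraMap R C (A c)) * x * y) ≫ v c := by
  obtain ⟨K, hK⟩ := exists_isCommK (j := j) hv a b hab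
  have hs : ∀ d, d ≠ c → K d = 0 := fun d hd => by
    by_contra h
    obtain ⟨i, k, hi, hk, he⟩ := hK.supp d h
    have hq := quadrant hab [(1, 1)] (List.mem_singleton_self _) (fun p hp => by
      rw [List.mem_singleton] at hp
      subst hp
      exact ⟨Or.inr (by rw [one_smul]; exact h21), Or.inr (by rw [one_smul]; exact h12)⟩) hi hk he
    rw [List.mem_singleton, Prod.mk.injEq] at hq
    exact hd (D.P.root.injective (by rw [he, hc, hq.1, hq.2, one_smul, one_smul]))
  rw [hK.eq, rp_of_support j hv (c := c) (fun d hd => by simp [hs d hd])]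
  rw [hK.eq_neg_adj hv hA hab le_rfl (by rw [one_smul, hc]),
    pexp_eq hab le_rfl le_rfl (show D.P.root c = 1 • D.P.root a + 1 • D.P.root b by rw [hc, one_smul, one_smul]),
    pow_one, pow_one, map_neg]

omit [IsOpenImmersion j] in
/-- The value of a point after composition with a test point. -/
theorem gv_comp_eq {C : Type u} [CommRing C] [Algebra R C] {X : Over S} (t : Sp j C ⟶ X) (z : X ⟶ Red.Ga S)
    {f : Γ(X.left, ⊤)} (h : Red.gaFn z = f) : gv (t ≫ z) = (Scheme.ΓSpecIso (CommRingCat.of C)).hom (t.left.appTop f) := by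
  rw [gv, GaPts.gaFn_comp, h]

end Groth.L14.Chev
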