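import Groth.Agent.L14.Chev.Pinned
import Groth.Agent.L14.Chev.Strings

/-!
Pairs of simple roots of a pinning.
-/

set_option autoImplicit false
universe u

open CategoryTheory CategoryTheory.Limits AlgebraicGeometry MonoidalCategory CartesianMonoidalCategory MonObj
open Groth.L14.RankOne Groth.L25 Groth.L14.Chart

set_option backward.isDefEq.respectTransparency.types false
set_option linter.style.haveILetI false

noncomputable section

namespace Groth.L14.Chev

variable {S : Scheme.{u}} {G : Over S} [GrpObj G]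

theorem indep_simple (D : Red.Pinning G) {a b : D.idx} (ha : a ∈ D.base.support) (hb : b ∈ D.base.support)
    (hne : a ≠ b) : Indep D.toSplitRed a b :=
  LinearIndependent.pair_iff.1 (D.base.linearIndependent_pair_of_ne (i := ⟨a, ha⟩) (j := ⟨b, hb⟩) (by simpa using hne))

variable {D : Red.SplitRed G}

/-- Past the top of a string starting at `b` there are no roots. -/
theorem add_zsmul_notMem {a b : D.idx} (hab : Indep D a b) (hsub : D.P.root b - D.P.root a ∉ Set.range D.P.root)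
    {m : ℤ} (hm : -D.P.pairing b a < m) : D.P.root b + m • D.P.root a ∉ Set.range D.P.root := by
  haveI : Finite D.idx := Finite.of_fintype _
  haveI := RootCombo.isCrystallographic D.P
  have hli : LinearIndependent ℤ ![D.P.root a, D.P.root b] := LinearIndependent.pair_iff.2 hab
  intro h
  rw [D.P.root_add_zsmul_mem_range_iff hli, Set.mem_Icc] at h
  have h1 : D.P.root b - (1 : ℤ) • D.P.root a ∉ Set.range D.P.root := by rwa [one_smul]
  rw [D.P.root_sub_zsmul_mem_range_iff hli, Set.mem_Icc] at h1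
  rw [← RootCombo.pairingIn_eq D.P b a, ← D.P.chainBotCoeff_sub_chainTopCoeff hli] at hm
  omega

/-- The opposite root homomorphism family. -/
abbrev opp (v : D.idx → (Red.Ga S ⟶ G)) : D.idx → (Red.Ga S ⟶ G) := fun c => v (D.P.reflectionPerm c c)

end Groth.L14.Chev

noncomputable section

namespace Groth.L14.Chev

variable {S : Scheme.{u}} {G : Over S} [GrpObj G] {D : Red.SplitRed G}

/-- The inverse of a root homomorphism is a root homomorphism. -/
theorem isRootHom_inv {g : D.idx} {f : Red.Ga S ⟶ G}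
    (hf : Red.IsRootHom D.i (D.split.hom.hom.hom ≫ Red.chi S (D.P.root g)) f) :
    Red.IsRootHom D.i (D.split.hom.hom.hom ≫ Red.chi S (D.P.root g)) f⁻¹ := by
  haveI := hf.1
  haveI := hf.2.1
  have hneg : f⁻¹ = (𝟙 (Red.Ga S))⁻¹ ≫ f := by rw [GrpObj.inv_comp, Category.id_comp]
  have hinv : (𝟙 (Red.Ga S))⁻¹ ≫ (𝟙 (Red.Ga S))⁻¹ = 𝟙 (Red.Ga S) := by
    rw [GrpObj.comp_inv, Category.comp_id]; group
  haveI : IsIso ((𝟙 (Red.Ga S))⁻¹) := ⟨_, hinv, hinv⟩
  haveI : IsIso ((𝟙 (Red.Ga S))⁻¹).left := inferInstanceAs (IsIso ((Over.forget S).map ((𝟙 (Red.Ga S))⁻¹)))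
  refine ⟨Groth.L25.Bridge.isMonHom_of_mul _ fun Y p q => ?_, ?_, fun X t x => ?_⟩
  · rw [GrpObj.comp_inv, GrpObj.comp_inv, GrpObj.comp_inv, ← GrpObj.inv_comp (p * q) f, ← GrpObj.inv_comp p f,
      ← GrpObj.inv_comp q f, show (p * q)⁻¹ = p⁻¹ * q⁻¹ from GaPts.gaFn_injective (by
        show Red.gaFn _ = Red.gaFn _
        rw [GaPts.gaFn_inv, GaPts.gaFn_mul, GaPts.gaFn_mul, GaPts.gaFn_inv, GaPts.gaFn_inv, neg_add]),
      MonObj.mul_comp]
  · rw [hneg, Over.comp_left]; infer_instance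
  · obtain ⟨y, hy, hy'⟩ := hf.2.2 X t x
    refine ⟨y, ?_, hy'⟩
    rw [GrpObj.comp_inv, GrpObj.comp_inv, hy]
    group

variable (avc : D.idx → (Red.Gm S ⟶ D.T))
  (havc : ∀ a, avc a = Red.DSmap S (D.P.coroot a).toAddMonoidHom ≫ D.split.inv.hom.hom)
  {v : D.idx → (Red.Ga S ⟶ G)}
  (hv : ∀ c, Red.IsRootHom D.i (D.split.hom.hom.hom ≫ Red.chi S (D.P.root c)) (v c))
  {R : Type u} [CommRing R] (j : Spec (CommRingCat.of R) ⟶ S)

include havc hv in
/-- The inverse of a Weyl element on a root of odd pairing. -/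
theorem weyl_inv_conj (a g : D.idx) (hodd : D.P.pairing g a = -1)
    (hd : DualAt avc v (opp v) a) {C : Type u} [CommRing C] [Algebra R C] (x : C) :
    (weyl j v C a (-1))⁻¹ * (gp j x ≫ v g) * weyl j v C a (-1) =
      weyl j v C a (-1) * (gp j (-x) ≫ v g) * (weyl j v C a (-1))⁻¹ := by
  let P := pairRel avc havc hv j a hd C
  have h1 : weyl j v C a (-1) = P.w 1 := by
    rw [weyl]; simp [Groth.L25.RankOne.Rel.w, P, pairRel]
  have h2 : P.w 1 * P.w 1 = P.h (-1) := P.w_mul_w 1 1 (-1) (by simp)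
  have h3 : P.h (-1) * (gp j x ≫ v g) * (P.h (-1))⁻¹ = gp j (-x) ≫ v g := by
    show hpt j avc a (-1) * _ * (hpt j avc a (-1))⁻¹ = _
    rw [hpt_conj j avc havc hv, hodd]
    congr 2
    simp
  rw [h1, ← h3, ← h2]
  have h4 : P.w 1 * P.w 1 * (P.w 1 * P.w 1) = 1 := by
    rw [h2, ← P.h_mul, neg_mul_neg, _root_.mul_one, P.h_one]
  have h5 : (P.w 1)⁻¹ = P.w 1 * (P.w 1 * P.w 1) := inv_eq_of_mul_eq_one_left (by rw [← h4]; group)
  calc (P.w 1)⁻¹ * (gp j x ≫ v g) * P.w 1
      = P.w 1 * (P.w 1 * P.w 1) * (gp j x ≫ v g) * (P.w 1)⁻¹⁻¹ := by rw [← h5, _root_.inv_inv]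
    _ = _ := by
        conv_lhs => arg 2; rw [h5]
        group

end Groth.L14.Chev
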