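import Groth.Agent.L14.Chev.Linear
import Groth.Agent.L14.Chart.RootCombo

/-!
Commutator coefficients of root points, and the coefficients of their conjugation to first order.
-/

set_option autoImplicit false
universe u

open CategoryTheory CategoryTheory.Limits AlgebraicGeometry MonoidalCategory CartesianMonoidalCategory MonObj
open Groth.L14.RankOne Groth.L25 Groth.L14.Chart

set_option backward.isDefEq.respectTransparency.types false
set_option linter.style.haveILetI false

noncomputable section

namespace Groth.L14.Chev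

variable {S : Scheme.{u}} {G : Over S} [GrpObj G] {D : Red.SplitRed G}

/-- Linear independence of two roots, spelled out. -/
def Indep (D : Red.SplitRed G) (a b : D.idx) : Prop :=
  ∀ r s : ℤ, r • D.P.root a + s • D.P.root b = 0 → r = 0 ∧ s = 0

theorem Indep.symm {a b : D.idx} (h : Indep D a b) : Indep D b a := fun r s hrs =>
  (h s r (by rw [add_comm]; exact hrs)).symm

theorem Indep.of_combo {a b p q : D.idx} (h : Indep D a b) {r s t w : ℤ}
    (hp : D.P.root p = r • D.P.root a + s • D.P.root b) (hq : D.P.root q = t • D.P.root a + w • D.P.root b)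
    (hdet : r * w - s * t ≠ 0) : Indep D p q := by
  intro m n hmn
  rw [hp, hq] at hmn
  obtain ⟨e1, e2⟩ := h (m * r + n * t) (m * s + n * w) (by rw [← hmn]; module)
  have em : m * (r * w - s * t) = 0 := by linear_combination w * e1 - t * e2
  have en : n * (r * w - s * t) = 0 := by linear_combination r * e2 - s * e1
  exact ⟨(mul_eq_zero.1 em).resolve_right hdet, (mul_eq_zero.1 en).resolve_right hdet⟩

/-- The exponents of a root as a positive combination of two roots. -/
def pexp (a b d : D.idx) : ℕ × ℕ :=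
  open Classical in
  if h : ∃ p : ℕ × ℕ, 1 ≤ p.1 ∧ 1 ≤ p.2 ∧ D.P.root d = p.1 • D.P.root a + p.2 • D.P.root b then h.choose else (0, 0)

theorem pexp_eq {a b d : D.idx} (hab : Indep D a b) {i k : ℕ} (hi : 1 ≤ i) (hk : 1 ≤ k)
    (h : D.P.root d = i • D.P.root a + k • D.P.root b) : pexp a b d = (i, k) := by
  have he : ∃ p : ℕ × ℕ, 1 ≤ p.1 ∧ 1 ≤ p.2 ∧ D.P.root d = p.1 • D.P.root a + p.2 • D.P.root b := ⟨(i, k), hi, hk, h⟩
  rw [pexp, dif_pos he]
  obtain ⟨-, -, h'⟩ := he.choose_spec
  obtain ⟨e1, e2⟩ := hab ((he.choose.1 : ℤ) - i) ((he.choose.2 : ℤ) - k) (by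
    rw [sub_smul, sub_smul, natCast_zsmul, natCast_zsmul, natCast_zsmul, natCast_zsmul,
      show he.choose.1 • D.P.root a - i • D.P.root a + (he.choose.2 • D.P.root b - k • D.P.root b) =
        (he.choose.1 • D.P.root a + he.choose.2 • D.P.root b) - (i • D.P.root a + k • D.P.root b) by abel,
      ← h', ← h, sub_self])
  exact Prod.ext (by omega) (by omega)

/-- The degree of a root in the string of `c` along `a`. -/
def adeg (a c d : D.idx) : ℕ :=
  open Classical in
  if h : ∃ n : ℕ, D.P.root d = D.P.root c + n • D.P.root a then h.choose else 0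

theorem adeg_eq {a c d : D.idx} {n : ℕ} (h : D.P.root d = D.P.root c + n • D.P.root a) : adeg a c d = n := by
  have he : ∃ n : ℕ, D.P.root d = D.P.root c + n • D.P.root a := ⟨n, h⟩
  rw [adeg, dif_pos he]
  haveI : IsAddTorsionFree D.M := .of_isTorsionFree ℤ D.M
  have h' := h.symm.trans he.choose_spec
  rw [add_right_inj, ← natCast_zsmul, ← natCast_zsmul] at h'
  exact (Int.ofNat_inj.1 (smul_left_injective ℤ (D.P.ne_zero a) h')).symm

theorem adeg_self (a c : D.idx) : adeg a c c = 0 := adeg_eq (by simp)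

variable {R : Type u} [CommRing R] (j : Spec (CommRingCat.of R) ⟶ S) (v : D.idx → (Red.Ga S ⟶ G))

/-- `K` gives the coefficients of the commutator of `v a` and `v b`. -/
structure IsCommK (a b : D.idx) (K : D.idx → R) : Prop where
  supp : ∀ d, K d ≠ 0 → ∃ i k : ℕ, 1 ≤ i ∧ 1 ≤ k ∧ D.P.root d = i • D.P.root a + k • D.P.root b
  eq : ∀ (C : Type u) [CommRing C] [Algebra R C] (x y : C), Chart.comm j (v a) (v b) x y =
    rp j v fun d => algebraMap R C (K d) * x ^ (pexp a b d).1 * y ^ (pexp a b d).2

/-- The coordinates of a first order conjugate. -/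
def adjVec (a c : D.idx) (A : D.idx → R) {C : Type u} [CommRing C] [Algebra R C] (x y : C) : D.idx → C :=
  fun d => algebraMap R C (A d) * x ^ adeg a c d * y

/-- `A` gives the coefficients of the conjugation of first order root points along `c` by `v a`. -/
structure IsAdj (a c : D.idx) (A : D.idx → R) : Prop where
  supp : ∀ d, A d ≠ 0 → ∃ n : ℕ, D.P.root d = D.P.root c + n • D.P.root a
  self : A c = 1
  conj : ∀ (C : Type u) [CommRing C] [Algebra R C] (x y : C), y * y = 0 →
    (gp j x ≫ v a) * (gp j y ≫ v c) * (gp j x ≫ v a)⁻¹ = rp j v (adjVec a c A x y)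

variable {j v} [IsOpenImmersion j] (hv : ∀ c, Red.IsRootHom D.i (D.split.hom.hom.hom ≫ Red.chi S (D.P.root c)) (v c))

theorem span_singleton_sqzero {C : Type u} [CommRing C] {y : C} (hy : y * y = 0) :
    ∀ a ∈ Ideal.span {y}, ∀ b ∈ Ideal.span {y}, a * b = 0 := by
  intro a ha b hb
  obtain ⟨a', rfl⟩ := Ideal.mem_span_singleton'.1 ha
  obtain ⟨b', rfl⟩ := Ideal.mem_span_singleton'.1 hb
  linear_combination a' * b' * hy

theorem isNilpotent_span_singleton {C : Type u} [CommRing C] {y : C} (hy : y * y = 0) :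
    IsNilpotent (Ideal.span {y}) :=
  ⟨2, by rw [Ideal.span_singleton_pow, pow_two, hy, Ideal.zero_eq_bot, Ideal.span_singleton_eq_bot]⟩

include hv in
theorem exists_isCommK (a b : D.idx) (hab : Indep D a b) : ∃ K, IsCommK j v a b K := by
  obtain ⟨K, hK, he⟩ := comm_expansion j hv (nodup_allRoots D) (mem_allRoots D) a b
    (fun i k hi _ h => by
      have := (hab (i : ℤ) (k : ℤ) (by rw [natCast_zsmul, natCast_zsmul]; exact h)).1
      omega)
    (pexp a b) (fun c i k hi hk h => pexp_eq hab hi hk h)
  exact ⟨K, fun d hd => ⟨_, _, (hK d hd).1, (hK d hd).2.1, (hK d hd).2.2⟩, he⟩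

include hv in
theorem IsCommK.isAdj [DecidableEq D.idx] {a c : D.idx} {K : D.idx → R} (h : IsCommK j v a c K) (hac : Indep D a c) :
    IsAdj j v a c fun d => if d = c then 1 else if (pexp a c d).2 = 1 then -K d else 0 := by
  haveI : ∀ c, IsMonHom (v c) := fun c => (hv c).1
  refine ⟨fun d hd => ?_, if_pos rfl, fun C _ _ x y hy => ?_⟩
  · by_cases hdc : d = c
    · exact ⟨0, by simp [hdc]⟩
    · simp only [if_neg hdc, ne_eq, ite_eq_right_iff, neg_eq_zero, not_forall] at hd
      obtain ⟨h1, h2⟩ := hd
      obtain ⟨i, k, hi, hk, he⟩ := h.supp d h2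
      rw [pexp_eq hac hi hk he] at h1
      change k = 1 at h1
      exact ⟨i, by rw [he, h1, one_smul, add_comm]⟩
  have hKc : K c = 0 := by
    by_contra h2
    obtain ⟨i, k, hi, hk, he⟩ := h.supp c h2
    have := (hac (i : ℤ) ((k : ℤ) - 1) (by
      rw [sub_smul, one_smul, natCast_zsmul, natCast_zsmul, ← add_sub_assoc, ← he, sub_self])).1
    omega
  have h1 : (gp j x ≫ v a) * (gp j y ≫ v c) * (gp j x ≫ v a)⁻¹ =
      (gp j y ≫ v c) * Chart.comm j (v a) (v c) x (-y) := by
    rw [Chart.comm, gp_neg, GrpObj.inv_comp, inv_inv]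
    group
  rw [h1, h.eq, ← rp_single j hv]
  have hmem : ∀ d, algebraMap R C (K d) * x ^ (pexp a c d).1 * (-y) ^ (pexp a c d).2 ∈ Ideal.span {y} := fun d => by
    by_cases hd : K d = 0
    · simp [hd]
    · obtain ⟨i, k, hi, hk, he⟩ := h.supp d hd
      rw [pexp_eq hac hi hk he]
      exact Ideal.mul_mem_left _ _ (Ideal.pow_mem_of_mem _ ((Ideal.span {y}).neg_mem (Ideal.mem_span_singleton_self y)) _ hk)
  rw [← rp_add j hv (span_singleton_sqzero hy) (fun d => by
    by_cases hd : d = c
    · subst hd; rw [Pi.single_eq_same]; exact Ideal.mem_span_singleton_self y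
    · rw [Pi.single_eq_of_ne hd]; exact Submodule.zero_mem _) hmem]
  congr 1
  funext d
  rw [Pi.add_apply, adjVec]
  by_cases hd : d = c
  · subst hd
    simp [hKc, adeg_self]
  · rw [Pi.single_eq_of_ne hd, zero_add, if_neg hd]
    by_cases hKd : K d = 0
    · simp [hKd]
    · obtain ⟨i, k, hi, hk, he⟩ := h.supp d hKd
      rw [pexp_eq hac hi hk he]
      rcases Nat.lt_or_ge k 2 with hk2 | hk2
      · obtain rfl : k = 1 := by omega
        rw [if_pos rfl, adeg_eq (show D.P.root d = D.P.root c + i • D.P.root a by rw [he, one_smul, add_comm]), map_neg]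
        ring
      · rw [if_neg (by intro h'; change k = 1 at h'; omega), map_zero, zero_mul, zero_mul]
        obtain ⟨k', rfl⟩ := Nat.exists_eq_add_of_le hk2
        have hy2 : (-y) ^ 2 = 0 := by rw [pow_two, neg_mul_neg, hy]
        rw [pow_add, hy2, zero_mul, mul_zero]

include hv in
theorem exists_isAdj (a c : D.idx) (hac : Indep D a c) : ∃ A, IsAdj j v a c A := by
  classical
  obtain ⟨K, hK⟩ := exists_isCommK (j := j) hv a c hac
  exact ⟨_, hK.isAdj hv hac⟩

omit [IsOpenImmersion j] in
theorem IsAdj.mem {a c : D.idx} {A : D.idx → R} {C : Type u} [CommRing C] [Algebra R C] (x y : C) (d : D.idx) :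
    adjVec a c A x y d ∈ Ideal.span {y} :=
  Ideal.mul_mem_left _ _ (Ideal.mem_span_singleton_self y)

omit [IsOpenImmersion j] in
theorem IsAdj.eq_zero {a c : D.idx} {A : D.idx → R} (h : IsAdj j v a c A) {d : D.idx}
    (hd : ∀ n : ℕ, D.P.root d ≠ D.P.root c + n • D.P.root a) : A d = 0 := by
  by_contra h'
  obtain ⟨n, hn⟩ := h.supp d h'
  exact hd n hn

theorem smul_eps_injective {C : Type u} [CommRing C] {r s : C}
    (h : algebraMap C (DualNumber C) r * DualNumber.eps = algebraMap C _ s * DualNumber.eps) : r = s := by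
  simpa [TrivSqZeroExt.algebraMap_eq_inl] using congrArg TrivSqZeroExt.snd h

include hv in
theorem IsAdj.unique {a c : D.idx} {A B : D.idx → R} (hA : IsAdj j v a c A) (hB : IsAdj j v a c B) : A = B := by
  let e : DualNumber R := DualNumber.eps
  have he : e * e = 0 := DualNumber.eps_mul_eps
  have h := rp_injective j hv (isNilpotent_span_singleton he) (IsAdj.mem 1 e) (IsAdj.mem 1 e)
    ((hA.conj _ 1 e he).symm.trans (hB.conj _ 1 e he))
  funext d
  have := congrFun h d
  simp only [adjVec, one_pow, _root_.mul_one] at this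
  exact smul_eps_injective this

include hv in
/-- Conjugation distributes over products of root points with pairwise null coordinates. -/
theorem conj_rp {C : Type u} [CommRing C] [Algebra R C] {I : Ideal C} (hI : ∀ a ∈ I, ∀ b ∈ I, a * b = 0)
    (g : Sp j C ⟶ G) (z : D.idx → C) (F : D.idx → D.idx → C) (hF : ∀ c d, F c d ∈ I)
    (h : ∀ c, g * (gp j (z c) ≫ v c) * g⁻¹ = rp j v (F c)) :
    g * rp j v z * g⁻¹ = rp j v (∑ c, F c) := by
  have h1 : (allRoots D).map F = (Finset.univ.toList).map F := rfl
  rw [← Finset.sum_map_toList Finset.univ F, ← h1, rp_sum j hv hI _ _ hF, rp, rootProd]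
  rw [show g * ((allRoots D).map fun c => gp j (z c) ≫ v c).prod * g⁻¹ =
    (MulAut.conj g) ((allRoots D).map fun c => gp j (z c) ≫ v c).prod from rfl, map_list_prod, List.map_map]
  exact congrArg List.prod (List.map_congr_left fun c _ => h c)

include hv in
/-- Composition of conjugations: the addition law of the coefficients. -/
theorem IsAdj.comp {a c : D.idx} {A : D.idx → R} (hA : IsAdj j v a c A) (B : D.idx → D.idx → R)
    (hB : ∀ m, A m ≠ 0 → IsAdj j v a m (B m)) (d : D.idx) {C : Type u} [CommRing C] [Algebra R C] (x x' : C) :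
    algebraMap R C (A d) * (x + x') ^ adeg a c d =
      ∑ m, algebraMap R C (A m) * x' ^ adeg a c m * (algebraMap R C (B m d) * x ^ adeg a m d) := by
  classical
  haveI : ∀ c, IsMonHom (v c) := fun c => (hv c).1
  let C' := DualNumber C
  let em : C →ₐ[R] C' := IsScalarTower.toAlgHom R C C'
  let e : C' := DualNumber.eps
  have he : e * e = 0 := DualNumber.eps_mul_eps
  let z := adjVec a c A (em x') e
  have hz : ∀ m, z m * z m = 0 := fun m => span_singleton_sqzero he _ (IsAdj.mem _ _ m) _ (IsAdj.mem _ _ m)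
  let F : D.idx → D.idx → C' := fun m => if A m = 0 then 0 else adjVec a m (B m) (em x) (z m)
  have hF : ∀ m d, F m d ∈ Ideal.span {e} := fun m d => by
    simp only [F]
    split_ifs
    · exact Submodule.zero_mem _
    · exact Ideal.mul_mem_left _ _ (IsAdj.mem _ _ m)
  have h : (gp j (em (x + x')) ≫ v a) * (gp j e ≫ v c) * (gp j (em (x + x')) ≫ v a)⁻¹ = rp j v (∑ m, F m) := by
    rw [← conj_rp hv (span_singleton_sqzero he) (gp j (em x) ≫ v a) z F hF fun m => ?_, ← hA.conj C' (em x') e he,
      map_add, gp_add, MonObj.mul_comp]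
    · group
    · simp only [F]
      split_ifs with hm
      · rw [rp_zero j hv, show z m = 0 by simp [z, adjVec, hm], gp_zero, MonObj.one_comp]
        group
      · exact (hB m hm).conj C' _ _ (hz m)
  have := congrFun (rp_injective j hv (isNilpotent_span_singleton he) (IsAdj.mem _ _) (fun d => by
    rw [Finset.sum_apply]; exact Submodule.sum_mem _ fun m _ => hF m d) ((hA.conj C' (em (x + x')) e he).symm.trans h)) d
  have h2 : ∀ m, F m d = em (algebraMap R C (A m) * x' ^ adeg a c m * (algebraMap R C (B m d) * x ^ adeg a m d)) * e :=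
    fun m => by
    simp only [F]
    split_ifs with hm
    · simp [hm]
    · simp only [adjVec, z, ← AlgHom.commutes em, ← map_pow, ← _root_.mul_assoc, ← map_mul]
      congr 2
      ring
  rw [Finset.sum_apply, Finset.sum_congr rfl fun m _ => h2 m, ← Finset.sum_mul, ← map_sum, adjVec,
    ← AlgHom.commutes em, ← map_pow, ← map_mul] at this
  exact smul_eps_injective this

end Groth.L14.Chev
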