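import Groth.Agent.L14.Chev.Listed
import Groth.Agent.L14.Chev.Simple

/-!
The commutators of a short and a long root making the angle of a base of a system of type B₂.
-/

set_option autoImplicit false
universe u

open CategoryTheory CategoryTheory.Limits AlgebraicGeometry MonoidalCategory CartesianMonoidalCategory MonObj
open Groth.L14.RankOne Groth.L25 Groth.L14.Chart

set_option backward.isDefEq.respectTransparency.types false
set_option linter.style.haveILetI false

noncomputable section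

namespace Groth.L14.Chev

variable {S : Scheme.{u}} {G : Over S} [GrpObj G] {D : Red.SplitRed G}

/-- The exponents of the roots between a short and a long simple root of a system of type B₂ or BC₂. -/
abbrev quadB : List (ℕ × ℕ) := [(1, 1), (2, 1), (2, 2)]

theorem quadrant_b2 {a b : D.idx} (hab : Indep D a b) (hba : D.P.pairing b a = -2)
    (hsub : D.P.root b - D.P.root a ∉ Set.range D.P.root) {i k : ℕ} (hi : 1 ≤ i) (hk : 1 ≤ k) {d : D.idx}
    (hd : D.P.root d = i • D.P.root a + k • D.P.root b) : (i, k) ∈ quadB := by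
  have hp := hab.pairs
  simp only [Set.mem_insert_iff, Set.mem_singleton_iff, Prod.mk.injEq] at hp
  have hab' : D.P.pairing a b = -1 := by omega
  have hsub' : D.P.root a - D.P.root b ∉ Set.range D.P.root := fun ⟨m, hm⟩ =>
    hsub ⟨D.P.reflectionPerm m m, by rw [root_self_refl, hm, neg_sub]⟩
  have n : ∀ r s : ℕ, ((r : ℤ) • D.P.root a + (s : ℤ) • D.P.root b ∉ Set.range D.P.root) →
      r • D.P.root a + s • D.P.root b ∉ Set.range D.P.root := fun r s h => by
    rwa [natCast_zsmul, natCast_zsmul] at h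
  have z12 : D.P.root a + (2 : ℤ) • D.P.root b ∉ Set.range D.P.root :=
    add_zsmul_notMem hab.symm hsub' (by rw [hab']; norm_num)
  have n12 := n 1 2 (by rw [Nat.cast_one, one_smul]; exact z12)
  have n31 := n 3 1 (by rw [Nat.cast_one, one_smul, add_comm]; exact add_zsmul_notMem hab hsub (by rw [hba]; norm_num))
  have n32 := n 3 2 (by
    rintro ⟨m, hm⟩
    have hp := RootCombo.pairing_of_eq D.P hm a
    rw [D.P.pairing_same, hba] at hp
    refine z12 ⟨D.P.reflectionPerm a m, ?_⟩
    rw [D.P.root_reflectionPerm, D.P.reflection_apply_root, hp, hm]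
    push_cast
    module)
  have n23 := n 2 3 (by
    rw [add_comm]
    exact not_root_of_pairing hab.symm (by norm_num) (Or.inl (by rw [hab']; norm_num)))
  refine quadrant hab quadB List.mem_cons_self (fun p hp => ?_) hi hk hd
  simp only [quadB, List.mem_cons, List.not_mem_nil, or_false] at hp
  rcases hp with rfl | rfl | rfl
  · exact ⟨Or.inl (by simp [quadB]), Or.inr n12⟩
  · exact ⟨Or.inr n31, Or.inl (by simp [quadB])⟩
  · exact ⟨Or.inr n32, Or.inr n23⟩

variable {R : Type u} [CommRing R] {j : Spec (CommRingCat.of R) ⟶ S} [IsOpenImmersion j]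
  {v : D.idx → (Red.Ga S ⟶ G)} (hv : ∀ c, Red.IsRootHom D.i (D.split.hom.hom.hom ≫ Red.chi S (D.P.root c)) (v c))

omit [IsOpenImmersion j] in
theorem eq_zero_of_mul_sq (r : R)
    (h : algebraMap R (Trunc R 3) r * toTrunc R 3 (MvPolynomial.X 0) ^ 2 = 0) : r = 0 := by
  classical
  rw [← (toTrunc R 3).commutes, ← map_pow, ← map_mul, MvPolynomial.algebraMap_eq, MvPolynomial.X_pow_eq_monomial,
    MvPolynomial.C_mul_monomial, _root_.mul_one] at h
  have := coeff_eq_of_toTrunc (h.trans (map_zero (toTrunc R 3)).symm)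
    (ν := Finsupp.single 0 2) (by simp [Finsupp.degree_single])
  simpa using this

include hv in
/-- Conjugating by a Weyl element shows that a doubled root has no coefficient. -/
theorem double_coeff_zero {a b c₁ c₂ d : D.idx} {sb tb : ℤ} {k₁ k₂ k₃ : R} (hab : Indep D a b)
    (hnd : [c₁, c₂, d, a].Nodup) (h₁ : D.P.root c₁ = D.P.root a + D.P.root b)
    (hd : D.P.root d = (2 : ℕ) • D.P.root a + (2 : ℕ) • D.P.root b)
    (hWba : WeylAct j v b a sb tb) (ht : D.P.reflectionPerm b a = c₁)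
    (nbc : D.P.root b + D.P.root c₁ ∉ Set.range D.P.root)
    (hexp : ∀ (C : Type u) [CommRing C] [Algebra R C] (x : C), Chart.comm j (v a) (v b) x (1 : C) =
      (gp j (algebraMap R C k₁ * x) ≫ v c₁) * (gp j (algebraMap R C k₂ * x ^ 2) ≫ v c₂) *
        (gp j (algebraMap R C k₃ * x ^ 2) ≫ v d)) : k₃ = 0 := by
  classical
  haveI : ∀ c, IsMonHom (v c) := fun c => (hv c).1
  let bn := D.P.reflectionPerm b b
  let s := [c₁, c₂, d, a]
  let l := s ++ restRoots D s
  have hl : l.Nodup := nodup_append_rest hnd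
  have zc : D.P.root c₁ = (1 : ℤ) • D.P.root a + (1 : ℤ) • D.P.root b := by rw [h₁, one_smul, one_smul]
  have hi : Indep D bn c₁ := hab.of_combo (r := 0) (s := -1) (by rw [root_self_refl]; simp) zc (by simp)
  obtain ⟨K', hK'supp, hK'eq⟩ := comm_expansion j hv hl (mem_append_rest _) bn c₁
    (fun i k hi' _ h => by
      have := (hi (i : ℤ) (k : ℤ) (by rw [natCast_zsmul, natCast_zsmul]; exact h)).1
      omega)
    (pexp bn c₁) (fun c i k hi' hk h => pexp_eq hi hi' hk h)
  have hK'0 : ∀ (p : D.idx) (r : ℤ), D.P.root p = r • D.P.root a + r • D.P.root b → K' p = 0 := by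
    intro p r hp
    by_contra h
    obtain ⟨hi', hk, hr⟩ := hK'supp p h
    generalize (pexp bn c₁ p).1 = i at hi' hr
    generalize (pexp bn c₁ p).2 = k at hk hr
    rw [root_self_refl, h₁, hp] at hr
    obtain ⟨e1, e2⟩ := hab ((k : ℤ) - r) ((k : ℤ) - i - r) (by
      rw [← sub_eq_zero.2 hr.symm, ← natCast_zsmul, ← natCast_zsmul (D.P.root a + D.P.root b)]
      module)
    omega
  have hK'1 : K' c₁ = 0 := hK'0 c₁ 1 zc
  have hK'd : K' d = 0 := hK'0 d 2 (by rw [hd, ← natCast_zsmul, ← natCast_zsmul (D.P.root b)]; rfl)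
  let C₀ := Trunc R 3
  have hX : toTrunc R 3 (MvPolynomial.X 0) ∈ truncIdeal R 3 := toTrunc_X_mem 3 0
  suffices h : ∀ (X₀ : C₀), X₀ ∈ truncIdeal R 3 → algebraMap R C₀ k₃ * X₀ ^ 2 = 0 from
    eq_zero_of_mul_sq _ (h _ hX)
  intro X₀ hX₀
  have hT : weyl j v C₀ b sb * (gp j X₀ ≫ v a) * (weyl j v C₀ b sb)⁻¹ = gp j ((tb : C₀) * X₀) ≫ v c₁ := by
    rw [← ht]; exact hWba C₀ X₀
  rw [weyl] at hT
  have hET : (gp j (1 : C₀) ≫ v b) * (gp j ((tb : C₀) * X₀) ≫ v c₁) =
      (gp j ((tb : C₀) * X₀) ≫ v c₁) * (gp j (1 : C₀) ≫ v b) := commute_roots hv (fun h => by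
    rw [h₁] at h
    have := (hab 1 2 (by rw [← h]; module)).1
    omega) nbc _ _
  have key : Chart.comm j (v a) (v b) X₀ (1 : C₀) * (gp j X₀ ≫ v a) =
      (gp j ((tb : C₀) * X₀) ≫ v c₁) *
        Chart.comm j (v bn) (v c₁) (-(sb : C₀)) (-((tb : C₀) * X₀)) := by
    simp only [Chart.comm, gp_neg, GrpObj.inv_comp, _root_.inv_inv]
    generalize gp j (1 : C₀) ≫ v b = E at *
    generalize gp j ((sb : C₀)) ≫ v bn = W at *
    generalize gp j ((tb : C₀) * X₀) ≫ v c₁ = T at *
    generalize gp j X₀ ≫ v a = A at *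
    calc E * A * E⁻¹ * A⁻¹ * A = W⁻¹ * (E⁻¹ * (E * W * E * A * (E * W * E)⁻¹) * E) * W := by group
      _ = W⁻¹ * (E⁻¹ * T * E) * W := by rw [hT]
      _ = W⁻¹ * (E⁻¹ * (E * T)) * W := by rw [hET]; group
      _ = _ := by group
  let Z : D.idx → C₀ := fun p => if p = c₁ then (tb : C₀) * X₀ else
    algebraMap R C₀ (K' p) * (-(sb : C₀)) ^ (pexp bn c₁ p).1 * (-((tb : C₀) * X₀)) ^ (pexp bn c₁ p).2
  let U : D.idx → C₀ := fun p => if p = c₁ then algebraMap R C₀ k₁ * X₀ else if p = c₂ then algebraMap R C₀ k₂ * X₀ ^ 2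
    else if p = d then algebraMap R C₀ k₃ * X₀ ^ 2 else if p = a then X₀ else 0
  obtain ⟨hn1, hn'⟩ := List.nodup_cons.1 hnd
  obtain ⟨hn2, hn''⟩ := List.nodup_cons.1 hn'
  simp only [List.mem_cons, List.not_mem_nil, or_false, not_or] at hn1 hn2
  have hda : d ≠ a := fun e => by simp [e] at hn''
  have hR : (gp j ((tb : C₀) * X₀) ≫ v c₁) * Chart.comm j (v bn) (v c₁) (-(sb : C₀)) (-((tb : C₀) * X₀)) =
      rootProd j v l Z := by
    rw [hK'eq]
    show _ * rootProd j v (c₁ :: ([c₂, d, a] ++ restRoots D s)) _ =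
      rootProd j v (c₁ :: ([c₂, d, a] ++ restRoots D s)) Z
    simp only [rootProd, List.map_cons, List.prod_cons]
    rw [← _root_.mul_assoc]
    congr 1
    · simp [Z, hK'1, gp_zero, MonObj.one_comp]
    · refine congrArg List.prod (List.map_congr_left fun p hp => ?_)
      have hp1 : p ≠ c₁ := fun e => (List.nodup_cons.1 (show (c₁ :: ([c₂, d, a] ++ restRoots D s)).Nodup from hl)).1 (e ▸ hp)
      simp [Z, hp1]
  have hL : Chart.comm j (v a) (v b) X₀ (1 : C₀) * (gp j X₀ ≫ v a) = rootProd j v l U := by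
    rw [hexp C₀ X₀, show l = s ++ restRoots D s from rfl, rootProd_append_rest hv (fun p hp => by
      simp only [s, List.mem_cons, List.not_mem_nil, or_false, not_or] at hp
      simp [U, hp.1, hp.2.1, hp.2.2.1, hp.2.2.2])]
    simp [rootProd, s, U, Ne.symm hn1.1, Ne.symm hn1.2.1, Ne.symm hn1.2.2, Ne.symm hn2.1, Ne.symm hn2.2,
      hda.symm, _root_.mul_assoc]
  rw [hL, hR] at key
  have := rootProd_injective_on hv hl (isNilpotent_truncIdeal 3) (fun p _ => ?_) (fun p _ => ?_) key d
    (by simp [l, s])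
  · simpa [U, Z, Ne.symm hn1.2.1, Ne.symm hn2.1, hK'd] using this
  · simp only [U]
    split_ifs
    · exact Ideal.mul_mem_left _ _ hX₀
    · exact Ideal.mul_mem_left _ _ (Ideal.pow_mem_of_mem _ hX₀ _ two_pos)
    · exact Ideal.mul_mem_left _ _ (Ideal.pow_mem_of_mem _ hX₀ _ two_pos)
    · exact hX₀
    · exact Submodule.zero_mem _
  · simp only [Z]
    split_ifs
    · exact Ideal.mul_mem_left _ _ hX₀
    · by_cases hp : K' p = 0
      · simp [hp]
      · exact Ideal.mul_mem_left _ _
          (Ideal.pow_mem_of_mem _ ((truncIdeal R 3).neg_mem (Ideal.mul_mem_left _ _ hX₀)) _ (hK'supp p hp).2.1)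

include hv in
/-- The commutators of a base of type B₂. -/
theorem b2_relations {a b c₁ c₂ : D.idx} {sa ta sb tb : ℤ} (htb : (tb : R) * tb = 1) (hab : Indep D a b)
    (hba : D.P.pairing b a = -2) (hsub : D.P.root b - D.P.root a ∉ Set.range D.P.root)
    (h₁ : D.P.root c₁ = D.P.root a + D.P.root b) (h₂ : D.P.root c₂ = (2 : ℤ) • D.P.root a + D.P.root b)
    (hWab : WeylAct j v a b sa ta) (hWba : WeylAct j v b a sb tb) {C : Type u} [CommRing C] [Algebra R C] (x y : C) :
    Chart.comm j (v a) (v b) x y =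
        (gp j ((tb : C) * x * y) ≫ v c₁) * (gp j (-(ta : C) * x ^ 2 * y) ≫ v c₂) ∧
      Chart.comm j (v a) (v c₁) x y = gp j (2 * (ta : C) * tb * x * y) ≫ v c₂ := by
  classical
  haveI : ∀ c, IsMonHom (v c) := fun c => (hv c).1
  have hp := hab.pairs
  simp only [Set.mem_insert_iff, Set.mem_singleton_iff, Prod.mk.injEq] at hp
  have hab' : D.P.pairing a b = -1 := by omega
  have w₁ : D.P.root c₁ = (1 : ℕ) • D.P.root a + (1 : ℕ) • D.P.root b := by rw [h₁, one_smul, one_smul]
  have w₂ : D.P.root c₂ = (2 : ℕ) • D.P.root a + (1 : ℕ) • D.P.root b := by rw [h₂, one_smul, ← natCast_zsmul]; rfl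
  have e₁' := pexp_eq hab le_rfl le_rfl w₁
  have e₂' := pexp_eq hab (i := 2) (by norm_num) le_rfl w₂
  have quad := fun {i k : ℕ} (hi : 1 ≤ i) (hk : 1 ≤ k) {d} hd => quadrant_b2 hab hba hsub hi hk (d := d) hd
  have nroot : ∀ (i k : ℕ), 1 ≤ i → 1 ≤ k → (i, k) ∉ quadB →
      i • D.P.root a + k • D.P.root b ∉ Set.range D.P.root := fun i k hi hk h ⟨d, hd⟩ => h (quad hi hk hd)
  have ht₁ : D.P.reflectionPerm b a = c₁ := refl_eq (q := 1) hab' (by rw [one_smul, h₁])
  have ht₂ : D.P.reflectionPerm a b = c₂ := refl_eq (q := 2) hba (by rw [h₂, add_comm])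
  have hac₂ : Indep D a c₂ := hab.of_combo (r := 1) (s := 0) (t := 2) (w := 1) (by simp) (by rw [h₂, one_smul]) (by simp)
  have hbc₁ : Indep D b c₁ := hab.of_combo (r := 0) (s := 1) (t := 1) (w := 1) (by simp) (by rw [h₁, one_smul, one_smul]) (by simp)
  have hac₁ : Indep D a c₁ := hab.of_combo (r := 1) (s := 0) (t := 1) (w := 1) (by simp) (by rw [h₁, one_smul, one_smul]) (by simp)
  have nbc₁ : D.P.root b + D.P.root c₁ ∉ Set.range D.P.root := by
    rw [show D.P.root b + D.P.root c₁ = (1 : ℕ) • D.P.root a + (2 : ℕ) • D.P.root b by rw [w₁]; module]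
    exact nroot 1 2 le_rfl (by norm_num) (by decide)
  have nac₂ : D.P.root a + D.P.root c₂ ∉ Set.range D.P.root := by
    rw [show D.P.root a + D.P.root c₂ = (3 : ℕ) • D.P.root a + (1 : ℕ) • D.P.root b by rw [w₂]; module]
    exact nroot 3 1 (by norm_num) le_rfl (by decide)
  obtain ⟨A, hA⟩ := exists_isAdj (j := j) hv a b hab
  obtain ⟨B, hB⟩ := exists_isAdj (j := j) hv b a hab.symm
  have a2 : A c₂ = (ta : R) := hWab.top_value hv hA ht₂ hac₂ nac₂
  have a1 : A c₁ = -(tb : R) := by rw [hA.swap hv hB hab h₁, hWba.top_value hv hB ht₁ hbc₁ nbc₁]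
  obtain ⟨Q, hQ⟩ := exists_isAdj (j := j) hv a c₁ hac₁
  have t2 := hA.comp_two hv hab hQ (c₁ := c₁) (c₂ := c₂) (by rw [h₁, add_comm]) (by rw [w₂, one_smul, add_comm])
  rw [a1, a2] at t2
  have hQ2 : Q c₂ = -(2 * (ta : R) * tb) := by linear_combination (tb : R) * t2 - Q c₂ * htb
  obtain ⟨K, hK⟩ := exists_isCommK (j := j) hv a b hab
  have k₁ : K c₁ = (tb : R) := by rw [hK.eq_neg_adj hv hA hab le_rfl (by rw [one_smul, h₁]), a1, neg_neg]
  have k₂ : K c₂ = -(ta : R) := by rw [hK.eq_neg_adj hv hA hab (i := 2) (by norm_num) (by rw [w₂, one_smul]), a2]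
  have hsupp : ∀ d, d ≠ c₁ → d ≠ c₂ → K d ≠ 0 → D.P.root d = (2 : ℕ) • D.P.root a + (2 : ℕ) • D.P.root b := by
    intro d hd1 hd2 hd
    obtain ⟨i, k, hi, hk, he⟩ := hK.supp d hd
    have := quad hi hk he
    simp only [quadB, List.mem_cons, List.not_mem_nil, or_false, Prod.mk.injEq] at this
    rcases this with ⟨rfl, rfl⟩ | ⟨rfl, rfl⟩ | ⟨rfl, rfl⟩
    · exact absurd (D.P.root.injective (he.trans w₁.symm)) hd1
    · exact absurd (D.P.root.injective (he.trans w₂.symm)) hd2
    · exact he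
  have hcomm : ∀ {p q : D.idx} {i k i' k' : ℕ}, D.P.root p = i • D.P.root a + k • D.P.root b →
      D.P.root q = i' • D.P.root a + k' • D.P.root b → 1 ≤ i + i' → 1 ≤ k + k' → (i + i', k + k') ∉ quadB →
      ∀ {C : Type u} [CommRing C] [Algebra R C] (x y : C), Commute (gp j x ≫ v p) (gp j y ≫ v q) := by
    intro p q i k i' k' hp hq hi hk hn C _ _ x y
    have hs : D.P.root p + D.P.root q = (i + i') • D.P.root a + (k + k') • D.P.root b := by
      rw [hp, hq, add_smul, add_smul]; abel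
    refine commute_roots hv (fun h => ?_) (fun hr => nroot _ _ hi hk hn (hs ▸ hr)) x y
    rw [hs] at h
    have := (hab ((i + i' : ℕ) : ℤ) ((k + k' : ℕ) : ℤ) (by rw [natCast_zsmul, natCast_zsmul]; exact h)).1
    omega
  -- a root at twice the sum has no coefficient
  have hd0 : ∀ d, D.P.root d = (2 : ℕ) • D.P.root a + (2 : ℕ) • D.P.root b → K d = 0 := by
    intro d hd
    have e₃' := pexp_eq hab (i := 2) (k := 2) (by norm_num) (by norm_num) hd
    have n12 : c₁ ≠ c₂ := fun e => by simp [e, e₂'] at e₁'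
    have n13 : c₁ ≠ d := fun e => by simp [e, e₃'] at e₁'
    have n23 : c₂ ≠ d := fun e => by simp [e, e₃'] at e₂'
    have hne : ∀ {p : D.idx} {i k : ℕ}, D.P.root p = i • D.P.root a + k • D.P.root b → k ≠ 0 → p ≠ a := by
      intro p i k hp hk e
      subst e
      have := (hab ((i : ℤ) - 1) k (by
        rw [sub_smul, one_smul, natCast_zsmul, natCast_zsmul, sub_add_eq_add_sub, ← hp, sub_self])).2
      omega
    have hs4 : [c₁, c₂, d, a].Nodup := by
      simp [n12, n13, n23, hne w₁ (by norm_num), hne w₂ (by norm_num), hne hd (by norm_num)]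
    refine double_coeff_zero hv hab hs4 h₁ hd hWba ht₁ nbc₁ (k₁ := K c₁) (k₂ := K c₂) (k₃ := K d) fun C _ _ x => ?_
    have ha0 : ∀ p, p ≠ c₁ → p ≠ c₂ → p ≠ d → K p = 0 := fun p h1 h2 h3 => by
      by_contra h
      exact h3 (D.P.root.injective ((hsupp p h1 h2 h).trans hd.symm))
    rw [hK.eq, rp_of_commute hv [c₁, c₂, d] (by simp [n12, n13, n23]) _ (fun p hp => by
        simp only [List.mem_cons, List.not_mem_nil, or_false, not_or] at hp
        simp [ha0 p hp.1 hp.2.1 hp.2.2])
      (fun p hp q hq => by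
        simp only [List.mem_cons, List.not_mem_nil, or_false] at hp hq
        rcases hp with hp | hp | hp <;> rcases hq with hq | hq | hq <;> rewrite [hp, hq]
        · exact Commute.refl _
        · exact hcomm w₁ w₂ (by norm_num) (by norm_num) (by decide) _ _
        · exact hcomm w₁ hd (by norm_num) (by norm_num) (by decide) _ _
        · exact (hcomm w₁ w₂ (by norm_num) (by norm_num) (by decide) _ _).symm
        · exact Commute.refl _
        · exact hcomm w₂ hd (by norm_num) (by norm_num) (by decide) _ _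
        · exact (hcomm w₁ hd (by norm_num) (by norm_num) (by decide) _ _).symm
        · exact (hcomm w₂ hd (by norm_num) (by norm_num) (by decide) _ _).symm
        · exact Commute.refl _)]
    simp [e₁', e₂', e₃', _root_.mul_assoc]
  refine ⟨?_, ?_⟩
  · rw [hK.eq, rp_of_commute hv [c₁, c₂] (by simp; exact fun e => by simp [e, e₂'] at e₁') _ (fun p hp => by
        simp only [List.mem_cons, List.not_mem_nil, or_false, not_or] at hp
        by_cases hKp : K p = 0
        · simp [hKp]
        · simp [hd0 p (hsupp p hp.1 hp.2 hKp)])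
      (fun p hp q hq => by
        simp only [List.mem_cons, List.not_mem_nil, or_false] at hp hq
        rcases hp with hp | hp <;> rcases hq with hq | hq <;> rewrite [hp, hq]
        · exact Commute.refl _
        · exact hcomm w₁ w₂ (by norm_num) (by norm_num) (by decide) _ _
        · exact (hcomm w₁ w₂ (by norm_num) (by norm_num) (by decide) _ _).symm
        · exact Commute.refl _)]
    simp [e₁', e₂', k₁, k₂]
  · rw [comm_single hv hac₁ hQ (c := c₂) (by rw [h₂, h₁]; module)
      (by rw [show 2 • D.P.root a + D.P.root c₁ = (3 : ℕ) • D.P.root a + (1 : ℕ) • D.P.root b by rw [w₁]; module]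
          exact nroot 3 1 (by norm_num) le_rfl (by decide))
      (by rw [show D.P.root a + 2 • D.P.root c₁ = (3 : ℕ) • D.P.root a + (2 : ℕ) • D.P.root b by rw [w₁]; module]
          exact nroot 3 2 (by norm_num) (by norm_num) (by decide)) x y, hQ2]
    simp [map_ofNat]

end Groth.L14.Chev
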