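import Groth.Agent.L14.Chev.Coxeter

/-!
The braid relations between the Weyl elements of two dual pairs.
-/

set_option autoImplicit false
universe u

open CategoryTheory CategoryTheory.Limits AlgebraicGeometry MonoidalCategory CartesianMonoidalCategory MonObj
open Groth.L14.RankOne Groth.L25 Groth.L14.Chart

set_option backward.isDefEq.respectTransparency.types false
set_option linter.style.haveILetI false

noncomputable section

namespace Groth.L14.Chev

variable {S : Scheme.{u}} {G : Over S} [GrpObj G] {D : Red.SplitRed G} {avc : D.idx → (Red.Gm S ⟶ D.T)}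
  (havc : ∀ a, avc a = Red.DSmap S (D.P.coroot a).toAddMonoidHom ≫ D.split.inv.hom.hom)
  {v : D.idx → (Red.Ga S ⟶ G)}
  (hv : ∀ c, Red.IsRootHom D.i (D.split.hom.hom.hom ≫ Red.chi S (D.P.root c)) (v c))
  {R : Type u} [CommRing R] (j : Spec (CommRingCat.of R) ⟶ S) [IsOpenImmersion j]
  (e₁ : 𝟙_ (Over S) ⟶ Red.Ga S) (he₁ : Red.gaFn e₁ = 1)
  {C : Type u} [CommRing C] [Algebra R C]
  {p q : D.idx} {m n : 𝟙_ (Over S) ⟶ G}
  (hm : m = (e₁ ≫ v p) * (e₁ ≫ v (D.P.reflectionPerm p p))⁻¹ * (e₁ ≫ v p))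
  (hn : n = (e₁ ≫ v q) * (e₁ ≫ v (D.P.reflectionPerm q q))⁻¹ * (e₁ ≫ v q))
  (hp : DualAt avc v (opp v) p) (hq : DualAt avc v (opp v) q) (hpq : Indep D p q)

include havc hv he₁ hn hq hpq in
/-- The commutator of two roots making the angle of type A₂, by the root group carried by the Weyl element. -/
theorem a2_comm (h1 : D.P.pairing p q = -1) (h21 : 2 • D.P.root p + D.P.root q ∉ Set.range D.P.root)
    (h12 : D.P.root p + 2 • D.P.root q ∉ Set.range D.P.root) (x y : C) :
    (gp j y ≫ v q) * (gp j x ≫ v p) = (gp j x ≫ v p) * (gp j y ≫ v q) * (gp j (x * y) ≫ conjHom n (v p)) := by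
  classical
  let c := D.P.reflectionPerm q p
  have hc : D.P.root c = D.P.root p + D.P.root q := by
    rw [D.P.root_reflectionPerm, D.P.reflection_apply_root, h1, neg_smul, one_smul, sub_neg_eq_add]
  have hact := actsBy_weyl avc havc hv e₁ he₁ q hq hn
  let v' := Function.update v c (conjHom n (v p))
  have hv' : ∀ g, Red.IsRootHom D.i (D.split.hom.hom.hom ≫ Red.chi S (D.P.root g)) (v' g) := fun g => by
    by_cases h : g = c
    · subst h
      rw [show v' c = _ from Function.update_self ..]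
      exact isRootHom_conjHom hact rfl (hv p)
    · simpa [v', h] using hv g
  have hne' : ∀ g (r s : ℤ), D.P.root g = r • D.P.root p + s • D.P.root q → (r ≠ 1 ∨ s ≠ 1) → v' g = v g := by
    intro g r s hg hrs
    have : g ≠ c := fun e => by
      have := hpq (r - 1) (s - 1) (by
        rw [sub_smul, sub_smul, one_smul, one_smul, ← add_sub_add_comm, ← hg, e, hc, sub_self])
      omega
    simp [v', this]
  have vp : v' p = v p := hne' p 1 0 (by simp) (Or.inr (by simp))
  have vq : v' q = v q := hne' q 0 1 (by simp) (Or.inl (by simp))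
  have vn : v' (D.P.reflectionPerm q q) = v (D.P.reflectionPerm q q) :=
    hne' _ 0 (-1) (by rw [root_self_refl]; simp) (Or.inl (by simp))
  have vc : v' c = conjHom n (v p) := by simp [v']
  haveI : IsMonHom (v' p) := (hv' p).1
  haveI : IsMonHom (v' q) := (hv' q).1
  have hW : WeylAct j v' q p (-1) 1 := fun C _ _ z => by
    have e : weyl j v' C q (-1) = toUnit _ ≫ n := by
      rw [toUnit_weyl hv j e₁ he₁ q hn, weyl, weyl, vq, vn]
    rw [e, vp, ← comp_conjHom, ← vc, Int.cast_one, _root_.one_mul]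
  obtain ⟨A, hA⟩ := exists_isAdj (j := j) hv' p q hpq
  obtain ⟨B, hB⟩ := exists_isAdj (j := j) hv' q p hpq.symm
  have hAc : A c = -1 := by
    rw [hA.swap hv' hB hpq hc, hW.top_value hv' hB rfl
      (hpq.of_combo (r := 0) (s := 1) (t := 1) (w := 1) (by simp) (by rw [hc, one_smul, one_smul]) (by simp))
      (by rw [hc, add_left_comm, ← two_nsmul]; exact h12)]
    simp
  have hcm := comm_single hv' hpq hA hc h21 h12 (-x) (-y)
  rw [Chart.comm, gp_neg, gp_neg, GrpObj.inv_comp, GrpObj.inv_comp, _root_.inv_inv, _root_.inv_inv, hAc] at hcm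
  rw [← vc, ← vp, ← vq, ← show -(algebraMap R C (-1)) * -x * -y = x * y by simp, ← hcm]
  group

include havc hv he₁ hm hn hp hq hpq in
/-- The two ways of carrying a root group to the middle of an angle of type A₂. -/
theorem a2_swap (h1 : D.P.pairing p q = -1) (h2 : D.P.pairing q p = -1)
    (h21 : 2 • D.P.root p + D.P.root q ∉ Set.range D.P.root)
    (h12 : D.P.root p + 2 • D.P.root q ∉ Set.range D.P.root) (x : C) :
    gp j x ≫ conjHom n (v p) = gp j (-x) ≫ conjHom m (v q) := by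
  have e1 := a2_comm havc hv j e₁ he₁ hn hq hpq h1 h21 h12 x (1 : C)
  have e2 := a2_comm havc hv j e₁ he₁ hm hp hpq.symm h2 (by rwa [add_comm]) (by rwa [add_comm]) (1 : C) x
  rw [_root_.mul_one] at e1
  rw [_root_.one_mul] at e2
  have e3 : gp j x ≫ conjHom n (v p) = (gp j x ≫ conjHom m (v q))⁻¹ := by
    rw [e2] at e1
    exact eq_inv_of_mul_eq_one_right (mul_left_cancel (a := (gp j (1 : C) ≫ v q) * (gp j x ≫ v p))
      (by rw [_root_.mul_one, ← _root_.mul_assoc]; exact e1.symm))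
  haveI := (isRootHom_conjHom (actsBy_weyl avc havc hv e₁ he₁ p hp hm) rfl (hv q)).1
  rw [e3, gp_neg, GrpObj.inv_comp]

include havc hv he₁ hm hn hp hq hpq in
/-- Two Weyl elements carry one root group of an angle of type A₂ to the other. -/
theorem a2_carry (h1 : D.P.pairing p q = -1) (h2 : D.P.pairing q p = -1)
    (h21 : 2 • D.P.root p + D.P.root q ∉ Set.range D.P.root)
    (h12 : D.P.root p + 2 • D.P.root q ∉ Set.range D.P.root) (x : C) :
    ((toUnit (Sp j C) ≫ m) * (toUnit (Sp j C) ≫ n)) * (gp j x ≫ v p) *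
      ((toUnit (Sp j C) ≫ m) * (toUnit (Sp j C) ≫ n))⁻¹ = gp j x ≫ v q := by
  have e4 := a2_swap havc hv j e₁ he₁ hm hn hp hq hpq h1 h2 h21 h12 x
  calc _ = (toUnit (Sp j C) ≫ m) * (gp j x ≫ conjHom n (v p)) * (toUnit (Sp j C) ≫ m)⁻¹ := by
        rw [comp_conjHom]; group
    _ = _ := by
        rw [e4, weyl_sq_conj havc hv j e₁ he₁ hp hm (hv q), h2]
        simp

include hv he₁ hm hn hpq in
/-- The braid relation of type A₁ × A₁. -/
theorem braid_two (hadd : D.P.root p + D.P.root q ∉ Set.range D.P.root)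
    (hsub : D.P.root p - D.P.root q ∉ Set.range D.P.root) :
    (toUnit (Sp j C) ≫ m) * (toUnit (Sp j C) ≫ n) = (toUnit (Sp j C) ≫ n) * (toUnit (Sp j C) ≫ m) := by
  have hneg : D.P.root (D.P.reflectionPerm p p) = -D.P.root p := root_self_refl p
  have c1 := fun x : C => weyl_fix hv j e₁ he₁ hn (hv p) hadd hsub hpq x
  have c2 := fun x : C => weyl_fix hv j e₁ he₁ hn (hv (D.P.reflectionPerm p p))
    (by rw [hneg, neg_add_eq_sub]; exact fun ⟨k, hk⟩ => hsub ⟨D.P.reflectionPerm k k, by rw [root_self_refl, hk, neg_sub]⟩)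
    (by rw [hneg, sub_eq_add_neg, ← neg_add]; exact fun ⟨k, hk⟩ => hadd ⟨D.P.reflectionPerm k k, by rw [root_self_refl, hk, neg_neg]⟩)
    (hpq.of_combo (r := -1) (s := 0) (t := 0) (w := 1) (by rw [hneg]; simp) (by simp) (by simp)) x
  rw [toUnit_weyl hv j e₁ he₁ p hm, weyl]
  exact (((c1 1).mul_right (c2 _)).mul_right (c1 1)).eq.symm

include havc hv he₁ hn hq in
omit [IsOpenImmersion j] in
/-- The inverse of a Weyl element is the one of the opposite root. -/
theorem weyl_opp (C : Type u) [CommRing C] [Algebra R C] :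
    toUnit (Sp j C) ≫ ((e₁ ≫ v (D.P.reflectionPerm q q)) *
      (e₁ ≫ v (D.P.reflectionPerm (D.P.reflectionPerm q q) (D.P.reflectionPerm q q)))⁻¹ *
      (e₁ ≫ v (D.P.reflectionPerm q q))) = (toUnit (Sp j C) ≫ n)⁻¹ := by
  haveI : ∀ c, IsMonHom (v c) := fun c => (hv c).1
  have e : D.P.reflectionPerm (D.P.reflectionPerm q q) (D.P.reflectionPerm q q) = q :=
    D.P.root.injective (by rw [root_self_refl, root_self_refl, neg_neg])
  have h1 := fun x : C => weyl_self avc havc hv j e₁ he₁ q hq hn x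
  have h2 : ∀ x : C, (toUnit (Sp j C) ≫ n) * (gp j x ≫ v (D.P.reflectionPerm q q)) * (toUnit (Sp j C) ≫ n)⁻¹ =
      gp j (-x) ≫ v q := fun x => by
    have h := weyl_sq_conj havc hv j e₁ he₁ hq hn (hv q) (-x)
    rw [comp_conjHom, h1, neg_neg, D.P.pairing_same] at h
    simpa using h
  have hw : toUnit (Sp j C) ≫ n = (gp j (1 : C) ≫ v q) * (gp j (-1 : C) ≫ v (D.P.reflectionPerm q q)) *
      (gp j (1 : C) ≫ v q) := by
    rw [toUnit_weyl hv j e₁ he₁ q hn, weyl, Int.cast_neg, Int.cast_one]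
  have hi : (toUnit (Sp j C) ≫ n)⁻¹ = (gp j (-1 : C) ≫ v q) * (gp j (1 : C) ≫ v (D.P.reflectionPerm q q)) *
      (gp j (-1 : C) ≫ v q) := by
    rw [hw, gp_neg (j := j) (1 : C), GrpObj.inv_comp, GrpObj.inv_comp]
    group
  rw [toUnit_weyl hv j e₁ he₁ (D.P.reflectionPerm q q) (w := _) rfl, weyl, e, Int.cast_neg, Int.cast_one]
  have h := conj_three (P := toUnit (Sp j C) ≫ n) (h1 (-1)) (h2 1)
  rw [← hi, neg_neg] at h
  rw [← h]
  group

include havc hv he₁ hm hn hp hq hpq in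
/-- The braid relation of type A₂. -/
theorem braid_three (h1 : D.P.pairing p q = -1) (h2 : D.P.pairing q p = -1)
    (h21 : 2 • D.P.root p + D.P.root q ∉ Set.range D.P.root)
    (h12 : D.P.root p + 2 • D.P.root q ∉ Set.range D.P.root) :
    (toUnit (Sp j C) ≫ m) * (toUnit (Sp j C) ≫ n) * (toUnit (Sp j C) ≫ m) =
      (toUnit (Sp j C) ≫ n) * (toUnit (Sp j C) ≫ m) * (toUnit (Sp j C) ≫ n) := by
  have hneg : ∀ {z : D.M}, z ∉ Set.range D.P.root → -z ∉ Set.range D.P.root := fun hz ⟨k, hk⟩ =>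
    hz ⟨D.P.reflectionPerm k k, by rw [root_self_refl, hk, neg_neg]⟩
  have hi' : Indep D (D.P.reflectionPerm p p) (D.P.reflectionPerm q q) := hpq.of_combo (r := -1) (s := 0) (t := 0)
    (w := -1) (by rw [root_self_refl]; simp) (by rw [root_self_refl]; simp) (by simp)
  have c1 := fun x : C => a2_carry havc hv j e₁ he₁ hm hn hp hq hpq h1 h2 h21 h12 x
  have c2 := fun x : C => a2_carry havc hv j e₁ he₁ (m := _) (n := _) rfl rfl (hp.symm havc hv) (hq.symm havc hv) hi'
    (by rw [D.P.pairing_reflectionPerm_self_left, D.P.pairing_reflectionPerm_self_right, h1]; ring)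
    (by rw [D.P.pairing_reflectionPerm_self_left, D.P.pairing_reflectionPerm_self_right, h2]; ring)
    (by rw [root_self_refl, root_self_refl, smul_neg, ← neg_add]; exact hneg h21)
    (by rw [root_self_refl, root_self_refl, smul_neg, ← neg_add]; exact hneg h12) x
  rw [weyl_opp havc hv j e₁ he₁ hm hp, weyl_opp havc hv j e₁ he₁ hn hq] at c2
  have hA : hpt j avc p (-1 : Cˣ) = (toUnit (Sp j C) ≫ m) * (toUnit (Sp j C) ≫ m) :=
    (weyl_sq havc hv j e₁ he₁ hp hm).symm
  have hB := hpt_negOne_sq (C := C) havc j q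
  have hA2 := hpt_negOne_sq (C := C) havc j p
  have hN := weyl_conj_hpt havc hv j e₁ he₁ hq hn p (-1 : Cˣ)
  rw [h2, neg_neg, zpow_one, weyl_sq havc hv j e₁ he₁ hq hn |>.symm] at hN
  rw [← weyl_sq havc hv j e₁ he₁ hq hn] at hB
  have c3 : ∀ x : C, ((toUnit (Sp j C) ≫ m) * (toUnit (Sp j C) ≫ n)) * (gp j x ≫ v (D.P.reflectionPerm p p)) *
      ((toUnit (Sp j C) ≫ m) * (toUnit (Sp j C) ≫ n))⁻¹ = gp j x ≫ v (D.P.reflectionPerm q q) := fun x => by
    rw [← c2 x]
    have hfix := hpt_negOne_conj havc hv j (hv (D.P.reflectionPerm p p)) p x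
    rw [D.P.pairing_reflectionPerm_self_left, D.P.pairing_same,
      show ((-1 : Cˣ) ^ (-2 : ℤ) : Cˣ) = 1 by norm_num, Units.val_one, _root_.one_mul] at hfix
    rw [hA] at hfix hN hA2
    generalize toUnit (Sp j C) ≫ m = M at *
    generalize toUnit (Sp j C) ≫ n = N at *
    generalize gp j x ≫ v (D.P.reflectionPerm p p) = U at *
    have e : M⁻¹ * N⁻¹ = M * N * (M * M) := by
      calc M⁻¹ * N⁻¹ = M⁻¹ * (M * M * (M * M)) * (N⁻¹ * (N * N * (N * N))) := by rw [hA2, hB]; group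
        _ = M * (M * M * (N * N)) * N := by group
        _ = M * N * (M * M) := by rw [← hN]; group
    rw [e]
    calc M * N * U * (M * N)⁻¹ = M * N * (M * M * U * (M * M)⁻¹) * (M * N)⁻¹ := by rw [hfix]
      _ = _ := by group
  have key := conj_three (P := (toUnit (Sp j C) ≫ m) * (toUnit (Sp j C) ≫ n)) (c1 1) (c3 (-1))
  have hM : toUnit (Sp j C) ≫ m = (gp j (1 : C) ≫ v p) * (gp j (-1 : C) ≫ v (D.P.reflectionPerm p p)) *
      (gp j (1 : C) ≫ v p) := by
    rw [toUnit_weyl hv j e₁ he₁ p hm, weyl, Int.cast_neg, Int.cast_one]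
  have hN' : toUnit (Sp j C) ≫ n = (gp j (1 : C) ≫ v q) * (gp j (-1 : C) ≫ v (D.P.reflectionPerm q q)) *
      (gp j (1 : C) ≫ v q) := by
    rw [toUnit_weyl hv j e₁ he₁ q hn, weyl, Int.cast_neg, Int.cast_one]
  rw [← hM, ← hN', mul_inv_eq_iff_eq_mul, ← _root_.mul_assoc] at key
  exact key

include havc hv he₁ hm hn hp in
/-- Three Weyl elements fix a root group of type B₂. -/
theorem fix_four {g : D.idx} (hc1 : D.P.root (D.P.reflectionPerm p g) + D.P.root q ∉ Set.range D.P.root)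
    (hc2 : D.P.root (D.P.reflectionPerm p g) - D.P.root q ∉ Set.range D.P.root)
    (hi : Indep D (D.P.reflectionPerm p g) q) (hev : Even (D.P.pairing g p)) (x : C) :
    ((toUnit (Sp j C) ≫ m) * (toUnit (Sp j C) ≫ n) * (toUnit (Sp j C) ≫ m)) * (gp j x ≫ v g) *
      ((toUnit (Sp j C) ≫ m) * (toUnit (Sp j C) ≫ n) * (toUnit (Sp j C) ≫ m))⁻¹ = gp j x ≫ v g := by
  have hf := isRootHom_conjHom (actsBy_weyl avc havc hv e₁ he₁ p hp hm) rfl (hv g)
  have h2 := weyl_fix hv j e₁ he₁ hn hf hc1 hc2 hi x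
  calc _ = (toUnit (Sp j C) ≫ m) * ((toUnit (Sp j C) ≫ n) * (gp j x ≫ conjHom m (v g)) *
        (toUnit (Sp j C) ≫ n)⁻¹) * (toUnit (Sp j C) ≫ m)⁻¹ := by rw [comp_conjHom]; group
    _ = _ := by
      rw [h2.eq, mul_inv_cancel_right, weyl_sq_conj havc hv j e₁ he₁ hp hm (hv g), hev.neg_one_zpow]
      simp

include havc hv he₁ hm hn hp hq in
/-- Five Weyl elements fix a root group of type G₂. -/
theorem fix_six {g : D.idx}
    (hc1 : D.P.root (D.P.reflectionPerm q (D.P.reflectionPerm p g)) + D.P.root p ∉ Set.range D.P.root)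
    (hc2 : D.P.root (D.P.reflectionPerm q (D.P.reflectionPerm p g)) - D.P.root p ∉ Set.range D.P.root)
    (hi : Indep D (D.P.reflectionPerm q (D.P.reflectionPerm p g)) p)
    (hev : Even (D.P.pairing (D.P.reflectionPerm p g) q + D.P.pairing g p)) (x : C) :
    ((toUnit (Sp j C) ≫ m) * (toUnit (Sp j C) ≫ n) * (toUnit (Sp j C) ≫ m) * (toUnit (Sp j C) ≫ n) *
      (toUnit (Sp j C) ≫ m)) * (gp j x ≫ v g) *
      ((toUnit (Sp j C) ≫ m) * (toUnit (Sp j C) ≫ n) * (toUnit (Sp j C) ≫ m) * (toUnit (Sp j C) ≫ n) *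
      (toUnit (Sp j C) ≫ m))⁻¹ = gp j x ≫ v g := by
  have hf := isRootHom_conjHom (actsBy_weyl avc havc hv e₁ he₁ p hp hm) rfl (hv g)
  have hf' := isRootHom_conjHom (actsBy_weyl avc havc hv e₁ he₁ q hq hn) rfl hf
  have h2 := weyl_fix hv j e₁ he₁ hm hf' hc1 hc2 hi x
  calc _ = (toUnit (Sp j C) ≫ m) * ((toUnit (Sp j C) ≫ n) * ((toUnit (Sp j C) ≫ m) *
        (gp j x ≫ conjHom n (conjHom m (v g))) * (toUnit (Sp j C) ≫ m)⁻¹) * (toUnit (Sp j C) ≫ n)⁻¹) *
        (toUnit (Sp j C) ≫ m)⁻¹ := by rw [comp_conjHom, comp_conjHom]; group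
    _ = _ := by
      rw [h2.eq, mul_inv_cancel_right, weyl_sq_conj havc hv j e₁ he₁ hq hn hf,
        weyl_sq_conj havc hv j e₁ he₁ hp hm (hv g), ← _root_.mul_assoc, ← Units.val_mul, ← zpow_add,
        add_comm, hev.neg_one_zpow]
      simp

include hv he₁ hn in
omit [IsOpenImmersion j] in
/-- A conjugation fixing both root groups fixes the Weyl element. -/
theorem conj_weyl_of_fix {P : Sp j C ⟶ G} (h1 : ∀ x : C, P * (gp j x ≫ v q) * P⁻¹ = gp j x ≫ v q)
    (h2 : ∀ x : C, P * (gp j x ≫ v (D.P.reflectionPerm q q)) * P⁻¹ = gp j x ≫ v (D.P.reflectionPerm q q)) :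
    P * (toUnit (Sp j C) ≫ n) = (toUnit (Sp j C) ≫ n) * P := by
  rw [toUnit_weyl hv j e₁ he₁ q hn, weyl, ← mul_inv_eq_iff_eq_mul]
  exact conj_three (h1 1) (h2 _)

include havc hv he₁ hm hn hp hpq in
/-- The braid relation of type B₂. -/
theorem braid_four (h1 : D.P.pairing q p = -2)
    (ha : ∀ r s : ℤ, (r = 2 ∨ r = -2) → (s = 0 ∨ s = r) → r • D.P.root p + s • D.P.root q ∉ Set.range D.P.root) :
    (toUnit (Sp j C) ≫ m) * (toUnit (Sp j C) ≫ n) * (toUnit (Sp j C) ≫ m) * (toUnit (Sp j C) ≫ n) =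
      (toUnit (Sp j C) ≫ n) * (toUnit (Sp j C) ≫ m) * (toUnit (Sp j C) ≫ n) * (toUnit (Sp j C) ≫ m) := by
  have hc : D.P.root (D.P.reflectionPerm p q) = (2 : ℤ) • D.P.root p + (1 : ℤ) • D.P.root q := by
    rw [D.P.root_reflectionPerm, D.P.reflection_apply_root, h1]; module
  have hd : D.P.root (D.P.reflectionPerm p (D.P.reflectionPerm q q)) =
      (-2 : ℤ) • D.P.root p + (-1 : ℤ) • D.P.root q := by
    rw [D.P.root_reflectionPerm, D.P.reflection_apply_root, D.P.pairing_reflectionPerm_self_left, h1,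
      root_self_refl]
    module
  have := conj_weyl_of_fix hv j e₁ he₁ hn
    (fun x : C => fix_four havc hv j e₁ he₁ hm hn hp
      (by rw [hc]; convert ha 2 2 (Or.inl rfl) (Or.inr rfl) using 2; module)
      (by rw [hc]; convert ha 2 0 (Or.inl rfl) (Or.inl rfl) using 2; module)
      (hpq.of_combo (r := 2) (s := 1) (t := 0) (w := 1) hc (by simp) (by norm_num)) (by rw [h1]; decide) x)
    (fun x : C => fix_four havc hv j e₁ he₁ hm hn hp
      (by rw [hd]; convert ha (-2) 0 (Or.inr rfl) (Or.inl rfl) using 2; module)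
      (by rw [hd]; convert ha (-2) (-2) (Or.inr rfl) (Or.inr rfl) using 2; module)
      (hpq.of_combo (r := -2) (s := -1) (t := 0) (w := 1) hd (by simp) (by norm_num))
      (by rw [D.P.pairing_reflectionPerm_self_left, h1]; decide) x)
  rw [this]
  simp only [_root_.mul_assoc]

include havc hv he₁ hm hn hp hq hpq in
/-- The braid relation of type G₂. -/
theorem braid_six (h1 : D.P.pairing q p = -3) (h2 : D.P.pairing p q = -1)
    (ha : ∀ r s : ℤ, (s = 2 ∧ (r = 2 ∨ r = 4)) ∨ (s = -2 ∧ (r = -2 ∨ r = -4)) →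
      r • D.P.root p + s • D.P.root q ∉ Set.range D.P.root) :
    (toUnit (Sp j C) ≫ m) * (toUnit (Sp j C) ≫ n) * (toUnit (Sp j C) ≫ m) * (toUnit (Sp j C) ≫ n) *
        (toUnit (Sp j C) ≫ m) * (toUnit (Sp j C) ≫ n) =
      (toUnit (Sp j C) ≫ n) * (toUnit (Sp j C) ≫ m) * (toUnit (Sp j C) ≫ n) * (toUnit (Sp j C) ≫ m) *
        (toUnit (Sp j C) ≫ n) * (toUnit (Sp j C) ≫ m) := by
  have hc : D.P.root (D.P.reflectionPerm p q) = (3 : ℤ) • D.P.root p + (1 : ℤ) • D.P.root q := by
    rw [D.P.root_reflectionPerm, D.P.reflection_apply_root, h1]; module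
  have hd : D.P.root (D.P.reflectionPerm p (D.P.reflectionPerm q q)) =
      (-3 : ℤ) • D.P.root p + (-1 : ℤ) • D.P.root q := by
    rw [D.P.root_reflectionPerm, D.P.reflection_apply_root, D.P.pairing_reflectionPerm_self_left, h1,
      root_self_refl]
    module
  have ec : D.P.pairing (D.P.reflectionPerm p q) q = -1 := by
    rw [RootCombo.pairing_of_eq D.P hc q, D.P.pairing_same, h2]; norm_num
  have ed : D.P.pairing (D.P.reflectionPerm p (D.P.reflectionPerm q q)) q = 1 := by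
    rw [RootCombo.pairing_of_eq D.P hd q, D.P.pairing_same, h2]; norm_num
  have hc' : D.P.root (D.P.reflectionPerm q (D.P.reflectionPerm p q)) =
      (3 : ℤ) • D.P.root p + (2 : ℤ) • D.P.root q := by
    rw [D.P.root_reflectionPerm, D.P.reflection_apply_root, ec, hc]; module
  have hd' : D.P.root (D.P.reflectionPerm q (D.P.reflectionPerm p (D.P.reflectionPerm q q))) =
      (-3 : ℤ) • D.P.root p + (-2 : ℤ) • D.P.root q := by
    rw [D.P.root_reflectionPerm, D.P.reflection_apply_root, ed, hd]; module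
  have := conj_weyl_of_fix hv j e₁ he₁ hn
    (fun x : C => fix_six havc hv j e₁ he₁ hm hn hp hq
      (by rw [hc']; convert ha 4 2 (Or.inl ⟨rfl, Or.inr rfl⟩) using 2; module)
      (by rw [hc']; convert ha 2 2 (Or.inl ⟨rfl, Or.inl rfl⟩) using 2; module)
      (hpq.of_combo (r := 3) (s := 2) (t := 1) (w := 0) hc' (by simp) (by norm_num)) (by rw [ec, h1]; decide) x)
    (fun x : C => fix_six havc hv j e₁ he₁ hm hn hp hq
      (by rw [hd']; convert ha (-2) (-2) (Or.inr ⟨rfl, Or.inl rfl⟩) using 2; module)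
      (by rw [hd']; convert ha (-4) (-2) (Or.inr ⟨rfl, Or.inr rfl⟩) using 2; module)
      (hpq.of_combo (r := -3) (s := -2) (t := 1) (w := 0) hd' (by simp) (by norm_num))
      (by rw [ed, D.P.pairing_reflectionPerm_self_left, h1]; decide) x)
  rw [this]
  simp only [_root_.mul_assoc]

omit [IsOpenImmersion j] in
/-- Points of the coroot of a global `-1`. -/
theorem toUnit_hpt_negOne {a : D.idx} (m₁ : 𝟙_ (Over S) ⟶ Red.Gm S) (hm₁ : Red.gmFn m₁ = -1) :
    toUnit (Sp j C) ≫ m₁ ≫ avc a ≫ D.i = hpt j avc a (-1) := by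
  rw [hpt, ← Category.assoc]
  congr 1
  refine GmPts.gmFn_injective ?_
  show Red.gmFn _ = Red.gmFn _
  rw [GmPts.gmFn_comp, hm₁, gmFn_up, map_neg, map_one, Units.val_neg, Units.val_one, map_neg, map_one]

theorem comp_pow' {X Y : Over S} (t : X ⟶ Y) (f : Y ⟶ G) (k : ℕ) : t ≫ f ^ k = (t ≫ f) ^ k := by
  induction k with
  | zero => simp [MonObj.comp_one]
  | succ k ih => rw [pow_succ, pow_succ, MonObj.comp_mul, ih]

/-- Two global points agreeing on all charts are equal. -/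
theorem ext_point {f g : 𝟙_ (Over S) ⟶ G}
    (h : ∀ (R : Type u) [CommRing R] (j : Spec (CommRingCat.of R) ⟶ S) [IsOpenImmersion j] (C : Type u) [CommRing C]
      [Algebra R C], toUnit (Sp j C) ≫ f = toUnit (Sp j C) ≫ g) : f = g :=
  hom_ext_open fun R _ j _ C _ _ t => by rw [toUnit_unique t (toUnit _)]; exact h R j C

end Groth.L14.Chev
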