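import Groth.Agent.L14.Chev.Words

/-!
Matsumoto's theorem for the simple reflections: a family satisfying the braid relations gives equal products on
reduced words with the same image, and products on arbitrary words agree up to the squares.
-/

set_option autoImplicit false
set_option linter.unusedSectionVars false

open Function Set RootPairing
open Groth.L24.RootD

namespace Groth.L14.Chev.Words

variable {ι M N : Type*} [AddCommGroup M] [AddCommGroup N] {P : RootPairing ι ℤ M N} [Finite ι]
  [P.IsCrystallographic] {Δ : Set ι}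

/-- The image of a word. -/
def val {Γ : Type*} [Monoid Γ] (f : ι → Γ) (l : List ι) : Γ := (l.map f).prod

theorem val_append {Γ : Type*} [Monoid Γ] (f : ι → Γ) (l l' : List ι) : val f (l ++ l') = val f l * val f l' := by
  simp [val]

theorem val_singleton {Γ : Type*} [Monoid Γ] (f : ι → Γ) (a : ι) : val f [a] = f a := by simp [val]

theorem last_notMem (hΔ : IsSimple P Δ) {p : List ι} {a : ι} (h : MinWord P Δ (p ++ [a])) :
    wd P (p ++ [a]) • a ∉ _root_.RootD.posOf P Δ := by
  intro hp
  rw [wd_append, wd_singleton, mul_smul, reflection_smul_idx, smul_neg_idx] at hp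
  exact hΔ.disjoint_pos (hΔ.neg_last subset_rfl h) hp

theorem minWord_of_length_le {T : Set ι} {l l' : List ι} (h : MinWord P T l) (hl : ∀ a ∈ l', a ∈ T)
    (he : wd P l' = wd P l) (hn : l'.length ≤ l.length) : MinWord P T l' :=
  ⟨hl, fun l'' h1 h2 => hn.trans (h.2 l'' h1 (h2.trans he))⟩

theorem length_alt : ∀ (c : Bool) (k : ℕ), (alt c k).length = k
  | _, 0 => rfl
  | c, k + 1 => by rw [alt, List.length_cons, length_alt]

theorem pick_mem {T : Set ι} {a b : ι} (ha : a ∈ T) (hb : b ∈ T) (t : List Bool) :
    ∀ x ∈ t.map (pick a b), x ∈ T := fun x hx => by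
  obtain ⟨e, -, rfl⟩ := List.mem_map.1 hx
  cases e <;> simpa [pick]

variable {Γ : Type*} [Group Γ] {f : ι → Γ}

theorem matsumoto (hΔ : IsSimple P Δ)
    (hlist : ∀ a ∈ Δ, ∀ b ∈ Δ, a ≠ b → (P.pairing b a, P.pairing a b) ∈ pairList)
    (hbraid : ∀ a ∈ Δ, ∀ b ∈ Δ, a ≠ b → ∀ c : Bool,
      val f ((alt c (braidLen (P.pairing b a) (P.pairing a b))).map (pick a b)) =
        val f ((alt (!c) (braidLen (P.pairing b a) (P.pairing a b))).map (pick a b))) :
    ∀ (n : ℕ) (l l' : List ι), l.length ≤ n → MinWord P Δ l → MinWord P Δ l' → wd P l = wd P l' →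
      val f l = val f l' := by
  intro n
  induction n with
  | zero =>
    intro l l' hn hl hl' he
    obtain rfl := List.eq_nil_of_length_eq_zero (Nat.le_zero.1 hn)
    obtain rfl := List.eq_nil_of_length_eq_zero (Nat.le_zero.1 (hl'.2 [] hl.1 he))
    rfl
  | succ n ih =>
    have same : ∀ (a : ι) (p p' : List ι), (p ++ [a]).length ≤ n + 1 → MinWord P Δ (p ++ [a]) →
        MinWord P Δ (p' ++ [a]) → wd P (p ++ [a]) = wd P (p' ++ [a]) → val f (p ++ [a]) = val f (p' ++ [a]) := by
      intro a p p' hn hp hp' he
      rw [val_append, val_append, ih p p' (by simp at hn; omega) (minWord_init hp) (minWord_init hp')]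
      rw [wd_append, wd_append] at he
      exact mul_right_cancel he
    intro l l' hn hl hl' he
    have hlen : l.length = l'.length := le_antisymm (hl.2 l' hl'.1 he.symm) (hl'.2 l hl.1 he)
    rcases List.eq_nil_or_concat l with rfl | ⟨p, a, rfl⟩
    · obtain rfl := List.eq_nil_of_length_eq_zero hlen.symm
      rfl
    rw [List.concat_eq_append] at *
    rcases List.eq_nil_or_concat l' with rfl | ⟨p', b, rfl⟩
    · simp at hlen
    rw [List.concat_eq_append] at *
    by_cases hab : a = b
    · subst hab
      exact same a p p' hn hl hl' he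
    have ha : a ∈ Δ := hl.1 a (by simp)
    have hb : b ∈ Δ := hl'.1 b (by simp)
    have hna := last_notMem hΔ hl
    have hnb := last_notMem hΔ hl'
    rw [← he] at hnb
    obtain ⟨m, hm⟩ : ∃ m, braidLen (P.pairing b a) (P.pairing a b) = m + 1 :=
      Nat.exists_eq_succ_of_ne_zero (by unfold braidLen; split_ifs <;> omega)
    have key : ∀ c : Bool, ∃ r : List ι, ∃ d : Bool,
        MinWord P Δ ((r ++ (alt c (m + 1)).map (pick a b))) ∧
        wd P (r ++ (alt c (m + 1)).map (pick a b)) = wd P (p ++ [a]) ∧
        d = (bif m.bodd then !c else c) ∧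
        r ++ (alt c (m + 1)).map (pick a b) = (r ++ (alt c m).map (pick a b)) ++ [pick a b d] := fun c => by
      obtain ⟨r, hr, hre, hrl⟩ := strip_alt hΔ ha hb (hlist a ha b hb hab) hl.1 hna hnb c
      rw [hm] at hre hrl
      refine ⟨r, _, minWord_of_length_le hl (fun x hx => ?_) hre ?_, hre, rfl, ?_⟩
      · rcases List.mem_append.1 hx with hx | hx
        exacts [hr x hx, pick_mem ha hb _ x hx]
      · rw [List.length_append, List.length_map]; exact hrl
      · rw [alt_succ', List.map_append, List.append_assoc]; rfl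
    -- the braid words ending with each of the two letters
    let c₀ : Bool := bif m.bodd then false else true
    obtain ⟨r, d, hr, hre, hd, hrs⟩ := key c₀
    obtain ⟨r', d', hr', hre', hd', hrs'⟩ := key (!c₀)
    obtain rfl : d = true := by rw [hd]; simp only [c₀]; cases m.bodd <;> rfl
    obtain rfl : d' = false := by rw [hd']; simp only [c₀]; cases m.bodd <;> rfl
    -- the same prefix serves both braid words
    have hsw : wd P (r ++ (alt (!c₀) (m + 1)).map (pick a b)) = wd P (p ++ [a]) := by
      rw [← hre, wd_append, wd_append, ← hm, wd_alt_eq (hlist a ha b hb hab) c₀]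
    have hsl : MinWord P Δ (r ++ (alt (!c₀) (m + 1)).map (pick a b)) := by
      refine minWord_of_length_le hr (fun x hx => ?_) (hsw.trans hre.symm) (by simp [length_alt])
      rcases List.mem_append.1 hx with hx | hx
      exacts [hr.1 x (List.mem_append_left _ hx), pick_mem ha hb _ x hx]
    have hends : r ++ (alt (!c₀) (m + 1)).map (pick a b) = (r ++ (alt (!c₀) m).map (pick a b)) ++ [b] := by
      rw [alt_succ', List.map_append, List.append_assoc]
      simp only [c₀]
      cases m.bodd <;> rfl
    have h1 : val f (p ++ [a]) = val f (r ++ (alt c₀ (m + 1)).map (pick a b)) := by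
      rw [hrs]
      exact same a p _ hn hl (hrs ▸ hr) (hrs ▸ hre.symm)
    have h2 : val f (r ++ (alt (!c₀) (m + 1)).map (pick a b)) = val f (p' ++ [b]) := by
      rw [hends]
      refine same b _ p' ?_ (hends ▸ hsl) hl' ((hends ▸ hsw).trans he)
      exact ((hends ▸ hsl).2 _ hl'.1 (((hends ▸ hsw).trans he)).symm).trans (hlen ▸ hn)
    rw [h1, ← h2, val_append, val_append, ← hm, hbraid a ha b hb hab c₀]

/-- Products on words with the same image agree up to the squares. -/
theorem val_equiv (hΔ : IsSimple P Δ)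
    (hlist : ∀ a ∈ Δ, ∀ b ∈ Δ, a ≠ b → (P.pairing b a, P.pairing a b) ∈ pairList)
    (hbraid : ∀ a ∈ Δ, ∀ b ∈ Δ, a ≠ b → ∀ c : Bool,
      val f ((alt c (braidLen (P.pairing b a) (P.pairing a b))).map (pick a b)) =
        val f ((alt (!c) (braidLen (P.pairing b a) (P.pairing a b))).map (pick a b)))
    (K : Subgroup Γ) (hsq : ∀ a ∈ Δ, f a * f a ∈ K) (hnorm : ∀ a ∈ Δ, ∀ k ∈ K, (f a)⁻¹ * k * f a ∈ K)
    {l l' : List ι} (hl : ∀ x ∈ l, x ∈ Δ) (hl' : ∀ x ∈ l', x ∈ Δ) (he : wd P l = wd P l') :
    (val f l')⁻¹ * val f l ∈ K := by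
  suffices red : ∀ l : List ι, (∀ x ∈ l, x ∈ Δ) →
      ∃ l₀, MinWord P Δ l₀ ∧ wd P l₀ = wd P l ∧ (val f l₀)⁻¹ * val f l ∈ K by
    obtain ⟨l₀, h₀, he₀, hk⟩ := red l hl
    obtain ⟨l₁, h₁, he₁, hk₁⟩ := red l' hl'
    have e := matsumoto hΔ hlist hbraid _ l₀ l₁ le_rfl h₀ h₁ (he₀.trans (he.trans he₁.symm))
    have := mul_mem (inv_mem hk₁) hk
    rw [e, mul_inv_rev, inv_inv] at this
    simpa [mul_assoc] using this
  intro l
  induction l using List.reverseRecOn with
  | nil => intro _; exact ⟨[], ⟨by simp, by simp⟩, rfl, by simp⟩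
  | append_singleton t a ih =>
    intro hl
    have ha : a ∈ Δ := hl a (by simp)
    obtain ⟨t₀, ht, hte, htk⟩ := ih fun x hx => hl x (List.mem_append_left _ hx)
    have htk' := hnorm a ha _ htk
    by_cases hneg : wd P t₀ • a ∈ _root_.RootD.posOf P Δ
    · have hmem : ∀ x ∈ t₀ ++ [a], x ∈ Δ := fun x hx => by
        rcases List.mem_append.1 hx with hx | hx
        exacts [ht.1 x hx, by rw [List.mem_singleton.1 hx]; exact ha]
      refine ⟨t₀ ++ [a], ⟨hmem, fun l'' hl'' he'' => ?_⟩, by rw [wd_append, wd_append, hte], ?_⟩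
      · have hn : wd P l'' • a ∉ _root_.RootD.posOf P Δ := by
          rw [he'', wd_append, wd_singleton, mul_smul, reflection_smul_idx, smul_neg_idx]
          exact hΔ.disjoint_pos hneg
        obtain ⟨r, hr, hre, hlt⟩ := exists_shorter hΔ hl'' ha hn
        rw [he'', wd_append, wd_singleton, mul_assoc, reflection_mul_self, mul_one] at hre
        have := ht.2 r hr hre
        simp only [List.length_append, List.length_singleton]
        omega
      · rw [val_append, val_append, val_singleton, mul_inv_rev]
        simpa [mul_assoc] using htk'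
    · obtain ⟨r, hr, hre, hlt⟩ := exists_shorter hΔ ht.1 ha hneg
      have hra : ∀ x ∈ r ++ [a], x ∈ Δ := fun x hx => by
        rcases List.mem_append.1 hx with hx | hx
        exacts [hr x hx, by rw [List.mem_singleton.1 hx]; exact ha]
      have hwra : wd P (r ++ [a]) = wd P t₀ := by
        rw [wd_append, hre, wd_singleton, mul_assoc, reflection_mul_self, mul_one]
      have hmin := minWord_of_length_le ht hra hwra (by simp; omega)
      refine ⟨r, minWord_init hmin, by rw [hre, hte, wd_append, wd_singleton], ?_⟩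
      have e : val f t₀ = val f r * f a := by
        rw [matsumoto hΔ hlist hbraid _ t₀ _ le_rfl ht hmin hwra.symm, val_append, val_singleton]
      have := mul_mem (hsq a ha) htk'
      rw [val_append, val_singleton]
      rw [e, mul_inv_rev] at this
      simpa [mul_assoc] using this

end Groth.L14.Chev.Words
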