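import Groth.Agent.L14.Chev.Middle
import Groth.Agent.L14.Chev.Matsumoto

/-!
Products of Weyl elements of a pinning carry simple root groups to simple root groups up to a sign.
-/

set_option autoImplicit false
universe u

open CategoryTheory CategoryTheory.Limits AlgebraicGeometry MonoidalCategory CartesianMonoidalCategory MonObj
open Groth.L14.RankOne Groth.L25 Groth.L14.Chart Groth.L14.Chev.Words
open Groth.L24.RootD (wd wd_append wd_nil wd_singleton wd_cons IsSimple root_smul reflection_smul_idx)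

set_option backward.isDefEq.respectTransparency.types false
set_option linter.style.haveILetI false

noncomputable section

namespace Groth.L14.Chev

variable {S : Scheme.{u}} {G : Over S} [GrpObj G]

/-- `n` carries `f` to `f'` up to a sign. -/
def Carries (n : 𝟙_ (Over S) ⟶ G) (f f' : Red.Ga S ⟶ G) : Prop :=
  ∃ ε : ℤ, (ε = 1 ∨ ε = -1) ∧ ∀ (R : Type u) [CommRing R] (j : Spec (CommRingCat.of R) ⟶ S) [IsOpenImmersion j]
    (C : Type u) [CommRing C] [Algebra R C] (x : C),
    (toUnit (Sp j C) ≫ n) * (gp j x ≫ f) * (toUnit (Sp j C) ≫ n)⁻¹ = gp j ((ε : C) * x) ≫ f'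

theorem Carries.refl (f : Red.Ga S ⟶ G) : Carries (1 : 𝟙_ (Over S) ⟶ G) f f :=
  ⟨1, Or.inl rfl, fun R _ j _ C _ _ x => by simp⟩

theorem Carries.mul {n n' : 𝟙_ (Over S) ⟶ G} {f f' f'' : Red.Ga S ⟶ G} (h : Carries n f' f'')
    (h' : Carries n' f f') : Carries (n * n') f f'' := by
  obtain ⟨ε, hε, h⟩ := h
  obtain ⟨δ, hδ, h'⟩ := h'
  refine ⟨ε * δ, by rcases hε with e | e <;> rcases hδ with d | d <;> simp [e, d], fun R _ j _ C _ _ x => ?_⟩
  rw [MonObj.comp_mul]
  calc _ = (toUnit (Sp j C) ≫ n) * ((toUnit (Sp j C) ≫ n') * (gp j x ≫ f) * (toUnit (Sp j C) ≫ n')⁻¹) *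
        (toUnit (Sp j C) ≫ n)⁻¹ := by group
    _ = _ := by rw [h' R j C x, h R j C, Int.cast_mul, _root_.mul_assoc]

theorem Carries.inv {n : 𝟙_ (Over S) ⟶ G} {f f' : Red.Ga S ⟶ G} (h : Carries n f f') : Carries n⁻¹ f' f := by
  obtain ⟨ε, hε, h⟩ := h
  refine ⟨ε, hε, fun R _ j _ C _ _ x => ?_⟩
  have hsq : (ε : C) * ((ε : C) * x) = x := by rcases hε with e | e <;> simp [e]
  have e := h R j C ((ε : C) * x)
  rw [hsq] at e
  rw [← e, GrpObj.comp_inv]
  group

theorem Carries.conjHom (n : 𝟙_ (Over S) ⟶ G) (f : Red.Ga S ⟶ G) : Carries n f (Groth.L14.Chev.conjHom n f) :=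
  ⟨1, Or.inl rfl, fun R _ j _ C _ _ x => by rw [Int.cast_one, _root_.one_mul, comp_conjHom]⟩

theorem Carries.apply {n : 𝟙_ (Over S) ⟶ G} {f f' : Red.Ga S ⟶ G} (h : Carries n f f') :
    ∃ ε : ℤ, (ε = 1 ∨ ε = -1) ∧ ∀ (X : Over S) (x y : X ⟶ Red.Ga S),
      Red.gaFn y = (ε : Γ(X.left, ⊤)) * Red.gaFn x →
        (toUnit X ≫ n) * (x ≫ f) * (toUnit X ≫ n)⁻¹ = y ≫ f' := by
  obtain ⟨ε, hε, h⟩ := h
  refine ⟨ε, hε, fun X x y hy => hom_ext_open fun R _ j _ C _ _ t => ?_⟩
  simp only [MonObj.comp_mul, GrpObj.comp_inv, ← Category.assoc]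
  rw [toUnit_unique (t ≫ toUnit X) (toUnit _), ← gp_gv (t ≫ x), h R j C, ← gp_gv (t ≫ y)]
  congr 2
  rw [gv_comp_eq t y hy, gv_comp_eq t x rfl, map_mul, map_mul, map_intCast, map_intCast]

/-- The point `-1` of the multiplicative group. -/
def negOne (S : Scheme.{u}) : 𝟙_ (Over S) ⟶ Red.Gm S := GmPts.ptOfUnit (-1)

theorem gmFn_negOne : Red.gmFn (negOne S) = -1 := by simp [negOne, GmPts.gmFn_ptOfUnit]

theorem conjHom_one (f : Red.Ga S ⟶ G) : conjHom 1 f = f := by
  rw [← Category.id_comp (conjHom 1 f), comp_conjHom, MonObj.comp_one, Category.id_comp]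
  simp

theorem conjHom_mul (m n : 𝟙_ (Over S) ⟶ G) (f : Red.Ga S ⟶ G) : conjHom (m * n) f = conjHom m (conjHom n f) := by
  rw [← Category.id_comp (conjHom (m * n) f), ← Category.id_comp (conjHom m (conjHom n f)), comp_conjHom,
    comp_conjHom, comp_conjHom, MonObj.comp_mul]
  group

variable (D : Red.Pinning G) (avc : D.idx → (Red.Gm S ⟶ D.T))

/-- The subgroup generated by the points `-1` of the simple coroots. -/
def signs : Subgroup (𝟙_ (Over S) ⟶ G) :=
  Subgroup.closure ((fun a => negOne S ≫ avc a ≫ D.i) '' (D.base.support : Set D.idx))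

variable {D avc} (havc : ∀ a, avc a = Red.DSmap S (D.P.coroot a).toAddMonoidHom ≫ D.split.inv.hom.hom)
  (e₁ : 𝟙_ (Over S) ⟶ Red.Ga S) (he₁ : Red.gaFn e₁ = 1)
  (hdual : ∀ a ∈ D.base.support, DualAt (D := D.toSplitRed) avc D.u (opp D.u) a)
  (w : D.idx → (𝟙_ (Over S) ⟶ G))
  (hw : ∀ a, w a = (e₁ ≫ D.u a) * (e₁ ≫ D.u (D.P.reflectionPerm a a))⁻¹ * (e₁ ≫ D.u a))

theorem toUnit_sign (a : D.idx) {R : Type u} [CommRing R] (j : Spec (CommRingCat.of R) ⟶ S) (C : Type u) [CommRing C]
    [Algebra R C] : toUnit (Sp j C) ≫ negOne S ≫ avc a ≫ D.i = hpt (C := C) j avc a (-1) :=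
  toUnit_hpt_negOne j _ gmFn_negOne

include havc in
/-- Sign points carry every root group to itself. -/
theorem carries_signs {k : 𝟙_ (Over S) ⟶ G} (hk : k ∈ signs D avc) {g : D.idx} {f : Red.Ga S ⟶ G}
    (hf : Red.IsRootHom D.i (D.split.hom.hom.hom ≫ Red.chi S (D.P.root g)) f) : Carries k f f := by
  induction hk using Subgroup.closure_induction with
  | mem x hx =>
    obtain ⟨a, -, rfl⟩ := hx
    rcases Int.even_or_odd (D.P.pairing g a) with h | h
    · exact ⟨1, Or.inl rfl, fun R _ j _ C _ _ x => by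
        rw [toUnit_sign, hpt_negOne_conj havc D.rootHom j hf, h.neg_one_zpow]; simp⟩
    · exact ⟨-1, Or.inr rfl, fun R _ j _ C _ _ x => by
        rw [toUnit_sign, hpt_negOne_conj havc D.rootHom j hf, h.neg_one_zpow]; simp⟩
  | one => exact Carries.refl f
  | mul x y _ _ hx hy => exact hx.mul hy
  | inv x _ hx => exact hx.inv

include havc he₁ hdual hw in
theorem sq_mem_signs {a : D.idx} (ha : a ∈ D.base.support) : w a * w a ∈ signs D avc := by
  rw [show w a * w a = negOne S ≫ avc a ≫ D.i from ext_point fun R _ j _ C _ _ => by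
    rw [MonObj.comp_mul, toUnit_sign, weyl_sq havc D.rootHom j e₁ he₁ (hdual a ha) (hw a)]]
  exact Subgroup.subset_closure ⟨a, ha, rfl⟩

include havc he₁ hdual hw in
theorem conj_sign {a : D.idx} (ha : a ∈ D.base.support) {k : 𝟙_ (Over S) ⟶ G} (hk : k ∈ signs D avc) :
    (w a)⁻¹ * k * w a ∈ signs D avc := by
  induction hk using Subgroup.closure_induction with
  | mem x hx =>
    obtain ⟨c, hc, rfl⟩ := hx
    have hgen : ∀ c ∈ D.base.support, negOne S ≫ avc c ≫ D.i ∈ signs D avc :=
      fun c hc => Subgroup.subset_closure ⟨c, hc, rfl⟩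
    have hpow : ∀ {C : Type u} [CommRing C], (∀ z : ℤ, Even z → ((-1 : Cˣ) ^ z) = 1) := fun {C} _ z hz =>
      hz.neg_one_zpow
    rcases Int.even_or_odd (-D.P.pairing a c) with h | h
    · rw [show (w a)⁻¹ * (negOne S ≫ avc c ≫ D.i) * w a = negOne S ≫ avc c ≫ D.i from ext_point fun R _ j _ C _ _ => by
        have e := weyl_conj_hpt (C := C) havc D.rootHom j e₁ he₁ (hdual a ha) (hw a) c (-1 : Cˣ)
        rw [hpow _ h] at e
        have h1 : hpt (C := C) j avc a 1 = 1 := by
          have h := hpt_mul (C := C) j avc havc a 1 1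
          rw [_root_.one_mul] at h
          exact left_eq_mul.1 h
        rw [h1, _root_.mul_one, mul_inv_eq_iff_eq_mul] at e
        rw [MonObj.comp_mul, MonObj.comp_mul, GrpObj.comp_inv, toUnit_sign, _root_.mul_assoc, ← e,
          inv_mul_cancel_left]]
      exact hgen c hc
    · rw [show (w a)⁻¹ * (negOne S ≫ avc c ≫ D.i) * w a = (negOne S ≫ avc c ≫ D.i) * (negOne S ≫ avc a ≫ D.i) from
        ext_point fun R _ j _ C _ _ => by
          have e := weyl_conj_hpt (C := C) havc D.rootHom j e₁ he₁ (hdual a ha) (hw a) c (-1 : Cˣ)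
          rw [h.neg_one_zpow, mul_inv_eq_iff_eq_mul] at e
          simp only [MonObj.comp_mul, GrpObj.comp_inv, toUnit_sign]
          have hA := hpt_negOne_sq (C := C) havc j a
          have hw2 := weyl_sq (C := C) havc D.rootHom j e₁ he₁ (hdual a ha) (hw a)
          have hc2 := hpt_comm (C := C) havc j a c (-1) (-1)
          rw [← hw2] at hA hc2 e ⊢
          generalize toUnit (Sp j C) ≫ w a = N at *
          generalize hpt (C := C) j avc c (-1) = H at *
          calc N⁻¹ * H * N = N⁻¹ * (H * (N * N) * N) * (N * N)⁻¹ := by group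
            _ = H * (N * N)⁻¹ := by rw [← e]; group
            _ = _ := by rw [inv_eq_of_mul_eq_one_right hA]]
      exact mul_mem (hgen c hc) (hgen a ha)
  | one => simp
  | mul x y _ _ hx hy =>
    rw [show (w a)⁻¹ * (x * y) * w a = (w a)⁻¹ * x * w a * ((w a)⁻¹ * y * w a) by group]
    exact mul_mem hx hy
  | inv x _ hx =>
    rw [show (w a)⁻¹ * x⁻¹ * w a = ((w a)⁻¹ * x * w a)⁻¹ by group]
    exact inv_mem hx

theorem comp_val {X Y : Over S} (t : X ⟶ Y) (f : D.idx → (Y ⟶ G)) (l : List D.idx) :
    t ≫ val f l = val (fun a => t ≫ f a) l := by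
  induction l with
  | nil => simp [val, MonObj.comp_one]
  | cons a l ih =>
    simp only [val, List.map_cons, List.prod_cons] at ih ⊢
    rw [MonObj.comp_mul, ih]

/-- The roots missing around a short simple root. -/
theorem short_notMem {a b : D.idx} (ha : a ∈ D.base.support) (hab : D.P.pairing a b = -1) :
    (∀ r s : ℤ, (r = 2 ∨ r = -2) → (s = 0 ∨ s = r) → r • D.P.root a + s • D.P.root b ∉ Set.range D.P.root) ∧
      (D.P.pairing b a = -3 → ∀ r s : ℤ, (s = 2 ∧ (r = 2 ∨ r = 4)) ∨ (s = -2 ∧ (r = -2 ∨ r = -4)) →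
        r • D.P.root a + s • D.P.root b ∉ Set.range D.P.root) := by
  have hn2 : ∀ k, D.P.root k ≠ (2 : ℤ) • D.P.root a := fun k hk => two_smul_notMem D ha ⟨k, hk⟩
  have h22 : ∀ k, D.P.root k ≠ (2 : ℤ) • D.P.root a + (2 : ℤ) • D.P.root b := fun k hk =>
    hn2 (D.P.reflectionPerm b k) (by
      rw [D.P.root_reflectionPerm, D.P.reflection_apply_root, RootCombo.pairing_of_eq D.P hk b, D.P.pairing_same,
        hab, hk]
      module)
  refine ⟨?_, fun hba => ?_⟩
  · rintro r s (rfl | rfl) (rfl | rfl) ⟨k, hk⟩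
    · exact hn2 k (by rw [hk]; module)
    · exact h22 k hk
    · exact hn2 (D.P.reflectionPerm k k) (by rw [root_self_refl, hk]; module)
    · exact h22 (D.P.reflectionPerm k k) (by rw [root_self_refl, hk]; module)
  · have h42 : ∀ k, D.P.root k ≠ (4 : ℤ) • D.P.root a + (2 : ℤ) • D.P.root b := fun k hk =>
      h22 (D.P.reflectionPerm a k) (by
        rw [D.P.root_reflectionPerm, D.P.reflection_apply_root, RootCombo.pairing_of_eq D.P hk a, D.P.pairing_same,
          hba, hk]
        module)
    rintro r s (⟨rfl, rfl | rfl⟩ | ⟨rfl, rfl | rfl⟩) ⟨k, hk⟩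
    · exact h22 k hk
    · exact h42 k hk
    · exact h22 (D.P.reflectionPerm k k) (by rw [root_self_refl, hk]; module)
    · exact h42 (D.P.reflectionPerm k k) (by rw [root_self_refl, hk]; module)

theorem pairs_base {a b : D.idx} (ha : a ∈ D.base.support) (hb : b ∈ D.base.support) (hne : a ≠ b) :
    (D.P.pairing b a, D.P.pairing a b) ∈ pairList := by
  haveI : Finite D.idx := Finite.of_fintype _
  haveI := RootCombo.isCrystallographic D.P
  exact pairs_simple (IsSimple.of_base D.base) ha hb hne (indep_simple D ha hb hne).pairs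

include havc he₁ hdual hw in
/-- The braid relations of the Weyl elements. -/
theorem weyl_braid {a b : D.idx} (ha : a ∈ D.base.support) (hb : b ∈ D.base.support) (hne : a ≠ b) (c : Bool) :
    val w ((alt c (braidLen (D.P.pairing b a) (D.P.pairing a b))).map (pick a b)) =
      val w ((alt (!c) (braidLen (D.P.pairing b a) (D.P.pairing a b))).map (pick a b)) := by
  suffices h : val w ((alt true (braidLen (D.P.pairing b a) (D.P.pairing a b))).map (pick a b)) =
      val w ((alt false (braidLen (D.P.pairing b a) (D.P.pairing a b))).map (pick a b)) by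
    cases c
    · exact h.symm
    · exact h
  have hi := indep_simple D ha hb hne
  refine ext_point fun R _ j _ C _ _ => ?_
  rw [comp_val, comp_val]
  have hpl := pairs_base ha hb hne
  simp only [pairList, List.mem_cons, List.not_mem_nil, or_false, Prod.mk.injEq] at hpl
  rcases hpl with ⟨hp, hq⟩ | ⟨hp, hq⟩ | ⟨hp, hq⟩ | ⟨hp, hq⟩ | ⟨hp, hq⟩ | ⟨hp, hq⟩ <;>
    simp [hp, hq, braidLen, alt, val, pick, ← _root_.mul_assoc]
  · refine braid_two D.rootHom j e₁ he₁ (hw a) (hw b) hi ?_ (D.base.sub_notMem_range_root ha hb)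
    have := add_zsmul_notMem hi.symm (D.base.sub_notMem_range_root ha hb) (m := 1) (by rw [hq]; norm_num)
    rwa [one_smul] at this
  · refine braid_three havc D.rootHom j e₁ he₁ (hw a) (hw b) (hdual a ha) (hdual b hb) hi hq hp ?_ ?_
    · rw [add_comm, ← natCast_zsmul]
      exact add_zsmul_notMem hi (D.base.sub_notMem_range_root hb ha) (by rw [hp]; norm_num)
    · rw [← natCast_zsmul]
      exact add_zsmul_notMem hi.symm (D.base.sub_notMem_range_root ha hb) (by rw [hq]; norm_num)
  · exact (braid_four havc D.rootHom j e₁ he₁ (hw b) (hw a) (hdual b hb) hi.symm hq (short_notMem hb hp).1).symm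
  · exact braid_four havc D.rootHom j e₁ he₁ (hw a) (hw b) (hdual a ha) hi hp (short_notMem ha hq).1
  · exact (braid_six havc D.rootHom j e₁ he₁ (hw b) (hw a) (hdual b hb) (hdual a ha) hi.symm hq hp
      ((short_notMem hb hp).2 hq)).symm
  · exact braid_six havc D.rootHom j e₁ he₁ (hw a) (hw b) (hdual a ha) (hdual b hb) hi hp hq
      ((short_notMem ha hq).2 hp)

include havc he₁ hdual hw in
/-- Products on words with the same image agree up to sign points. -/
theorem weyl_equiv {l l' : List D.idx} (hl : ∀ x ∈ l, x ∈ D.base.support) (hl' : ∀ x ∈ l', x ∈ D.base.support)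
    (he : wd D.P l = wd D.P l') : (val w l')⁻¹ * val w l ∈ signs D avc := by
  haveI : Finite D.idx := Finite.of_fintype _
  haveI := RootCombo.isCrystallographic D.P
  exact val_equiv (IsSimple.of_base D.base) (fun a ha b hb hne => pairs_base ha hb hne)
    (fun a ha b hb hne c => weyl_braid havc e₁ he₁ hdual w hw ha hb hne c) (signs D avc)
    (fun a ha => sq_mem_signs havc e₁ he₁ hdual w hw ha)
    (fun a ha k hk => conj_sign havc e₁ he₁ hdual w hw ha hk) hl hl' he

include havc he₁ hdual hw in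
theorem carries_of_wd {l l' : List D.idx} (hl : ∀ x ∈ l, x ∈ D.base.support) (hl' : ∀ x ∈ l', x ∈ D.base.support)
    (he : wd D.P l = wd D.P l') {g : D.idx} {f f' : Red.Ga S ⟶ G}
    (hf : Red.IsRootHom D.i (D.split.hom.hom.hom ≫ Red.chi S (D.P.root g)) f) (h : Carries (val w l') f f') :
    Carries (val w l) f f' := by
  have := h.mul (carries_signs havc (weyl_equiv havc e₁ he₁ hdual w hw hl hl' he) hf)
  rwa [mul_inv_cancel_left] at this

/-- A word in two letters has the image of a short alternating one. -/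
theorem exists_alt {a b : D.idx} (ha : a ∈ D.base.support) (hb : b ∈ D.base.support) (hne : a ≠ b) :
    ∀ t : List Bool, ∃ c k, k ≤ braidLen (D.P.pairing b a) (D.P.pairing a b) ∧
      wd D.P ((alt c k).map (pick a b)) = wd D.P (t.map (pick a b)) := by
  haveI : Finite D.idx := Finite.of_fintype _
  haveI := RootCombo.isCrystallographic D.P
  intro t
  induction t with
  | nil => exact ⟨true, 0, Nat.zero_le _, rfl⟩
  | cons e t ih =>
    obtain ⟨c, k, hk, he⟩ := ih
    rw [List.map_cons, wd_cons, ← he]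
    have h2 : 2 ≤ braidLen (D.P.pairing b a) (D.P.pairing a b) := by unfold braidLen; split_ifs <;> omega
    have tail : ∀ k', k' + 1 ≤ braidLen (D.P.pairing b a) (D.P.pairing a b) → ∀ e : Bool,
        ∃ c k, k ≤ braidLen (D.P.pairing b a) (D.P.pairing a b) ∧ wd D.P ((alt c k).map (pick a b)) =
          RootPairing.Equiv.reflection D.P (pick a b e) * wd D.P ((alt e (k' + 1)).map (pick a b)) := fun k' hk' e =>
      ⟨!e, k', by omega, by rw [alt, List.map_cons, wd_cons, ← _root_.mul_assoc,
        Groth.L24.RootD.reflection_mul_self, _root_.one_mul]⟩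
    rcases Nat.eq_zero_or_pos k with rfl | hk0
    · exact ⟨e, 1, by omega, rfl⟩
    obtain ⟨k', rfl⟩ : ∃ k', k = k' + 1 := ⟨k - 1, by omega⟩
    by_cases hec : e = c
    · subst hec
      exact tail k' hk e
    obtain rfl : c = !e := by cases e <;> cases c <;> simp_all
    rcases Nat.lt_or_eq_of_le hk with hlt | heq
    · exact ⟨e, k' + 1 + 1, hlt, by rw [alt, List.map_cons, wd_cons]⟩
    · have e2 := wd_alt_eq (pairs_base ha hb hne) (!e)
      rw [Bool.not_not, ← heq] at e2
      rw [e2]
      exact tail k' hk e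

include havc he₁ hdual hw in
/-- The step of rank two. -/
theorem carries_pair {a b : D.idx} (ha : a ∈ D.base.support) (hb : b ∈ D.base.support) (hne : a ≠ b)
    (t : List Bool) {β : D.idx} (hβ : β = a ∨ β = b) (h : wd D.P (t.map (pick a b)) • a = β) :
    Carries (val w (t.map (pick a b))) (D.u a) (D.u β) := by
  haveI : Finite D.idx := Finite.of_fintype _
  haveI := RootCombo.isCrystallographic D.P
  have hi := indep_simple D ha hb hne
  obtain ⟨c, k, hk, he⟩ := exists_alt ha hb hne t
  refine carries_of_wd havc e₁ he₁ hdual w hw (pick_mem ha hb _) (pick_mem ha hb _) he.symm (D.rootHom a) ?_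
  have hroot := root_coord_unit (rfl : D.P.pairing b a = _) (rfl : D.P.pairing a b = _) (alt c k) true
  rw [show pick a b true = a from rfl, show unitVec true = (1, 0) from rfl, he, h] at hroot
  have hval : ∀ x y : ℤ, D.P.root β = x • D.P.root a + y • D.P.root b →
      ((x, y) = ((1, 0) : ℤ × ℤ) ∧ β = a) ∨ ((x, y) = ((0, 1) : ℤ × ℤ) ∧ β = b) := by
    intro x y hxy
    rcases hβ with rfl | rfl
    · have := hi (x - 1) y (by rw [sub_smul, one_smul, sub_add_eq_add_sub, ← hxy, sub_self])
      exact Or.inl ⟨by rw [Prod.mk.injEq]; omega, rfl⟩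
    · have := hi x (y - 1) (by rw [sub_smul, one_smul, ← add_sub_assoc, ← hxy, sub_self])
      exact Or.inr ⟨by rw [Prod.mk.injEq]; omega, rfl⟩
  obtain hco := hval _ _ hroot
  have hpl := pairs_base ha hb hne
  have hchk := carry_check _ hpl c ⟨k, Nat.lt_succ_of_le hk⟩ (hco.imp And.left And.left)
  simp only [Prod.mk.injEq] at hchk
  rcases hchk with rfl | ⟨⟨hp, hq⟩, rfl, rfl⟩ | ⟨⟨hp, hq⟩, rfl, rfl⟩ | ⟨hprod, rfl, rfl⟩ | ⟨hprod, rfl, rfl⟩
  · have : β = a := hco.elim And.right fun h => absurd h.1 (by simp [alt, coord])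
    rw [this]
    simpa [alt, val] using Carries.refl (D.u a)
  · have : β = a := hco.elim And.right fun h => absurd h.1 (by simp [hp, hq, alt, coord, step])
    rw [this]
    refine ⟨1, Or.inl rfl, fun R _ j _ C _ _ x => ?_⟩
    have hadd := add_zsmul_notMem hi.symm (D.base.sub_notMem_range_root ha hb) (m := 1) (by rw [hq]; norm_num)
    rw [one_smul] at hadd
    have hf := weyl_fix (C := C) D.rootHom j e₁ he₁ (hw b) (D.rootHom a) hadd
      (D.base.sub_notMem_range_root ha hb) hi x
    simp [alt, val, pick, hf.eq]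
  · have : β = b := hco.elim (fun h => absurd h.1 (by simp [hp, hq, alt, coord, step])) And.right
    rw [this]
    refine ⟨1, Or.inl rfl, fun R _ j _ C _ _ x => ?_⟩
    have := a2_carry havc D.rootHom j e₁ he₁ (hw a) (hw b) (hdual a ha) (hdual b hb) hi hq hp
      (by rw [add_comm, ← natCast_zsmul]
          exact add_zsmul_notMem hi (D.base.sub_notMem_range_root hb ha) (by rw [hp]; norm_num))
      (by rw [← natCast_zsmul]
          exact add_zsmul_notMem hi.symm (D.base.sub_notMem_range_root ha hb) (by rw [hq]; norm_num)) x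
    simpa [alt, val, pick, MonObj.comp_mul, _root_.mul_assoc] using this
  · simp only [pairList, List.mem_cons, List.not_mem_nil, or_false, Prod.mk.injEq] at hpl
    rcases hpl with ⟨hp, hq⟩ | ⟨hp, hq⟩ | ⟨hp, hq⟩ | ⟨hp, hq⟩ | ⟨hp, hq⟩ | ⟨hp, hq⟩ <;>
      rw [hp, hq] at hprod <;> norm_num at hprod
    all_goals
      have : β = a := hco.elim And.right fun h => absurd h.1 (by simp [hp, hq, alt, coord, step])
      rw [this]
      refine ⟨1, Or.inl rfl, fun R _ j _ C _ _ x => ?_⟩
      simp only [alt, List.map_cons, List.map_nil, pick, cond_true, cond_false, val, List.prod_cons, List.prod_nil,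
        Bool.not_false, Bool.not_true, _root_.mul_one, MonObj.comp_mul, ← _root_.mul_assoc, Int.cast_one,
        _root_.one_mul]
    · have hc : D.P.root (D.P.reflectionPerm b a) = D.P.root a + (2 : ℤ) • D.P.root b := by
        rw [D.P.root_reflectionPerm, D.P.reflection_apply_root, hq]; module
      exact fix_four havc D.rootHom j e₁ he₁ (hw b) (hw a) (hdual b hb)
        (by rw [hc]; convert (short_notMem hb hp).1 2 2 (Or.inl rfl) (Or.inr rfl) using 2; module)
        (by rw [hc]; convert (short_notMem hb hp).1 2 0 (Or.inl rfl) (Or.inl rfl) using 2; module)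
        (hi.of_combo (r := 1) (s := 2) (t := 1) (w := 0) (by rw [hc, one_smul]) (by simp) (by norm_num))
        (by rw [hq]; decide) x
    · have hm := middle_conj D.rootHom havc e₁ he₁ (hw a) (hw b) (hdual a ha) (hdual b hb) hi hq hp
        (D.base.sub_notMem_range_root hb ha) (two_smul_notMem D ha) (j := j) x
      have hs := weyl_sq_conj havc D.rootHom j e₁ he₁ (hdual b hb) (hw b) (D.rootHom a) (-x)
      rw [hq, show ((-1 : Cˣ) ^ (-1 : ℤ) : Cˣ) = -1 by norm_num, Units.val_neg, Units.val_one, neg_mul_neg,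
        _root_.one_mul] at hs
      calc _ = (toUnit (Sp j C) ≫ w b) * ((toUnit (Sp j C) ≫ w a) * (gp j x ≫ conjHom (w b) (D.u a)) *
            (toUnit (Sp j C) ≫ w a)⁻¹) * (toUnit (Sp j C) ≫ w b)⁻¹ := by rw [comp_conjHom]; group
        _ = _ := by rw [hm, hs]
  · simp only [pairList, List.mem_cons, List.not_mem_nil, or_false, Prod.mk.injEq] at hpl
    rcases hpl with ⟨hp, hq⟩ | ⟨hp, hq⟩ | ⟨hp, hq⟩ | ⟨hp, hq⟩ | ⟨hp, hq⟩ | ⟨hp, hq⟩ <;>
      rw [hp, hq] at hprod <;> norm_num at hprod
    all_goals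
      have : β = a := hco.elim And.right fun h => absurd h.1 (by simp [hp, hq, alt, coord, step])
      rw [this]
      refine ⟨1, Or.inl rfl, fun R _ j _ C _ _ x => ?_⟩
      simp only [alt, List.map_cons, List.map_nil, pick, cond_true, cond_false, val, List.prod_cons, List.prod_nil,
        Bool.not_false, Bool.not_true, _root_.mul_one, MonObj.comp_mul, ← _root_.mul_assoc, Int.cast_one,
        _root_.one_mul]
    · have hc : D.P.root (D.P.reflectionPerm b a) = (1 : ℤ) • D.P.root a + (3 : ℤ) • D.P.root b := by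
        rw [D.P.root_reflectionPerm, D.P.reflection_apply_root, hq]; module
      have ec : D.P.pairing (D.P.reflectionPerm b a) a = -1 := by
        rw [RootCombo.pairing_of_eq D.P hc a, D.P.pairing_same, hp]; norm_num
      have hc' : D.P.root (D.P.reflectionPerm a (D.P.reflectionPerm b a)) =
          (2 : ℤ) • D.P.root a + (3 : ℤ) • D.P.root b := by
        rw [D.P.root_reflectionPerm, D.P.reflection_apply_root, ec, hc]; module
      exact fix_six havc D.rootHom j e₁ he₁ (hw b) (hw a) (hdual b hb) (hdual a ha)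
        (by rw [hc']; convert (short_notMem hb hp).2 hq 4 2 (Or.inl ⟨rfl, Or.inr rfl⟩) using 2; module)
        (by rw [hc']; convert (short_notMem hb hp).2 hq 2 2 (Or.inl ⟨rfl, Or.inl rfl⟩) using 2; module)
        (hi.of_combo (r := 2) (s := 3) (t := 0) (w := 1) hc' (by simp) (by norm_num))
        (by rw [ec, hq]; decide) x
    · have hc : D.P.root (D.P.reflectionPerm b a) = (1 : ℤ) • D.P.root a + (1 : ℤ) • D.P.root b := by
        rw [D.P.root_reflectionPerm, D.P.reflection_apply_root, hq]; module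
      have ec : D.P.pairing (D.P.reflectionPerm b a) a = -1 := by
        rw [RootCombo.pairing_of_eq D.P hc a, D.P.pairing_same, hp]; norm_num
      have hc' : D.P.root (D.P.reflectionPerm a (D.P.reflectionPerm b a)) =
          (2 : ℤ) • D.P.root a + (1 : ℤ) • D.P.root b := by
        rw [D.P.root_reflectionPerm, D.P.reflection_apply_root, ec, hc]; module
      exact fix_six havc D.rootHom j e₁ he₁ (hw b) (hw a) (hdual b hb) (hdual a ha)
        (by rw [hc']; convert (short_notMem ha hq).1 2 2 (Or.inl rfl) (Or.inr rfl) using 2; module)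
        (by rw [hc']; convert (short_notMem ha hq).1 2 0 (Or.inl rfl) (Or.inl rfl) using 2; module)
        (hi.of_combo (r := 2) (s := 1) (t := 0) (w := 1) hc' (by simp) (by norm_num))
        (by rw [ec, hq]; decide) x

theorem exists_bool_word {κ : Type*} {a b : κ} :
    ∀ l : List κ, (∀ x ∈ l, x ∈ ({a, b} : Set κ)) → ∃ t : List Bool, t.map (pick a b) = l
  | [], _ => ⟨[], rfl⟩
  | x :: l, h => by
    obtain ⟨t, ht⟩ := exists_bool_word l fun y hy => h y (List.mem_cons_of_mem _ hy)
    rcases h x List.mem_cons_self with e | e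
    · exact ⟨true :: t, by simp [pick, ht, e]⟩
    · exact ⟨false :: t, by
        rw [Set.mem_singleton_iff] at e
        simp [pick, ht, e]⟩

include havc he₁ hdual hw in
/-- One link of a chain of simple roots. -/
theorem carries_link {α γ β : D.idx} (hα : α ∈ D.base.support) (hγ : γ ∈ D.base.support) {g : D.P.Aut}
    (hg : g ∈ Subgroup.closure {RootPairing.Equiv.reflection D.P α, RootPairing.Equiv.reflection D.P γ})
    (hβ : α ≠ β → γ = β) (h : g • α = β) :
    ∃ L : List D.idx, (∀ x ∈ L, x ∈ D.base.support) ∧ wd D.P L = g ∧ Carries (val w L) (D.u α) (D.u β) := by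
  haveI : Finite D.idx := Finite.of_fintype _
  haveI := RootCombo.isCrystallographic D.P
  have hor : β = α ∨ β = γ := by
    by_cases e : α = β
    · exact Or.inl e.symm
    · exact Or.inr (hβ e).symm
  by_cases hne : α = γ
  · subst hne
    obtain rfl : β = α := hor.elim id id
    have hg' : g = 1 ∨ g = RootPairing.Equiv.reflection D.P β := by
      rw [Set.pair_eq_singleton] at hg
      clear h
      induction hg using Subgroup.closure_induction with
      | mem x hx => exact Or.inr hx
      | one => exact Or.inl rfl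
      | mul x y _ _ hx hy =>
        rcases hx with rfl | rfl <;> rcases hy with rfl | rfl <;>
          first | exact Or.inl (Groth.L24.RootD.reflection_mul_self _) | simp
      | inv x _ hx => rcases hx with rfl | rfl <;> simp [RootPairing.Equiv.reflection_inv]
    rcases hg' with rfl | rfl
    · exact ⟨[], by simp, rfl, by simpa [val] using Carries.refl (D.u β)⟩
    · rw [reflection_smul_idx] at h
      have e := congrArg D.P.root h
      rw [root_self_refl, neg_eq_iff_add_eq_zero] at e
      exact absurd e fun e => D.P.ne_zero β (by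
        haveI : IsAddTorsionFree D.M := .of_isTorsionFree ℤ D.M
        exact (smul_eq_zero.1 ((two_smul ℤ _).trans e)).resolve_left two_ne_zero)
  obtain ⟨L, hL, rfl⟩ := Groth.L24.RootD.exists_word (P := D.P) (T := {α, γ}) (g := g) (by rwa [Set.image_pair])
  obtain ⟨t, rfl⟩ := exists_bool_word L hL
  exact ⟨_, pick_mem hα hγ t, rfl, carries_pair havc e₁ he₁ hdual w hw hα hγ hne t hor h⟩

include havc he₁ hdual hw in
/-- Products of Weyl elements carry simple root groups to simple root groups up to a sign. -/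
theorem carries_word {l : List D.idx} (hl : ∀ x ∈ l, x ∈ D.base.support) {a a₀ : D.idx} (ha : a ∈ D.base.support)
    (ha₀ : a₀ ∈ D.base.support) (h : wd D.P l • a = a₀) : Carries (val w l) (D.u a) (D.u a₀) := by
  haveI : Finite D.idx := Finite.of_fintype _
  haveI := RootCombo.isCrystallographic D.P
  obtain ⟨m, as, ws, has, h0, hlast, -, hwl, hstep, hlink⟩ :=
    Groth.L24.RootD.exists_chain (IsSimple.of_base D.base) ha₀ l.length l le_rfl hl a ha h
  suffices aux : ∀ i (hi : i ≤ m), ∃ L : List D.idx, (∀ x ∈ L, x ∈ D.base.support) ∧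
      wd D.P L = (List.ofFn fun k : Fin i => ws (Fin.castLE hi (Fin.rev k))).prod ∧
      Carries (val w L) (D.u a) (D.u (as ⟨i, Nat.lt_succ_of_le hi⟩)) by
    obtain ⟨L, hL, heL, hc⟩ := aux m le_rfl
    rw [← hlast]
    exact carries_of_wd havc e₁ he₁ hdual w hw hl hL (hwl.trans heL.symm) (D.rootHom a) hc
  intro i
  induction i with
  | zero =>
    intro hi
    refine ⟨[], by simp, by simp [wd_nil], ?_⟩
    rw [show as ⟨0, Nat.lt_succ_of_le hi⟩ = a from h0]
    simpa [val] using Carries.refl (D.u a)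
  | succ i ih =>
    intro hi
    obtain ⟨L, hL, heL, hc⟩ := ih (Nat.le_of_succ_le hi)
    let k : Fin m := ⟨i, hi⟩
    obtain ⟨γ, hγ, hmem, hγ'⟩ := hlink k
    obtain ⟨L', hL', heL', hc'⟩ := carries_link havc e₁ he₁ hdual w hw (has _) hγ hmem hγ' (hstep k)
    refine ⟨L' ++ L, fun x hx => (List.mem_append.1 hx).elim (hL' x) (hL x), ?_, ?_⟩
    · rw [List.ofFn_succ, List.prod_cons, wd_append, heL', heL]
      congr 2
      · exact congrArg List.ofFn (funext fun q => congrArg ws (Fin.ext (by simp)))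
    · rw [val_append]
      exact hc'.mul hc

end Groth.L14.Chev
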