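import Groth.Agent.L14.Chev.Simple

/-!
The Weyl elements of two dual pairs: squares, action on root groups and on coroots, braid and Coxeter relations.
-/

set_option autoImplicit false
universe u

open CategoryTheory CategoryTheory.Limits AlgebraicGeometry MonoidalCategory CartesianMonoidalCategory MonObj
open Groth.L14.RankOne Groth.L25 Groth.L14.Chart

set_option backward.isDefEq.respectTransparency.types false
set_option linter.style.haveILetI false

noncomputable section

namespace Groth.L14.Chev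

section Words

variable {Γ : Type*} [Group Γ] {a b A B : Γ}

theorem pow_swap {z : Γ} {n : ℕ} (h : (a * b) ^ n = z) : (b * a) ^ n = b * z * b⁻¹ := by
  rw [← h, ← conj_pow]
  congr 1
  group

theorem coxeter_two (hcomm : a * b = b * a) (ha : a * a = A) (hb : b * b = B) :
    (a * b) ^ 2 = A * B ∧ (b * a) ^ 2 = A * B := by
  have h : (a * b) ^ 2 = A * B := by
    rw [pow_two, _root_.mul_assoc, ← _root_.mul_assoc b a b, ← hcomm, _root_.mul_assoc, hb, ← _root_.mul_assoc, ha]
  exact ⟨h, by rw [← hcomm, h]⟩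

theorem coxeter_three (hbraid : a * b * a = b * a * b) (ha : a * a = A) (hb : b * b = B) (hA : A * A = 1)
    (hB : B * B = 1) (hbA : b * A * b⁻¹ = A * B) : (a * b) ^ 3 = 1 ∧ (b * a) ^ 3 = 1 := by
  have h : (a * b) ^ 3 = 1 := by
    calc (a * b) ^ 3 = (a * b * a) * (b * a * b) := by simp only [pow_succ, pow_zero, _root_.one_mul]; group
      _ = (a * b * a) * (a * b * a) := by rw [← hbraid]
      _ = a * (b * (a * a) * b⁻¹) * (b * b) * a := by group
      _ = a * A * (B * B) * a := by rw [ha, hb, hbA]; group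
      _ = A * A := by rw [hB, ← ha]; group
      _ = 1 := hA
  exact ⟨h, by rw [pow_swap h]; group⟩

theorem coxeter_four (hbraid : a * b * a * b = b * a * b * a) (ha : a * a = A) (hb : b * b = B) (hA : A * A = 1)
    (hB : B * B = 1) (hbA : b * A * b⁻¹ = A) (haB : a * B * a⁻¹ = A * B) (hAB : A * B = B * A) (hbB : b * B = B * b) :
    (a * b) ^ 4 = A ∧ (b * a) ^ 4 = A := by
  have h : (a * b) ^ 4 = A := by
    calc (a * b) ^ 4 = (a * b * a * b) * (a * b * a * b) := by simp only [pow_succ, pow_zero, _root_.one_mul]; group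
      _ = (a * b * a * b) * (b * a * b * a) := by rw [← hbraid]
      _ = a * b * (a * (b * b) * a⁻¹) * (a * a) * b * a := by group
      _ = a * b * (A * B * A) * b * a := by rw [ha, hb, haB]; group
      _ = a * (b * B * b) * a := by
        rw [hAB, _root_.mul_assoc B A A, hA, _root_.mul_one]; group
      _ = a * (B * (b * b)) * a := by rw [hbB]; group
      _ = A := by rw [hb, hB, ← ha]; group
  exact ⟨h, by rw [pow_swap h, hbA]⟩

theorem coxeter_six (hbraid : a * b * a * b * a * b = b * a * b * a * b * a) (ha : a * a = A) (hb : b * b = B)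
    (hA : A * A = 1) (hB : B * B = 1) (hbA : b * A * b⁻¹ = A * B) (haB : a * B * a⁻¹ = A * B) (hAB : A * B = B * A)
    (hbB : b * B = B * b) : (a * b) ^ 6 = 1 ∧ (b * a) ^ 6 = 1 := by
  have h1 : a * B * a = B := by
    calc a * B * a = a * B * a⁻¹ * (a * a) := by group
      _ = B := by rw [haB, ha, hAB, _root_.mul_assoc, hA, _root_.mul_one]
  have h2 : b * B * b = 1 := by rw [hbB, _root_.mul_assoc, hb, hB]
  have h3 : b * A * b = A := by
    calc b * A * b = b * A * b⁻¹ * (b * b) := by group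
      _ = A := by rw [hbA, hb, _root_.mul_assoc, hB, _root_.mul_one]
  have h : (a * b) ^ 6 = 1 := by
    calc (a * b) ^ 6 = (a * b * a * b * a * b) * (a * b * a * b * a * b) := by
          simp only [pow_succ, pow_zero, _root_.one_mul]; group
      _ = (a * b * a * b * a * b) * (b * a * b * a * b * a) := by rw [← hbraid]
      _ = a * b * a * b * (a * (b * b) * a) * b * a * b * a := by group
      _ = a * b * a * (b * B * b) * a * b * a := by rw [hb, h1]; group
      _ = a * (b * (a * a) * b) * a := by rw [h2]; group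
      _ = a * A * a := by rw [ha, h3]
      _ = (a * a) * (a * a) := by rw [← ha]; group
      _ = 1 := by rw [ha, hA]
  exact ⟨h, by rw [pow_swap h]; group⟩

/-- A conjugation carrying the three factors of a Weyl element to those of another. -/
theorem conj_three {P x y x' y' : Γ} (hx : P * x * P⁻¹ = x') (hy : P * y * P⁻¹ = y') :
    P * (x * y * x) * P⁻¹ = x' * y' * x' := by
  rw [← hx, ← hy]; group

end Words

variable {S : Scheme.{u}} {G : Over S} [GrpObj G] {D : Red.SplitRed G}

/-- A system with a base has no doubled simple root. -/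
theorem two_smul_notMem (D : Red.Pinning G) {a : D.idx} (ha : a ∈ D.base.support) :
    (2 : ℤ) • D.P.root a ∉ Set.range D.P.root := by
  classical
  haveI : Finite D.idx := Finite.of_fintype _
  rintro ⟨g, hg⟩
  haveI : IsAddTorsionFree (Module.Dual ℤ D.M) := .of_isTorsionFree ℤ _
  have h2 := D.P.smul_coroot_eq_of_root_eq_smul a g 2 hg
  obtain ⟨l, hl, hlg⟩ := (Finsupp.mem_span_image_iff_linearCombination ℤ).1 (D.base.coroot_mem_span_int g)
  have h : Finsupp.linearCombination ℤ D.P.coroot ((2 : ℤ) • l - Finsupp.single a 1) = 0 := by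
    simp [hlg, h2]
  have hmem : ((2 : ℤ) • l - Finsupp.single a 1) ∈ Finsupp.supported ℤ ℤ (D.base.support : Set D.idx) :=
    Submodule.sub_mem _ (Submodule.smul_mem _ _ hl) (Finsupp.single_mem_supported ℤ _ ha)
  have := congrArg (· a) (linearIndepOn_iff.1 D.base.linearIndepOn_coroot _ hmem h)
  simp at this
  omega

theorem avc_opp {avc : D.idx → (Red.Gm S ⟶ D.T)}
    (havc : ∀ a, avc a = Red.DSmap S (D.P.coroot a).toAddMonoidHom ≫ D.split.inv.hom.hom) (a : D.idx) :
    avc (D.P.reflectionPerm a a) = (avc a)⁻¹ := by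
  refine hom_ext_open fun R _ j _ C _ _ t => ?_
  rw [GrpObj.comp_inv, ← up_uv t, up_avc j avc havc, up_avc j avc havc]
  refine eq_inv_of_mul_eq_one_left ?_
  rw [← tpt_mul, ← tpt_one (D := D) j]
  congr 1
  refine MonoidHom.ext fun m => ?_
  have hc : D.P.coroot (D.P.reflectionPerm a a) = -D.P.coroot a := by
    rw [D.P.coroot_reflectionPerm, D.P.coreflection_apply_self]
  simp [cochi, hc]

/-- A dual pair stays dual when the roots are exchanged. -/
theorem DualAt.symm {avc : D.idx → (Red.Gm S ⟶ D.T)}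
    (havc : ∀ a, avc a = Red.DSmap S (D.P.coroot a).toAddMonoidHom ≫ D.split.inv.hom.hom)
    {v : D.idx → (Red.Ga S ⟶ G)}
    (hv : ∀ c, Red.IsRootHom D.i (D.split.hom.hom.hom ≫ Red.chi S (D.P.root c)) (v c)) {a : D.idx}
    (hd : DualAt avc v (opp v) a) : DualAt avc v (opp v) (D.P.reflectionPerm a a) := by
  haveI : ∀ c, IsMonHom (v c) := fun c => (hv c).1
  have e : D.P.reflectionPerm (D.P.reflectionPerm a a) (D.P.reflectionPerm a a) = a :=
    D.P.root.injective (by rw [root_self_refl, root_self_refl, neg_neg])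
  refine ⟨(hv _).1, fun X x y h => ?_⟩
  obtain ⟨p, q, z, hz, hp, hq, he⟩ := hd.2 X y⁻¹ x⁻¹ (by
    rw [GaPts.gaFn_inv, GaPts.gaFn_inv, neg_mul_neg, mul_comm]; exact h)
  refine ⟨q⁻¹, p⁻¹, z, by rw [hz, GaPts.gaFn_inv, GaPts.gaFn_inv]; ring, ?_, ?_, ?_⟩
  · rw [GaPts.gaFn_inv, neg_mul, hq, GaPts.gaFn_inv, neg_neg]
  · rw [GaPts.gaFn_inv, neg_mul, hp, GaPts.gaFn_inv, neg_neg]
  show (x ≫ v _) * (y ≫ v (D.P.reflectionPerm (D.P.reflectionPerm a a) (D.P.reflectionPerm a a))) = _
  have hneg : z ≫ avc (D.P.reflectionPerm a a) ≫ D.i = (z ≫ avc a ≫ D.i)⁻¹ := by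
    haveI : IsMonHom D.i := isMonHom_i
    rw [avc_opp havc, GrpObj.inv_comp, GrpObj.comp_inv]
  rw [e, hneg]
  have := congrArg (·⁻¹) he
  simp only [opp, e, GrpObj.inv_comp, _root_.mul_inv_rev, _root_.inv_inv] at this ⊢
  rw [this]
  group

variable {avc : D.idx → (Red.Gm S ⟶ D.T)}
  (havc : ∀ a, avc a = Red.DSmap S (D.P.coroot a).toAddMonoidHom ≫ D.split.inv.hom.hom)
  {v : D.idx → (Red.Ga S ⟶ G)}
  (hv : ∀ c, Red.IsRootHom D.i (D.split.hom.hom.hom ≫ Red.chi S (D.P.root c)) (v c))
  {R : Type u} [CommRing R] (j : Spec (CommRingCat.of R) ⟶ S) [IsOpenImmersion j]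
  (e₁ : 𝟙_ (Over S) ⟶ Red.Ga S) (he₁ : Red.gaFn e₁ = 1)
  {C : Type u} [CommRing C] [Algebra R C]

include havc in
omit [IsOpenImmersion j] in
theorem hpt_comm (c d : D.idx) (w w' : Cˣ) : hpt j avc c w * hpt j avc d w' = hpt j avc d w' * hpt j avc c w := by
  haveI : IsMonHom D.i := isMonHom_i
  simp only [hpt, ← Category.assoc, up_avc j avc havc, ← MonObj.mul_comp, ← tpt_mul, mul_comm]

include havc in
omit [IsOpenImmersion j] in
theorem hpt_negOne_sq (c : D.idx) : hpt j avc c (-1 : Cˣ) * hpt j avc c (-1) = 1 := by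
  haveI : IsMonHom D.i := isMonHom_i
  have h1 : hpt (C := C) j avc c 1 = 1 := by
    have h := hpt_mul (C := C) j avc havc c 1 1
    rw [_root_.one_mul] at h
    exact left_eq_mul.1 h
  rw [← hpt_mul j avc havc, neg_mul_neg, _root_.one_mul, h1]

omit [IsOpenImmersion j] in
theorem cochi_zpow (c : D.idx) (w : Cˣ) (k : ℤ) (m : D.M) :
    cochi c (w ^ k) (Multiplicative.ofAdd m) = ((w ^ (k * D.P.coroot c m) : Cˣ) : C) := by
  simp [cochi, zpow_mul]

variable {q : D.idx} (hq : DualAt avc v (opp v) q) {n : 𝟙_ (Over S) ⟶ G}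
  (hn : n = (e₁ ≫ v q) * (e₁ ≫ v (D.P.reflectionPerm q q))⁻¹ * (e₁ ≫ v q))

include havc hv he₁ hq hn in
/-- The Weyl element on a coroot. -/
theorem weyl_conj_hpt (c : D.idx) (w : Cˣ) :
    (toUnit (Sp j C) ≫ n) * hpt j avc c w * (toUnit (Sp j C) ≫ n)⁻¹ =
      hpt j avc c w * hpt j avc q (w ^ (-D.P.pairing q c)) := by
  haveI : IsMonHom D.i := isMonHom_i
  simp only [hpt, ← Category.assoc, up_avc j avc havc, ← MonObj.mul_comp, ← tpt_mul]
  rw [actsBy_weyl avc havc hv e₁ he₁ q hq hn R j C]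
  congr 2
  refine MonoidHom.ext fun m => ?_
  obtain ⟨m, rfl⟩ := Multiplicative.ofAdd.surjective m
  show cochi c w (Multiplicative.ofAdd (D.P.reflection q m)) = _
  rw [MonoidHom.mul_apply, ← zpow_one w, cochi_zpow, cochi_zpow, zpow_one, cochi_zpow, ← Units.val_mul, ← zpow_add]
  have hc : D.P.coroot' q m = D.P.coroot q m := by
    show D.P.toLinearMap m (D.P.coroot q) = _
    rw [D.pairing_eq]; rfl
  have hp : D.P.coroot c (D.P.root q) = D.P.pairing q c := by
    rw [← D.P.root_coroot_eq_pairing, D.pairing_eq]; rfl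
  rw [D.P.reflection_apply, hc, map_sub, map_smul, hp]
  congr 2
  rw [smul_eq_mul]; ring

include havc hv he₁ hq hn in
omit [IsOpenImmersion j] in
/-- The square of a Weyl element. -/
theorem weyl_sq : (toUnit (Sp j C) ≫ n) * (toUnit (Sp j C) ≫ n) = hpt j avc q (-1) := by
  let P := pairRel avc havc hv j q hq C
  have h1 : toUnit (Sp j C) ≫ n = P.w 1 := by
    rw [toUnit_weyl hv j e₁ he₁ q hn, weyl]
    simp [Groth.L25.RankOne.Rel.w, P, pairRel]
  rw [h1, P.w_mul_w 1 1 (-1) (by simp)]
  rfl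

include havc hv he₁ hq hn in
omit [IsOpenImmersion j] in
theorem weyl_comm_sq :
    (toUnit (Sp j C) ≫ n) * hpt j avc q (-1) = hpt j avc q (-1) * (toUnit (Sp j C) ≫ n) := by
  rw [← weyl_sq havc hv j e₁ he₁ hq hn, _root_.mul_assoc]

include havc hv in
omit [IsOpenImmersion j] in
/-- The coroot of `-1` on the root group of a root. -/
theorem hpt_negOne_conj {g : D.idx} {f : Red.Ga S ⟶ G}
    (hf : Red.IsRootHom D.i (D.split.hom.hom.hom ≫ Red.chi S (D.P.root g)) f) (c : D.idx) (x : C) :
    hpt j avc c (-1) * (gp j x ≫ f) * (hpt j avc c (-1))⁻¹ =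
      gp j ((((-1 : Cˣ) ^ D.P.pairing g c : Cˣ) : C) * x) ≫ f := by
  classical
  have hv' : ∀ d, Red.IsRootHom D.i (D.split.hom.hom.hom ≫ Red.chi S (D.P.root d)) (Function.update v g f d) := fun d => by
    by_cases h : d = g
    · subst h; rwa [Function.update_self]
    · rw [Function.update_of_ne h]; exact hv d
  simpa using hpt_conj j avc havc hv' c g (-1) x

include hv in
/-- Two root homomorphisms whose roots do not sum to a root commute. -/
theorem commute_homs {g h : D.idx} {f f' : Red.Ga S ⟶ G}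
    (hf : Red.IsRootHom D.i (D.split.hom.hom.hom ≫ Red.chi S (D.P.root g)) f)
    (hf' : Red.IsRootHom D.i (D.split.hom.hom.hom ≫ Red.chi S (D.P.root h)) f') (hgh : g ≠ h)
    (h0 : D.P.root g + D.P.root h ≠ 0) (hsum : D.P.root g + D.P.root h ∉ Set.range D.P.root) (x y : C) :
    Commute (gp j x ≫ f) (gp j y ≫ f') := by
  classical
  have hv' : ∀ d, Red.IsRootHom D.i (D.split.hom.hom.hom ≫ Red.chi S (D.P.root d))
      (Function.update (Function.update v g f) h f' d) := fun d => by
    by_cases h1 : d = h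
    · subst h1; rwa [Function.update_self]
    rw [Function.update_of_ne h1]
    by_cases h2 : d = g
    · subst h2; rwa [Function.update_self]
    · rw [Function.update_of_ne h2]; exact hv d
  have := commute_roots (j := j) hv' h0 hsum x y
  simp only [Function.update_of_ne hgh, Function.update_self] at this
  exact this

include hv he₁ hn in
/-- A Weyl element fixes the root groups commuting with its two. -/
theorem weyl_fix {g : D.idx} {f : Red.Ga S ⟶ G}
    (hf : Red.IsRootHom D.i (D.split.hom.hom.hom ≫ Red.chi S (D.P.root g)) f)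
    (hadd : D.P.root g + D.P.root q ∉ Set.range D.P.root) (hsub : D.P.root g - D.P.root q ∉ Set.range D.P.root)
    (hi : Indep D g q) (x : C) : Commute (toUnit (Sp j C) ≫ n) (gp j x ≫ f) := by
  have hne : ∀ r : ℤ, D.P.root g + r • D.P.root q ≠ 0 := fun r h => by
    have := (hi 1 r (by rw [one_smul]; exact h)).1
    omega
  have h1 : g ≠ q := fun e => hne (-1) (by rw [e]; simp)
  have h2 : g ≠ D.P.reflectionPerm q q := fun e => hne 1 (by rw [e, root_self_refl]; simp)
  have c1 : ∀ y : C, Commute (gp j y ≫ v q) (gp j x ≫ f) := fun y =>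
    (commute_homs hv j hf (hv q) h1 (by simpa using hne 1) hadd x y).symm
  have c2 : ∀ y : C, Commute (gp j y ≫ v (D.P.reflectionPerm q q)) (gp j x ≫ f) := fun y =>
    (commute_homs hv j hf (hv _) h2 (by rw [root_self_refl, ← sub_eq_add_neg]; simpa [sub_eq_add_neg] using hne (-1))
      (by rwa [root_self_refl, ← sub_eq_add_neg]) x y).symm
  rw [toUnit_weyl hv j e₁ he₁ q hn, weyl]
  exact ((c1 1).mul_left (c2 _)).mul_left (c1 1)

include havc hv he₁ hq hn in
omit [IsOpenImmersion j] in
/-- Applying a Weyl element twice to a root group. -/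
theorem weyl_sq_conj {g : D.idx} {f : Red.Ga S ⟶ G}
    (hf : Red.IsRootHom D.i (D.split.hom.hom.hom ≫ Red.chi S (D.P.root g)) f) (x : C) :
    (toUnit (Sp j C) ≫ n) * (gp j x ≫ conjHom n f) * (toUnit (Sp j C) ≫ n)⁻¹ =
      gp j ((((-1 : Cˣ) ^ D.P.pairing g q : Cˣ) : C) * x) ≫ f := by
  rw [comp_conjHom, ← hpt_negOne_conj havc hv j hf q x, ← weyl_sq havc hv j e₁ he₁ hq hn]
  group

end Groth.L14.Chev
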