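import Groth.Agent.L14.Chart.Global

/-!
First order calculus of root points: root points with square-zero parameters commute, products of them are unique in
their coordinates, and conjugation by a root point is linear on them.
-/

set_option autoImplicit false
universe u

open CategoryTheory CategoryTheory.Limits AlgebraicGeometry MonoidalCategory CartesianMonoidalCategory MonObj
open Groth.L14.RankOne Groth.L25 Groth.L14.Chart

set_option backward.isDefEq.respectTransparency.types false
set_option linter.style.haveILetI false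

noncomputable section

namespace Groth.L14.Chev

variable {S : Scheme.{u}} {G : Over S} [GrpObj G] {D : Red.SplitRed G} {R : Type u} [CommRing R]
  (j : Spec (CommRingCat.of R) ⟶ S) [IsOpenImmersion j] {v : D.idx → (Red.Ga S ⟶ G)}
  (hv : ∀ c, Red.IsRootHom D.i (D.split.hom.hom.hom ≫ Red.chi S (D.P.root c)) (v c))

variable (D) in
/-- All roots, listed. -/
def allRoots : List D.idx := (Finset.univ : Finset D.idx).toList

omit [GrpObj G] in
theorem nodup_allRoots [GrpObj G] (D : Red.SplitRed G) : (allRoots D).Nodup := Finset.nodup_toList _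

omit [GrpObj G] in
theorem mem_allRoots [GrpObj G] (D : Red.SplitRed G) (c : D.idx) : c ∈ allRoots D :=
  Finset.mem_toList.2 (Finset.mem_univ c)

variable {C : Type u} [CommRing C] [Algebra R C]

variable (v) in
/-- The product of root points over all roots. -/
def rp (x : D.idx → C) : Sp j C ⟶ G := rootProd j v (allRoots D) x

omit [IsOpenImmersion j] in
theorem rp_def (x : D.idx → C) : rp j v x = rootProd j v (allRoots D) x := rfl

omit [IsOpenImmersion j] in
theorem mor_rp {C' : Type u} [CommRing C'] [Algebra R C'] (h : C →ₐ[R] C') (x : D.idx → C) :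
    mor j h ≫ rp j v x = rp j v (fun c => h (x c)) :=
  mor_rootProd j h _ x

omit [IsOpenImmersion j] in
include hv in
theorem rp_single [DecidableEq D.idx] (c : D.idx) (x : C) : rp j v (Pi.single c x) = gp j x ≫ v c := by
  haveI : ∀ c, IsMonHom (v c) := fun c => (hv c).1
  rw [rp, rootProd_single j (x := Pi.single c x) (nodup_allRoots D) (mem_allRoots D c) fun c' h => Pi.single_eq_of_ne h _,
    Pi.single_eq_same]

omit [IsOpenImmersion j] in
include hv in
theorem rp_of_support {c : D.idx} {x : D.idx → C} (h : ∀ c', c' ≠ c → x c' = 0) : rp j v x = gp j (x c) ≫ v c := by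
  haveI : ∀ c, IsMonHom (v c) := fun c => (hv c).1
  exact rootProd_single j (nodup_allRoots D) (mem_allRoots D c) h

omit [IsOpenImmersion j] in
include hv in
theorem rp_zero : rp j v (0 : D.idx → C) = 1 := by
  haveI : ∀ c, IsMonHom (v c) := fun c => (hv c).1
  exact rootProd_eq_one j fun c _ => rfl

include hv in
/-- Products of root points with coordinates in a nilpotent ideal determine their coordinates. -/
theorem rp_injective {I : Ideal C} (hI : IsNilpotent I) {x y : D.idx → C} (hx : ∀ c, x c ∈ I) (hy : ∀ c, y c ∈ I)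
    (h : rp j v x = rp j v y) : x = y := by
  haveI : ∀ c, IsMonHom (v c) := fun c => (hv c).1
  have hn : ∀ z : D.idx → C, (∀ c, z c ∈ I) → (⟨1, z⟩ : Coord D C).IsNear I := fun z hz =>
    ⟨fun m => by simp, hz⟩
  have := coord_unique j hv (nodup_allRoots D) (mem_allRoots D) hI (hn x hx) (hn y hy)
    (by rw [chart_one_tor, chart_one_tor]; exact h)
  exact congrArg Coord.co this

include hv in
/-- Root points with parameters of vanishing squares and product commute. -/
theorem commute_sqzero (p q : D.idx) {x y : C} (hxx : x * x = 0) (hyy : y * y = 0) (hxy : x * y = 0) :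
    Commute (gp j x ≫ v p) (gp j y ≫ v q) := by
  haveI : ∀ c, IsMonHom (v c) := fun c => (hv c).1
  let T := TrivSqZeroExt R (R × R)
  let t₁ : T := TrivSqZeroExt.inr (1, 0)
  let t₂ : T := TrivSqZeroExt.inr (0, 1)
  let g : Sp j T ⟶ G := (gp j t₁ ≫ v p) * (gp j t₂ ≫ v q) * (gp j t₁ ≫ v p)⁻¹ * (gp j t₂ ≫ v q)⁻¹
  have hg : g = 1 := by
    have hnil : IsNilpotent (RingHom.ker (TrivSqZeroExt.fstHom R R (R × R) : T →ₐ[R] R)) := by
      refine ⟨2, ?_⟩
      rw [Submodule.pow_succ, Submodule.pow_one, Ideal.zero_eq_bot, eq_bot_iff, Ideal.mul_le]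
      intro a ha b hb
      rw [RingHom.mem_ker] at ha hb
      change a.fst = 0 at ha
      change b.fst = 0 at hb
      show a * b = 0
      apply TrivSqZeroExt.ext <;> simp [ha, hb]
    have h0 : mor j (TrivSqZeroExt.fstHom R R (R × R) : T →ₐ[R] R) ≫ g = 1 := by
      simp [g, MonObj.comp_mul, GrpObj.comp_inv, ← Category.assoc, mor_gp, t₁, t₂, gp_zero, MonObj.one_comp]
    obtain ⟨d, hd, hdg⟩ := exists_coord_of_surjective j hv (nodup_allRoots D) (mem_allRoots D)
      (TrivSqZeroExt.fstHom R R (R × R) : T →ₐ[R] R) (fun r => ⟨TrivSqZeroExt.inl r, rfl⟩) hnil g h0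
    let T' := TrivSqZeroExt R R
    have hnil' : IsNilpotent (RingHom.ker (TrivSqZeroExt.fstHom R R R : T' →ₐ[R] R)) := by
      refine ⟨2, ?_⟩
      rw [Submodule.pow_succ, Submodule.pow_one, Ideal.zero_eq_bot, eq_bot_iff, Ideal.mul_le]
      intro a ha b hb
      rw [RingHom.mem_ker] at ha hb
      change a.fst = 0 at ha
      change b.fst = 0 at hb
      show a * b = 0
      apply TrivSqZeroExt.ext <;> simp [ha, hb]
    have hkill : ∀ f : R × R →ₗ[R] R, (f (1, 0) = 0 ∨ f (0, 1) = 0) →
        d.map (TrivSqZeroExt.map f : T →ₐ[R] T').toRingHom = Coord.zero D T' := by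
      intro f hf
      refine coord_unique j hv (nodup_allRoots D) (mem_allRoots D) hnil' ?_ (Coord.isNear_zero _) ?_
      · refine hd.map _ (Ideal.map_le_iff_le_comap.2 fun z hz => ?_)
        show (TrivSqZeroExt.map f z).fst = 0
        rw [TrivSqZeroExt.fst_map]
        exact hz
      · rw [← mor_chart, hdg, chart_zero]
        simp only [g, MonObj.comp_mul, GrpObj.comp_inv, ← Category.assoc, mor_gp, t₁, t₂, TrivSqZeroExt.map_inr]
        rcases hf with h | h <;> simp [h, gp_zero, MonObj.one_comp]
    have hk1 := hkill (LinearMap.fst R R R) (Or.inr rfl)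
    have hk2 := hkill (LinearMap.snd R R R) (Or.inl rfl)
    have hd0 : d = Coord.zero D T := by
      refine Coord.ext (MonoidHom.ext fun m => ?_) (funext fun c => ?_)
      · have e1 := DFunLike.congr_fun (congrArg Coord.tor hk1) m
        have e2 := DFunLike.congr_fun (congrArg Coord.tor hk2) m
        change TrivSqZeroExt.map _ (d.tor m) = 1 at e1 e2
        have f1 := congrArg TrivSqZeroExt.fst e1
        have s1 := congrArg TrivSqZeroExt.snd e1
        have s2 := congrArg TrivSqZeroExt.snd e2
        rw [TrivSqZeroExt.fst_map] at f1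
        rw [TrivSqZeroExt.snd_map] at s1 s2
        show d.tor m = 1
        exact TrivSqZeroExt.ext f1 (Prod.ext s1 s2)
      · have e1 := congrFun (congrArg Coord.co hk1) c
        have e2 := congrFun (congrArg Coord.co hk2) c
        change TrivSqZeroExt.map _ (d.co c) = 0 at e1 e2
        have f1 := congrArg TrivSqZeroExt.fst e1
        have s1 := congrArg TrivSqZeroExt.snd e1
        have s2 := congrArg TrivSqZeroExt.snd e2
        rw [TrivSqZeroExt.fst_map] at f1
        rw [TrivSqZeroExt.snd_map] at s1 s2
        show d.co c = 0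
        exact TrivSqZeroExt.ext f1 (Prod.ext s1 s2)
    rw [← hdg, hd0, chart_zero]
  let L : R × R →ₗ[R] C := LinearMap.coprod (LinearMap.toSpanSingleton R C x) (LinearMap.toSpanSingleton R C y)
  have hL : ∀ a b, L a * L b = 0 := fun a b => by
    simp only [L, LinearMap.coprod_apply, LinearMap.toSpanSingleton_apply, add_mul, mul_add, smul_mul_smul_comm,
      hxx, hyy, hxy, mul_comm y x, smul_zero, add_zero]
  let φ : T →ₐ[R] C := TrivSqZeroExt.lift (Algebra.ofId R C) L hL
    (fun r m => by rw [map_smul, Algebra.smul_def]; rfl)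
    (fun r m => by rw [op_smul_eq_smul, map_smul, Algebra.smul_def, mul_comm]; rfl)
  have h1 : φ t₁ = x := (TrivSqZeroExt.lift_apply_inr _ _ _ _ _ _).trans (by simp [L])
  have h2 : φ t₂ = y := (TrivSqZeroExt.lift_apply_inr _ _ _ _ _ _).trans (by simp [L])
  have := congrArg (fun z => mor j φ ≫ z) hg
  simp only [g, MonObj.comp_mul, GrpObj.comp_inv, ← Category.assoc, mor_gp, h1, h2, MonObj.comp_one] at this
  rw [mul_inv_eq_one, mul_inv_eq_iff_eq_mul] at this
  exact this

theorem prod_interchange {Γ : Type*} [Monoid Γ] {κ : Type*} (f g : κ → Γ) (h : ∀ p q, Commute (g p) (f q)) (l : List κ) :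
    (l.map fun c => f c * g c).prod = (l.map f).prod * (l.map g).prod := by
  induction l with
  | nil => simp
  | cons c l ih =>
    simp only [List.map_cons, List.prod_cons, ih]
    have h1 : Commute (g c) (l.map f).prod := Commute.list_prod_right _ _ fun z hz => by
      obtain ⟨q, -, rfl⟩ := List.mem_map.1 hz
      exact h c q
    rw [_root_.mul_assoc, _root_.mul_assoc]
    congr 1
    rw [← _root_.mul_assoc, ← _root_.mul_assoc, h1.eq]

include hv in
theorem rootProd_add {I : Ideal C} (hI : ∀ a ∈ I, ∀ b ∈ I, a * b = 0) (l : List D.idx) {x y : D.idx → C}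
    (hx : ∀ c, x c ∈ I) (hy : ∀ c, y c ∈ I) :
    rootProd j v l (x + y) = rootProd j v l x * rootProd j v l y := by
  have hpt : ∀ c, gp j ((x + y) c) ≫ v c = (gp j (x c) ≫ v c) * (gp j (y c) ≫ v c) := fun c => by
    haveI : IsMonHom (v c) := (hv c).1
    rw [Pi.add_apply, gp_add, MonObj.mul_comp]
  unfold rootProd
  rw [funext hpt]
  exact prod_interchange _ _ (fun p q => commute_sqzero j hv p q (hI _ (hy p) _ (hy p)) (hI _ (hx q) _ (hx q))
    (hI _ (hy p) _ (hx q))) l

include hv in
/-- Products of root points with pairwise null coordinates multiply by adding coordinates. -/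
theorem rp_add {I : Ideal C} (hI : ∀ a ∈ I, ∀ b ∈ I, a * b = 0) {x y : D.idx → C} (hx : ∀ c, x c ∈ I)
    (hy : ∀ c, y c ∈ I) : rp j v (x + y) = rp j v x * rp j v y :=
  rootProd_add j hv hI (allRoots D) hx hy

include hv in
theorem rp_sum {I : Ideal C} (hI : ∀ a ∈ I, ∀ b ∈ I, a * b = 0) {κ : Type} (s : List κ) (x : κ → D.idx → C)
    (hx : ∀ k c, x k c ∈ I) : rp j v (s.map x).sum = (s.map fun k => rp j v (x k)).prod := by
  induction s with
  | nil => exact rp_zero j hv
  | cons k s ih =>
    have hsum : ∀ c, (s.map x).sum c ∈ I := fun c => by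
      clear ih
      induction s with
      | nil => exact I.zero_mem
      | cons k' s ih' => exact I.add_mem (hx k' c) ih'
    rw [List.map_cons, List.sum_cons, List.map_cons, List.prod_cons, rp_add j hv hI (hx k) hsum, ih]

end Groth.L14.Chev
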