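import Groth.Agent.L14.Chev.StringFour

/-!
Commutator expansions along a chosen listing of the roots of a quadrant, and uniqueness of their coefficients.
-/

set_option autoImplicit false
universe u

open CategoryTheory CategoryTheory.Limits AlgebraicGeometry MonoidalCategory CartesianMonoidalCategory MonObj
open Groth.L14.RankOne Groth.L25 Groth.L14.Chart

set_option backward.isDefEq.respectTransparency.types false
set_option linter.style.haveILetI false

noncomputable section

namespace Groth.L14.Chev

variable {S : Scheme.{u}} {G : Over S} [GrpObj G] {D : Red.SplitRed G}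

variable (D) in
/-- The roots outside a list, listed. -/
def restRoots (s : List D.idx) : List D.idx :=
  open Classical in (Finset.univ \ s.toFinset).toList

theorem mem_restRoots {s : List D.idx} {d : D.idx} : d ∈ restRoots D s ↔ d ∉ s := by
  classical
  simp [restRoots]

theorem nodup_append_rest {s : List D.idx} (hs : s.Nodup) : (s ++ restRoots D s).Nodup :=
  List.nodup_append.2 ⟨hs, Finset.nodup_toList _, fun _ ha _ hb => fun e => mem_restRoots.1 hb (e ▸ ha)⟩

theorem mem_append_rest (s : List D.idx) (d : D.idx) : d ∈ s ++ restRoots D s := by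
  by_cases h : d ∈ s
  · exact List.mem_append_left _ h
  · exact List.mem_append_right _ (mem_restRoots.2 h)

variable {R : Type u} [CommRing R] {j : Spec (CommRingCat.of R) ⟶ S} [IsOpenImmersion j]
  {v : D.idx → (Red.Ga S ⟶ G)} (hv : ∀ c, Red.IsRootHom D.i (D.split.hom.hom.hom ≫ Red.chi S (D.P.root c)) (v c))
variable {C : Type u} [CommRing C] [Algebra R C]

omit [IsOpenImmersion j] in
include hv in
theorem rootProd_append_rest {s : List D.idx} {x : D.idx → C} (hx : ∀ d, d ∉ s → x d = 0) :
    rootProd j v (s ++ restRoots D s) x = rootProd j v s x := by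
  haveI : ∀ c, IsMonHom (v c) := fun c => (hv c).1
  rw [rootProd, List.map_append, List.prod_append]
  have := rootProd_eq_one j (v := v) (l := restRoots D s) (x := x) fun c hc => hx c (mem_restRoots.1 hc)
  rw [rootProd] at this
  rw [this, _root_.mul_one]
  rfl

include hv in
/-- Products along a list with nilpotent coordinates determine their coordinates on the list. -/
theorem rootProd_injective_on {s : List D.idx} (hs : s.Nodup) {I : Ideal C} (hI : IsNilpotent I) {x y : D.idx → C}
    (hx : ∀ d ∈ s, x d ∈ I) (hy : ∀ d ∈ s, y d ∈ I) (h : rootProd j v s x = rootProd j v s y) :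
    ∀ d ∈ s, x d = y d := by
  classical
  haveI : ∀ c, IsMonHom (v c) := fun c => (hv c).1
  let ext : (D.idx → C) → D.idx → C := fun z d => if d ∈ s then z d else 0
  have he : ∀ z, rootProd j v s (ext z) = rootProd j v s z := fun z => by
    unfold rootProd
    exact congrArg List.prod (List.map_congr_left fun d hd => by simp [ext, hd])
  have hm : ∀ z : D.idx → C, (∀ d ∈ s, z d ∈ I) → ∀ d, ext z d ∈ I := fun z hz d => by
    simp only [ext]; split_ifs with hd
    · exact hz d hd
    · exact Submodule.zero_mem _
  have hn : ∀ z : D.idx → C, (∀ d, z d ∈ I) → (⟨1, z⟩ : Coord D C).IsNear I := fun z hz =>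
    ⟨fun m => by simp, hz⟩
  have := coord_unique j hv (nodup_append_rest hs) (mem_append_rest s) hI (hn _ (hm x hx)) (hn _ (hm y hy)) (by
    rw [chart_one_tor, chart_one_tor, rootProd_append_rest hv (x := ext x) fun d hd => if_neg hd,
      rootProd_append_rest hv (x := ext y) fun d hd => if_neg hd, he, he, h])
  intro d hd
  have := congrFun (congrArg Coord.co this) d
  simpa [ext, hd] using this

include hv in
/-- A listed product with pairwise null coordinates is the product over all roots. -/
theorem rootProd_eq_rp_of_sqzero {s : List D.idx} (hs : s.Nodup) {I : Ideal C} (hI : ∀ a ∈ I, ∀ b ∈ I, a * b = 0)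
    {x : D.idx → C} (hx : ∀ d, d ∉ s → x d = 0) (hxI : ∀ d, x d ∈ I) : rootProd j v s x = rp j v x :=
  (rp_of_commute hv s hs x hx fun p _ q _ =>
    commute_sqzero j hv p q (hI _ (hxI p) _ (hxI p)) (hI _ (hxI q) _ (hxI q)) (hI _ (hxI p) _ (hxI q))).symm

include hv in
/-- A commutator expanded along a list holding the roots of the quadrant. -/
theorem exists_comm_on (a b : D.idx) (hab : Indep D a b) (s : List D.idx) (hs : s.Nodup)
    (hcov : ∀ (i k : ℕ), 1 ≤ i → 1 ≤ k → ∀ d, D.P.root d = i • D.P.root a + k • D.P.root b → d ∈ s)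
    {A : D.idx → R} (hA : IsAdj j v a b A) :
    ∃ K : D.idx → R, (∀ (C : Type u) [CommRing C] [Algebra R C] (x y : C), Chart.comm j (v a) (v b) x y =
        rootProd j v s fun d => algebraMap R C (K d) * x ^ (pexp a b d).1 * y ^ (pexp a b d).2) ∧
      ∀ d ∈ s, ∀ i : ℕ, 1 ≤ i → D.P.root d = i • D.P.root a + D.P.root b → K d = -A d := by
  classical
  haveI : ∀ c, IsMonHom (v c) := fun c => (hv c).1
  obtain ⟨K, hK, he⟩ := comm_expansion j hv (nodup_append_rest hs) (mem_append_rest s) a b
    (fun i k hi _ h => by
      have := (hab (i : ℤ) (k : ℤ) (by rw [natCast_zsmul, natCast_zsmul]; exact h)).1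
      omega)
    (pexp a b) (fun c i k hi hk h => pexp_eq hab hi hk h)
  have hzero : ∀ d, d ∉ s → K d = 0 := fun d hd => by
    by_contra h
    obtain ⟨h1, h2, h3⟩ := hK d h
    exact hd (hcov _ _ h1 h2 d h3)
  have heq : ∀ (C : Type u) [CommRing C] [Algebra R C] (x y : C), Chart.comm j (v a) (v b) x y =
      rootProd j v s fun d => algebraMap R C (K d) * x ^ (pexp a b d).1 * y ^ (pexp a b d).2 := fun C _ _ x y =>
    (he C x y).trans (rootProd_append_rest hv fun d hd => by simp [hzero d hd])
  refine ⟨K, heq, fun d hd i hi hroot => ?_⟩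
  obtain ⟨K', hK'⟩ := exists_isCommK (j := j) hv a b hab
  let C := DualNumber R
  let e : C := DualNumber.eps
  have he2 : e * e = 0 := DualNumber.eps_mul_eps
  have hm : ∀ (L : D.idx → R), (∀ d, L d ≠ 0 → 1 ≤ (pexp a b d).2) → ∀ d,
      algebraMap R C (L d) * 1 ^ (pexp a b d).1 * e ^ (pexp a b d).2 ∈ Ideal.span {e} := fun L hL d => by
    by_cases h : L d = 0
    · simp [h]
    · exact Ideal.mul_mem_left _ _ (Ideal.pow_mem_of_mem _ (Ideal.mem_span_singleton_self e) _ (hL d h))
  have h1 : ∀ d, K d ≠ 0 → 1 ≤ (pexp a b d).2 := fun d h => (hK d h).2.1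
  have h2 : ∀ d, K' d ≠ 0 → 1 ≤ (pexp a b d).2 := fun d h => by
    obtain ⟨i, k, hi, hk, hr⟩ := hK'.supp d h
    rw [pexp_eq hab hi hk hr]; exact hk
  have h3 := ((hK'.eq C 1 e).symm.trans (heq C 1 e)).trans
    (rootProd_eq_rp_of_sqzero hv hs (span_singleton_sqzero he2) (fun d hd => by simp [hzero d hd]) (hm K h1))
  have := congrFun (rp_injective j hv (isNilpotent_span_singleton he2) (hm K' h2) (hm K h1) h3) d
  simp only [pexp_eq hab hi le_rfl (show D.P.root d = i • D.P.root a + 1 • D.P.root b by rw [hroot, one_smul]),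
    one_pow, _root_.mul_one, pow_one] at this
  rw [← smul_eps_injective this]
  exact hK'.eq_neg_adj hv hA hab hi hroot

end Groth.L14.Chev
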