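import Groth.Agent.L14.Chev.Strings

/-!
Coefficients along a string of four roots.
-/

set_option autoImplicit false
universe u

open CategoryTheory CategoryTheory.Limits AlgebraicGeometry MonoidalCategory CartesianMonoidalCategory MonObj
open Groth.L14.RankOne Groth.L25 Groth.L14.Chart

set_option backward.isDefEq.respectTransparency.types false
set_option linter.style.haveILetI false

noncomputable section

namespace Groth.L14.Chev

variable {S : Scheme.{u}} {G : Over S} [GrpObj G] {D : Red.SplitRed G}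

/-- Two independent roots pair in absolute value at most three. -/
theorem Indep.pairing_le {a b : D.idx} (h : Indep D a b) :
    -3 ≤ D.P.pairing a b ∧ D.P.pairing a b ≤ 3 := by
  have := h.pairs
  simp only [Set.mem_insert_iff, Set.mem_singleton_iff, Prod.mk.injEq] at this
  omega

/-- A combination pairing too much with one of the two roots is not a root. -/
theorem not_root_of_pairing {a b : D.idx} (h : Indep D a b) {r s : ℤ} (hs : s ≠ 0)
    (hp : 4 ≤ r * 2 + s * D.P.pairing b a ∨ r * 2 + s * D.P.pairing b a ≤ -4) :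
    r • D.P.root a + s • D.P.root b ∉ Set.range D.P.root := by
  rintro ⟨d, hd⟩
  have hi : Indep D d a := h.of_combo (r := r) (s := s) (t := 1) (w := 0) hd (by simp) (by simpa using hs)
  have := hi.pairing_le
  have hda := RootCombo.pairing_of_eq D.P hd a
  rw [D.P.pairing_same] at hda
  omega

/-- Pairings with a doubled root. -/
theorem pairing_double {c d : D.idx} (h : D.P.root d = (2 : ℤ) • D.P.root c) (m : D.idx) :
    D.P.pairing m c = 2 * D.P.pairing m d := by
  classical
  haveI := RootCombo.isCrystallographic D.P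
  let B := D.P.RootForm
  have hpos : 0 < B (D.P.root c) (D.P.root c) := by
    rw [D.P.rootForm_root_self]
    refine Finset.sum_pos' (fun l _ => mul_self_nonneg _) ⟨c, Finset.mem_univ c, ?_⟩
    rw [D.P.pairing_same]
    norm_num
  have h1 := D.P.toInvariantForm.two_mul_apply_root_root m c
  have h2 := D.P.toInvariantForm.two_mul_apply_root_root m d
  change 2 * B _ _ = _ * B _ _ at h1 h2
  rw [h, map_smul, map_smul, map_smul, LinearMap.smul_apply, smul_eq_mul, smul_eq_mul, smul_eq_mul] at h2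
  have h3 : (D.P.pairing m c - 2 * D.P.pairing m d) * B (D.P.root c) (D.P.root c) = 0 := by
    have h4 : 2 * B (D.P.root m) (D.P.root c) = D.P.pairing m d * (2 * B (D.P.root c) (D.P.root c)) := by linarith
    linear_combination h4 - h1
  exact sub_eq_zero.1 ((mul_eq_zero.1 h3).resolve_right hpos.ne')

variable {R : Type u} [CommRing R] {j : Spec (CommRingCat.of R) ⟶ S} [IsOpenImmersion j]
  {v : D.idx → (Red.Ga S ⟶ G)} (hv : ∀ c, Red.IsRootHom D.i (D.split.hom.hom.hom ≫ Red.chi S (D.P.root c)) (v c))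

include hv in
/-- The coefficients at the lowest root of a string of four roots. -/
theorem string_base_of {a e₀ e₁ e₂ e₃ : D.idx} {sa ta se te s₃ t₃ : ℤ} (hWa : WeylAct j v a e₀ sa ta)
    (hWe : WeylAct j v e₀ a se te) (hW₃ : WeylAct j v e₃ (D.P.reflectionPerm a a) s₃ t₃)
    (hi : Indep D a e₀) (h : D.P.pairing e₀ a = -3) (h₁ : D.P.root e₁ = D.P.root e₀ + D.P.root a)
    (h₂ : D.P.root e₂ = D.P.root e₁ + D.P.root a) (h₃ : D.P.root e₃ = D.P.root e₂ + D.P.root a)
    {A0 : D.idx → R} (hA0 : IsAdj j v a e₀ A0) :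
    A0 e₁ = -(te : R) ∧ A0 e₂ = (ta : R) * sa * t₃ ∧
      A0 e₃ = (ta : R) := by
  have hp := hi.pairs
  simp only [Set.mem_insert_iff, Set.mem_singleton_iff, Prod.mk.injEq] at hp
  have hae : D.P.pairing a e₀ = -1 := by omega
  have r₂ : D.P.root e₂ = D.P.root e₀ + (2 : ℕ) • D.P.root a := by rw [h₂, h₁, two_nsmul, add_assoc]
  have r₃ : D.P.root e₃ = D.P.root e₀ + (3 : ℕ) • D.P.root a := by rw [h₃, h₂, h₁]; abel
  have z₃ : D.P.root e₃ = (3 : ℤ) • D.P.root a + (1 : ℤ) • D.P.root e₀ := by rw [r₃]; module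
  obtain ⟨B, hB⟩ := exists_isAdj (j := j) hv e₀ a hi.symm
  have hi3 : Indep D a e₃ := hi.of_combo (r := 1) (s := 0) (by simp) z₃ (by simp)
  have ht : D.P.reflectionPerm a e₀ = e₃ := refl_eq (q := 3) h (by rw [r₃, ofNat_zsmul])
  have na3 : D.P.root a + D.P.root e₃ ∉ Set.range D.P.root := by
    rw [show D.P.root a + D.P.root e₃ = (4 : ℤ) • D.P.root a + (1 : ℤ) • D.P.root e₀ by rw [z₃]; module]
    exact not_root_of_pairing hi one_ne_zero (Or.inl (by rw [h]; norm_num))
  have c₁ : A0 e₁ = -(te : R) := by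
    rw [hA0.swap hv hB hi (d := e₁) (by rw [h₁, add_comm]), hWe.top_value hv hB
      (refl_eq (q := 1) hae (by rw [one_smul, h₁, add_comm]))
      (hi.of_combo (r := 0) (s := 1) (t := 1) (w := 1) (by simp) (by rw [h₁]; module) (by simp)) (by
        rw [show D.P.root e₀ + D.P.root e₁ = (1 : ℤ) • D.P.root a + (2 : ℤ) • D.P.root e₀ by rw [h₁]; module]
        exact not_root_of_pairing hi (by norm_num) (Or.inr (by rw [h]; norm_num)))]
  have hina : Indep D (D.P.reflectionPerm a a) e₃ := hi.of_combo (r := -1) (s := 0)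
    (by rw [root_self_refl]; module) z₃ (by simp)
  obtain ⟨Gc, hGc⟩ := exists_isAdj (j := j) hv _ e₃ hina
  obtain ⟨B', hB'⟩ := exists_isAdj (j := j) hv e₃ _ hina.symm
  have hp3 := hi3.pairs
  simp only [Set.mem_insert_iff, Set.mem_singleton_iff, Prod.mk.injEq] at hp3
  have h3a : D.P.pairing e₃ a = 3 := by
    rw [RootCombo.pairing_of_eq D.P z₃ a, D.P.pairing_same, h]; norm_num
  have c₂ : A0 e₂ = (ta : R) * sa * t₃ := by
    rw [hWa.top_second hv hA0 hGc ht hi3 na3 (m := e₂) h₃.symm,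
      hGc.swap hv hB' hina (d := e₂) (by rw [root_self_refl, h₃]; abel),
      hW₃.top_value hv hB' (t := e₂) (refl_eq (q := 1)
          (by rw [D.P.pairing_reflectionPerm_self_left]; omega) (by rw [root_self_refl, h₃]; module))
        (hi.of_combo (r := 3) (s := 1) (t := 2) (w := 1) z₃ (by rw [r₂]; module) (by simp)) (by
          rw [show D.P.root e₃ + D.P.root e₂ = (5 : ℤ) • D.P.root a + (2 : ℤ) • D.P.root e₀ by rw [r₃, r₂]; module]
          exact not_root_of_pairing hi (by norm_num) (Or.inl (by rw [h]; norm_num)))]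
    ring
  have c₃ : A0 e₃ = (ta : R) := hWa.top_value hv hA0 ht hi3 na3
  exact ⟨c₁, c₂, c₃⟩

include hv in
theorem IsChev.string_base {sg : D.idx → D.idx → ℤ} (hC : IsChev j v sg) {a e₀ e₁ e₂ e₃ : D.idx}
    (hi : Indep D a e₀) (h : D.P.pairing e₀ a = -3) (h₁ : D.P.root e₁ = D.P.root e₀ + D.P.root a)
    (h₂ : D.P.root e₂ = D.P.root e₁ + D.P.root a) (h₃ : D.P.root e₃ = D.P.root e₂ + D.P.root a)
    {A0 : D.idx → R} (hA0 : IsAdj j v a e₀ A0) :
    A0 e₁ = -(sg e₀ a : R) ∧ A0 e₂ = (sg a e₀ : R) * sg a a * sg e₃ (D.P.reflectionPerm a a) ∧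
      A0 e₃ = (sg a e₀ : R) :=
  string_base_of hv (hC.weylAct a e₀) (hC.weylAct e₀ a) (hC.weylAct e₃ _) hi h h₁ h₂ h₃ hA0

include hv in
/-- The coefficients of a string of four roots. -/
theorem IsChev.string_four {sg : D.idx → D.idx → ℤ} (hC : IsChev j v sg) {a e₀ e₁ e₂ e₃ : D.idx}
    (hi : Indep D a e₀) (h : D.P.pairing e₀ a = -3) (h₁ : D.P.root e₁ = D.P.root e₀ + D.P.root a)
    (h₂ : D.P.root e₂ = D.P.root e₁ + D.P.root a) (h₃ : D.P.root e₃ = D.P.root e₂ + D.P.root a)
    {A₁ A₂ : D.idx → R} (hA₁ : IsAdj j v a e₁ A₁) (hA₂ : IsAdj j v a e₂ A₂) :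
    A₁ e₂ = ((-(2 * (sg e₀ a * (sg a e₀ * sg a a * sg e₃ (D.P.reflectionPerm a a)))) : ℤ) : R) ∧
      A₁ e₃ = ((-(3 * (sg e₀ a * sg a e₀)) : ℤ) : R) ∧
      A₂ e₃ = ((3 * (sg a a * sg e₃ (D.P.reflectionPerm a a)) : ℤ) : R) := by
  have hsq : ∀ x y, (sg x y : R) * sg x y = 1 := fun x y => by
    rcases hC.sign x y with h | h <;> simp [h]
  have r₂ : D.P.root e₂ = D.P.root e₀ + (2 : ℕ) • D.P.root a := by rw [h₂, h₁, two_nsmul, add_assoc]
  have r₃ : D.P.root e₃ = D.P.root e₀ + (3 : ℕ) • D.P.root a := by rw [h₃, h₂, h₁]; abel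
  obtain ⟨A0, hA0⟩ := exists_isAdj (j := j) hv a e₀ hi
  obtain ⟨s₁, s₂, s₃⟩ := hC.string_base hv hi h h₁ h₂ h₃ hA0
  have k2 := hA0.comp_two hv hi hA₁ h₁ r₂
  obtain ⟨k31, k32⟩ := hA0.comp_three hv hi hA₁ hA₂ h₁ r₂ r₃
  rw [s₁, s₂] at k2
  rw [s₁, s₃] at k31
  rw [s₂, s₃] at k32
  have n2 : ∀ x y z : R, x * x = 1 → y = -x * z → z = -x * y := fun x y z hx h => by
    linear_combination x * h - z * hx
  refine ⟨?_, ?_, ?_⟩
  · rw [n2 _ _ _ (hsq e₀ a) k2]; push_cast; ring
  · rw [n2 _ _ _ (hsq e₀ a) k31]; push_cast; ring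
  · push_cast
    linear_combination -(sg a e₀ : R) * sg a a * sg e₃ (D.P.reflectionPerm a a) * k32
      - A₂ e₃ * hsq a e₀ - A₂ e₃ * (sg a e₀ : R) ^ 2 * hsq a a
      - A₂ e₃ * ((sg a e₀ : R) * sg a a) ^ 2 * hsq e₃ (D.P.reflectionPerm a a)
      + 3 * (sg a a : R) * sg e₃ (D.P.reflectionPerm a a) * hsq a e₀

include hv in
/-- The commutator coefficient of a root linear in the first parameter. -/
theorem IsCommK.eq_adj_flip {a b d : D.idx} {K B : D.idx → R} (hK : IsCommK j v a b K) (hB : IsAdj j v b a B)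
    (hab : Indep D a b) {k : ℕ} (hk : 1 ≤ k) (hd : D.P.root d = D.P.root a + k • D.P.root b) : K d = B d := by
  classical
  haveI : ∀ c, IsMonHom (v c) := fun c => (hv c).1
  let C := DualNumber R
  let e : C := DualNumber.eps
  have he : e * e = 0 := DualNumber.eps_mul_eps
  have hne : d ≠ a := fun e => by
    have := (hab 0 k (by rw [zero_smul, zero_add, natCast_zsmul]; simpa [e] using hd)).2
    omega
  have hm : ∀ c : D.idx, algebraMap R C (K c) * e ^ (pexp a b c).1 * 1 ^ (pexp a b c).2 ∈ Ideal.span {e} := fun c => by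
    by_cases h : K c = 0
    · simp [h]
    · obtain ⟨i, k', hi, hk', he'⟩ := hK.supp c h
      rw [pexp_eq hab hi hk' he', one_pow, _root_.mul_one]
      exact Ideal.mul_mem_left _ _ (Ideal.pow_mem_of_mem _ (Ideal.mem_span_singleton_self e) _ hi)
  have hs : ∀ c : D.idx, (Pi.single a e : D.idx → C) c ∈ Ideal.span {e} := fun c => by
    by_cases h : c = a
    · subst h; rw [Pi.single_eq_same]; exact Ideal.mem_span_singleton_self e
    · rw [Pi.single_eq_of_ne h]; exact Submodule.zero_mem _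
  have h1 := hB.conj C 1 e he
  have h2 : (gp j (1 : C) ≫ v b) * (gp j e ≫ v a) * (gp j (1 : C) ≫ v b)⁻¹ =
      Chart.comm j (v a) (v b) e (1 : C) * (gp j e ≫ v a) := by
    rw [Chart.comm]; group
  rw [h1, hK.eq, ← rp_single j hv, ← rp_add j hv (span_singleton_sqzero he) hm hs] at h2
  have := congrFun (rp_injective j hv (isNilpotent_span_singleton he) (IsAdj.mem 1 e)
    (fun c => Submodule.add_mem _ (hm c) (hs c)) h2) d
  simp only [adjVec, one_pow, _root_.mul_one, Pi.add_apply, Pi.single_eq_of_ne hne, add_zero,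
    pexp_eq hab le_rfl hk (show D.P.root d = 1 • D.P.root a + k • D.P.root b by rw [hd, one_smul]), pow_one] at this
  exact (smul_eps_injective this).symm

omit [IsOpenImmersion j] in
include hv in
/-- A product of root points supported on commuting roots, along any listing of the support. -/
theorem rp_of_commute {C : Type u} [CommRing C] [Algebra R C] (s : List D.idx) (hs : s.Nodup) (x : D.idx → C)
    (hx : ∀ c, c ∉ s → x c = 0)
    (hc : ∀ p ∈ s, ∀ q ∈ s, Commute (gp j (x p) ≫ v p) (gp j (x q) ≫ v q)) :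
    rp j v x = (s.map fun c => gp j (x c) ≫ v c).prod := by
  classical
  haveI : ∀ c, IsMonHom (v c) := fun c => (hv c).1
  have h1 : ∀ l : List D.idx, rootProd j v l x = rootProd j v (l.filter (· ∈ s)) x := fun l => by
    induction l with
    | nil => rfl
    | cons c l ih =>
      by_cases h : c ∈ s
      · rw [List.filter_cons_of_pos (by simpa using h)]
        simp only [rootProd, List.map_cons, List.prod_cons] at ih ⊢
        rw [ih]
      · rw [List.filter_cons_of_neg (by simpa using h)]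
        simp only [rootProd, List.map_cons, List.prod_cons] at ih ⊢
        rw [hx c h, gp_zero, MonObj.one_comp, _root_.one_mul, ih]
  rw [rp, h1]
  refine List.Perm.prod_eq' (List.Perm.map _ ?_) (List.Pairwise.map _ (fun p q h => h) ?_)
  · refine (List.perm_ext_iff_of_nodup ((nodup_allRoots D).filter _) hs).2 fun c => ?_
    simp [mem_allRoots D c]
  · refine List.Pairwise.imp_of_mem (fun hp hq _ => ?_) ((nodup_allRoots D).filter _)
    exact hc _ (by simpa using (List.mem_filter.1 hp).2) _ (by simpa using (List.mem_filter.1 hq).2)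

end Groth.L14.Chev
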