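import Groth.Agent.L14.Chev.Braid
import Groth.Agent.L14.Chev.StringFour

/-!
The Weyl element of a short root acts by `-1` on the root group in the middle of a string of three roots.
-/

set_option autoImplicit false
universe u

open CategoryTheory CategoryTheory.Limits AlgebraicGeometry MonoidalCategory CartesianMonoidalCategory MonObj
open Groth.L14.RankOne Groth.L25 Groth.L14.Chart

set_option backward.isDefEq.respectTransparency.types false
set_option linter.style.haveILetI false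

noncomputable section

namespace Groth.L14.Chev

variable {S : Scheme.{u}} {G : Over S} [GrpObj G] {D : Red.SplitRed G} {v : D.idx → (Red.Ga S ⟶ G)}
  (hv : ∀ c, Red.IsRootHom D.i (D.split.hom.hom.hom ≫ Red.chi S (D.P.root c)) (v c))
  {R : Type u} [CommRing R] {j : Spec (CommRingCat.of R) ⟶ S} [IsOpenImmersion j]

include hv in
/-- A commutator with exactly two terms. -/
theorem comm_two {a b d₁ d₂ : D.idx} (hab : Indep D a b) {A : D.idx → R} (hA : IsAdj j v a b A)
    (h₁ : D.P.root d₁ = D.P.root a + D.P.root b) (h₂ : D.P.root d₂ = 2 • D.P.root a + D.P.root b)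
    (h12 : D.P.root a + 2 • D.P.root b ∉ Set.range D.P.root)
    (h31 : 3 • D.P.root a + D.P.root b ∉ Set.range D.P.root)
    (h22 : 2 • D.P.root a + 2 • D.P.root b ∉ Set.range D.P.root)
    (h32 : 3 • D.P.root a + 2 • D.P.root b ∉ Set.range D.P.root)
    {C : Type u} [CommRing C] [Algebra R C] (x y : C) :
    Chart.comm j (v a) (v b) x y = (gp j (-(algebraMap R C (A d₁)) * x * y) ≫ v d₁) *
      (gp j (-(algebraMap R C (A d₂)) * x ^ 2 * y) ≫ v d₂) := by
  classical
  haveI : ∀ c, IsMonHom (v c) := fun c => (hv c).1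
  obtain ⟨K, hK⟩ := exists_isCommK (j := j) hv a b hab
  have w₁ : D.P.root d₁ = (1 : ℕ) • D.P.root a + (1 : ℕ) • D.P.root b := by rw [h₁, one_smul, one_smul]
  have w₂ : D.P.root d₂ = (2 : ℕ) • D.P.root a + (1 : ℕ) • D.P.root b := by rw [h₂, one_smul]
  have e₁ := pexp_eq hab le_rfl le_rfl w₁
  have e₂ := pexp_eq hab (i := 2) (by norm_num) le_rfl w₂
  have quad : ∀ {i k : ℕ}, 1 ≤ i → 1 ≤ k → ∀ {d}, D.P.root d = i • D.P.root a + k • D.P.root b →
      (i, k) ∈ [(1, 1), (2, 1)] := fun hi hk d hd =>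
    quadrant hab [(1, 1), (2, 1)] List.mem_cons_self (fun p hp => by
      simp only [List.mem_cons, List.not_mem_nil, or_false] at hp
      rcases hp with rfl | rfl
      · exact ⟨Or.inl (by simp), Or.inr (by simpa using h12)⟩
      · exact ⟨Or.inr (by simpa using h31), Or.inr (by simpa using h22)⟩) hi hk hd
  have hcomm : ∀ {C : Type u} [CommRing C] [Algebra R C] (x y : C),
      Commute (gp j x ≫ v d₁) (gp j y ≫ v d₂) := fun {C} _ _ x y => by
    have hs : D.P.root d₁ + D.P.root d₂ = 3 • D.P.root a + 2 • D.P.root b := by rw [h₁, h₂]; module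
    refine commute_roots hv (fun h => ?_) (hs ▸ h32) x y
    rw [hs] at h
    have := (hab 3 2 (by rw [ofNat_zsmul, ofNat_zsmul]; exact h)).1
    omega
  rw [hK.eq, rp_of_commute hv [d₁, d₂] (by simp; exact fun e => by simp [e, e₂] at e₁) _ (fun p hp => by
      simp only [List.mem_cons, List.not_mem_nil, or_false, not_or] at hp
      by_cases hKp : K p = 0
      · simp [hKp]
      obtain ⟨i, k, hi, hk, he⟩ := hK.supp p hKp
      have := quad hi hk he
      simp only [List.mem_cons, List.not_mem_nil, or_false, Prod.mk.injEq] at this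
      rcases this with ⟨rfl, rfl⟩ | ⟨rfl, rfl⟩
      · exact absurd (D.P.root.injective (he.trans w₁.symm)) hp.1
      · exact absurd (D.P.root.injective (he.trans w₂.symm)) hp.2)
    (fun p hp q hq => by
      simp only [List.mem_cons, List.not_mem_nil, or_false] at hp hq
      rcases hp with hp | hp <;> rcases hq with hq | hq <;> rewrite [hp, hq]
      · exact Commute.refl _
      · exact hcomm _ _
      · exact (hcomm _ _).symm
      · exact Commute.refl _)]
  simp [e₁, e₂, hK.eq_neg_adj hv hA hab le_rfl (show D.P.root d₁ = 1 • D.P.root a + D.P.root b by rw [h₁, one_smul]),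
    hK.eq_neg_adj hv hA hab (i := 2) (by norm_num) h₂]

variable {avc : D.idx → (Red.Gm S ⟶ D.T)}
  (havc : ∀ a, avc a = Red.DSmap S (D.P.coroot a).toAddMonoidHom ≫ D.split.inv.hom.hom)
  (e₁ : 𝟙_ (Over S) ⟶ Red.Ga S) (he₁ : Red.gaFn e₁ = 1)
  {p q : D.idx} {m n : 𝟙_ (Over S) ⟶ G}
  (hm : m = (e₁ ≫ v p) * (e₁ ≫ v (D.P.reflectionPerm p p))⁻¹ * (e₁ ≫ v p))
  (hn : n = (e₁ ≫ v q) * (e₁ ≫ v (D.P.reflectionPerm q q))⁻¹ * (e₁ ≫ v q))
  (hp : DualAt avc v (opp v) p) (hq : DualAt avc v (opp v) q) (hpq : Indep D p q)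

include havc hv he₁ hm hn hp hq hpq in
/-- The Weyl element of the short root on the middle root group. -/
theorem middle_conj (h1 : D.P.pairing p q = -1) (h2 : D.P.pairing q p = -2)
    (hsub : D.P.root q - D.P.root p ∉ Set.range D.P.root)
    (hn2 : (2 : ℤ) • D.P.root p ∉ Set.range D.P.root) {C : Type u} [CommRing C] [Algebra R C] (x : C) :
    (toUnit (Sp j C) ≫ m) * (gp j x ≫ conjHom n (v p)) * (toUnit (Sp j C) ≫ m)⁻¹ =
      gp j (-x) ≫ conjHom n (v p) := by
  classical
  let c₁ := D.P.reflectionPerm q p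
  let c₂ := D.P.reflectionPerm p q
  let p' := D.P.reflectionPerm p p
  have r₁ : D.P.root c₁ = D.P.root p + D.P.root q := by
    rw [D.P.root_reflectionPerm, D.P.reflection_apply_root, h1, neg_smul, one_smul, sub_neg_eq_add]
  have r₂ : D.P.root c₂ = (2 : ℤ) • D.P.root p + D.P.root q := by
    rw [D.P.root_reflectionPerm, D.P.reflection_apply_root, h2]; module
  have rp' : D.P.root p' = -D.P.root p := root_self_refl p
  have hsub' : D.P.root p - D.P.root q ∉ Set.range D.P.root := fun ⟨k, hk⟩ =>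
    hsub ⟨D.P.reflectionPerm k k, by rw [root_self_refl, hk, neg_sub]⟩
  have z12 : D.P.root p + (2 : ℤ) • D.P.root q ∉ Set.range D.P.root :=
    add_zsmul_notMem hpq.symm hsub' (by rw [h1]; norm_num)
  have z31 : D.P.root q + (3 : ℤ) • D.P.root p ∉ Set.range D.P.root :=
    add_zsmul_notMem hpq hsub (by rw [h2]; norm_num)
  have z22 : (2 : ℤ) • D.P.root p + (2 : ℤ) • D.P.root q ∉ Set.range D.P.root := fun ⟨k, hk⟩ =>
    hn2 ⟨D.P.reflectionPerm q k, by
      rw [D.P.root_reflectionPerm, D.P.reflection_apply_root, RootCombo.pairing_of_eq D.P hk q, D.P.pairing_same,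
        h1, hk]
      module⟩
  have z32 : (3 : ℤ) • D.P.root p + (2 : ℤ) • D.P.root q ∉ Set.range D.P.root := fun ⟨k, hk⟩ =>
    z12 ⟨D.P.reflectionPerm p k, by
      rw [D.P.root_reflectionPerm, D.P.reflection_apply_root, RootCombo.pairing_of_eq D.P hk p, D.P.pairing_same,
        h2, hk]
      module⟩
  have hacp := actsBy_weyl avc havc hv e₁ he₁ p hp hm
  have hacq := actsBy_weyl avc havc hv e₁ he₁ q hq hn
  let v' := Function.update (Function.update v c₁ (conjHom n (v p))) c₂ (conjHom m (v q))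
  have hf₁ := isRootHom_conjHom hacq (g' := c₁) rfl (hv p)
  have hf₂ := isRootHom_conjHom hacp (g' := c₂) rfl (hv q)
  have hneq : ∀ {g g' : D.idx} {r s r' s' : ℤ}, D.P.root g = r • D.P.root p + s • D.P.root q →
      D.P.root g' = r' • D.P.root p + s' • D.P.root q → (r ≠ r' ∨ s ≠ s') → g ≠ g' := by
    intro g g' r s r' s' hg hg' hrs e
    subst e
    have := hpq (r - r') (s - s') (by rw [sub_smul, sub_smul, ← add_sub_add_comm, ← hg, ← hg', sub_self])
    omega
  have z₁ : D.P.root c₁ = (1 : ℤ) • D.P.root p + (1 : ℤ) • D.P.root q := by rw [r₁, one_smul, one_smul]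
  have z₂ : D.P.root c₂ = (2 : ℤ) • D.P.root p + (1 : ℤ) • D.P.root q := by rw [r₂, one_smul]
  have v1 : v' c₁ = conjHom n (v p) := by simp [v', hneq z₁ z₂ (by simp)]
  have v2 : v' c₂ = conjHom m (v q) := by simp [v']
  have vkeep : ∀ g {r s : ℤ}, D.P.root g = r • D.P.root p + s • D.P.root q → r * s = 0 → v' g = v g := by
    intro g r s hg hrs
    rcases mul_eq_zero.1 hrs with h | h <;> subst h <;>
      simp [v', hneq hg z₁ (by simp), hneq hg z₂ (by simp)]
  have vp : v' p = v p := vkeep p (r := 1) (s := 0) (by simp) (by simp)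
  have vq : v' q = v q := vkeep q (r := 0) (s := 1) (by simp) (by simp)
  have vp' : v' p' = v p' := vkeep p' (r := -1) (s := 0) (by rw [rp']; simp) (by simp)
  have vq' : v' (D.P.reflectionPerm q q) = v (D.P.reflectionPerm q q) :=
    vkeep _ (r := 0) (s := -1) (by rw [root_self_refl]; simp) (by simp)
  have hv' : ∀ g, Red.IsRootHom D.i (D.split.hom.hom.hom ≫ Red.chi S (D.P.root g)) (v' g) := fun g => by
    by_cases hg2 : g = c₂
    · subst hg2; rw [v2]; exact hf₂
    by_cases hg1 : g = c₁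
    · subst hg1; rw [v1]; exact hf₁
    simpa [v', hg1, hg2] using hv g
  haveI : ∀ g, IsMonHom (v' g) := fun g => (hv' g).1
  have hWpq : WeylAct j v' p q (-1) 1 := fun C _ _ z => by
    show _ = _ ≫ v' c₂
    rw [weyl, vp, vp', ← weyl, ← toUnit_weyl hv j e₁ he₁ p hm, vq, v2, comp_conjHom]
    simp
  have hWqp : WeylAct j v' q p (-1) 1 := fun C _ _ z => by
    show _ = _ ≫ v' c₁
    rw [weyl, vq, vq', ← weyl, ← toUnit_weyl hv j e₁ he₁ q hn, vp, v1, comp_conjHom]
    simp
  have ept : D.P.reflectionPerm p' p' = p := D.P.root.injective (by rw [root_self_refl, rp', neg_neg])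
  have et : D.P.reflectionPerm p' c₂ = q := D.P.root.injective (by
    rw [D.P.root_reflectionPerm, D.P.reflection_apply_root, D.P.pairing_reflectionPerm_self_right, rp',
      RootCombo.pairing_of_eq D.P z₂ p, D.P.pairing_same, h2, r₂]
    module)
  have hWp' : WeylAct j v' p' c₂ (-1) 1 := fun C _ _ z => by
    have hM := weyl_opp havc hv j e₁ he₁ hm hp C
    rw [toUnit_weyl hv j e₁ he₁ p' (w := _) rfl] at hM
    have e : weyl j v' C p' (-1) = (toUnit (Sp j C) ≫ m)⁻¹ := by
      rw [← hM, weyl, weyl, ept, vp', vp]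
    rw [e, et, v2, vq, comp_conjHom, Int.cast_one, _root_.one_mul]
    group
  have hi : Indep D p' c₂ := hpq.of_combo (r := -1) (s := 0) (by rw [rp']; simp) z₂ (by norm_num)
  have hi' : Indep D p' q := hpq.of_combo (r := -1) (s := 0) (t := 0) (w := 1) (by rw [rp']; simp) (by simp) (by simp)
  have hpc₂ : Indep D p c₂ := hpq.of_combo (r := 1) (s := 0) (by simp) z₂ (by norm_num)
  have hqc₁ : Indep D q c₁ := hpq.of_combo (r := 0) (s := 1) (by simp) z₁ (by norm_num)
  obtain ⟨A, hA⟩ := exists_isAdj (j := j) hv' p q hpq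
  obtain ⟨B, hB⟩ := exists_isAdj (j := j) hv' q p hpq.symm
  obtain ⟨Gc, hG⟩ := exists_isAdj (j := j) hv' p' c₂ hi
  have a2 : A c₂ = 1 := by
    rw [hWpq.top_value hv' hA rfl hpc₂ (by
      rw [show D.P.root p + D.P.root c₂ = D.P.root q + (3 : ℤ) • D.P.root p by rw [r₂]; module]
      exact z31)]
    simp
  have a1 : A c₁ = -1 := by
    rw [hA.swap hv' hB hpq r₁, hWqp.top_value hv' hB rfl hqc₁ (by
      rw [show D.P.root q + D.P.root c₁ = D.P.root p + (2 : ℤ) • D.P.root q by rw [r₁]; module]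
      exact z12)]
    simp
  have g2 : Gc q = 1 := by
    rw [hWp'.top_value hv' hG et hi' (by rw [rp', neg_add_eq_sub]; exact hsub)]
    simp
  have g1 : Gc c₁ = -1 := by
    have h := hWpq.top_second hv' hA hG (t := c₂) (m := c₁) rfl hpc₂ (by
      rw [show D.P.root p + D.P.root c₂ = D.P.root q + (3 : ℤ) • D.P.root p by rw [r₂]; module]
      exact z31) (by rw [r₁, r₂]; module)
    rw [a1] at h
    simpa using h.symm
  have hn' : ∀ r s : ℕ, (r : ℤ) • D.P.root p + (s : ℤ) • D.P.root q ∉ Set.range D.P.root →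
      r • D.P.root p + s • D.P.root q ∉ Set.range D.P.root := fun r s h => by
    rwa [natCast_zsmul, natCast_zsmul] at h
  have k1 := comm_two hv' hpq hA r₁ (by rw [r₂]; module)
    (by simpa using hn' 1 2 (by simpa using z12))
    (by simpa using hn' 3 1 (by rw [Nat.cast_one, one_smul, add_comm]; exact z31))
    (hn' 2 2 z22) (hn' 3 2 z32) (1 : C) x
  have hneg : ∀ {z : D.M}, z ∉ Set.range D.P.root → -z ∉ Set.range D.P.root := fun hz ⟨k, hk⟩ =>
    hz ⟨D.P.reflectionPerm k k, by rw [root_self_refl, hk, neg_neg]⟩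
  have k2 := comm_two hv' hi hG (d₁ := c₁) (d₂ := q) (by rw [r₁, r₂, rp']; module) (by rw [r₂, rp']; module)
    (by
      rw [show D.P.root p' + 2 • D.P.root c₂ = (3 : ℤ) • D.P.root p + (2 : ℤ) • D.P.root q by rw [r₂, rp']; module]
      exact z32)
    (by
      rw [show 3 • D.P.root p' + D.P.root c₂ = D.P.root q - D.P.root p by rw [r₂, rp']; module]
      exact hsub)
    (by
      rw [show 2 • D.P.root p' + 2 • D.P.root c₂ = (2 : ℤ) • D.P.root p + (2 : ℤ) • D.P.root q by rw [r₂, rp']; module]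
      exact z22)
    (by
      rw [show 3 • D.P.root p' + 2 • D.P.root c₂ = D.P.root p + (2 : ℤ) • D.P.root q by rw [r₂, rp']; module]
      exact z12) (-1 : C) x
  simp only [a1, a2, g1, g2, map_neg, map_one, neg_neg, neg_mul, _root_.one_mul, _root_.mul_one, one_pow,
    mul_neg, neg_one_sq, Chart.comm, vp, vq, vp', v1, v2] at k1 k2
  haveI := hf₁.1
  haveI := hf₂.1
  haveI : IsMonHom (v q) := (hv q).1
  rw [gp_neg (j := j) x, GrpObj.inv_comp] at k1 k2
  have e1 : gp j x ≫ conjHom n (v p) = (gp j x ≫ v q) * (gp j (1 : C) ≫ v p) * (gp j x ≫ v q)⁻¹ *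
      (gp j (1 : C) ≫ v p)⁻¹ * (gp j x ≫ conjHom m (v q)) := by
    rw [k1]
    group
  have h3 := weyl_self avc havc hv j e₁ he₁ p hp hm (1 : C)
  have h4 := weyl_sq_conj havc hv j e₁ he₁ hp hm (hv q) x
  rw [h2, show ((-1 : Cˣ) ^ (-2 : ℤ) : Cˣ) = 1 by norm_num, Units.val_one, _root_.one_mul] at h4
  have h5 : (toUnit (Sp j C) ≫ m) * (gp j x ≫ v q) * (toUnit (Sp j C) ≫ m)⁻¹ = gp j x ≫ conjHom m (v q) :=
    (comp_conjHom m (v q) _).symm
  calc (toUnit (Sp j C) ≫ m) * (gp j x ≫ conjHom n (v p)) * (toUnit (Sp j C) ≫ m)⁻¹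
      = ((toUnit (Sp j C) ≫ m) * (gp j x ≫ v q) * (toUnit (Sp j C) ≫ m)⁻¹) *
          ((toUnit (Sp j C) ≫ m) * (gp j (1 : C) ≫ v p) * (toUnit (Sp j C) ≫ m)⁻¹) *
          ((toUnit (Sp j C) ≫ m) * (gp j x ≫ v q) * (toUnit (Sp j C) ≫ m)⁻¹)⁻¹ *
          ((toUnit (Sp j C) ≫ m) * (gp j (1 : C) ≫ v p) * (toUnit (Sp j C) ≫ m)⁻¹)⁻¹ *
          ((toUnit (Sp j C) ≫ m) * (gp j x ≫ conjHom m (v q)) * (toUnit (Sp j C) ≫ m)⁻¹) := by rw [e1]; group
    _ = _ := by
      rw [h3, h4, h5, k2, gp_neg (j := j) x, GrpObj.inv_comp, GrpObj.inv_comp]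
      group

end Groth.L14.Chev
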