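import Groth.Agent.L14.Chev.Carry

/-!
The Chevalley system of a pinning: root homomorphisms and duals transported by words in the Weyl elements.
-/

set_option autoImplicit false
universe u

open CategoryTheory CategoryTheory.Limits AlgebraicGeometry MonoidalCategory CartesianMonoidalCategory MonObj
open Groth.L14.RankOne Groth.L25 Groth.L14.Chart Groth.L14.Chev.Words
open Groth.L24.RootD (wd wd_append wd_nil wd_singleton wd_cons wd_reverse IsSimple root_smul reflection_smul_idx)

set_option backward.isDefEq.respectTransparency.types false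
set_option linter.style.haveILetI false

noncomputable section

namespace Groth.L14.Chev

variable {S : Scheme.{u}} {G : Over S} [GrpObj G] {D : Red.Pinning G}

/-- Every root is the image of a simple root under a word in simple reflections. -/
theorem exists_word_of_root (c : D.idx) :
    ∃ (l : List D.idx) (a : D.idx), (∀ x ∈ l, x ∈ D.base.support) ∧ a ∈ D.base.support ∧ wd D.P l • a = c := by
  haveI : Finite D.idx := Finite.of_fintype _
  haveI := RootCombo.isCrystallographic D.P
  have hΔ := IsSimple.of_base D.base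
  have hind : RootD.IsIndiv D.P c := by
    intro i hi
    have hii : RootD.IsIndiv D.P i := fun m hm => by
      have : D.P.root c = (4 : ℤ) • D.P.root m := by rw [← hi, ← hm, smul_smul]; norm_num
      rcases Groth.L24.RootD.multiple_of_root this with h | h | h | h <;> omega
    obtain ⟨g, -, a, ha, hga⟩ := hΔ.exists_conj_simple' hii
    refine two_smul_notMem D ha ⟨g⁻¹ • c, ?_⟩
    rw [root_smul, ← hi, ← hga, root_smul, Groth.L24.RootD.smul_zsmul_M, inv_smul_smul]
  obtain ⟨g, hg, a, ha, hga⟩ := hΔ.exists_conj_simple' hind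
  obtain ⟨l, hl, rfl⟩ := Groth.L24.RootD.exists_word hg
  exact ⟨l, a, hl, ha, hga⟩

theorem exists_rep (c : D.idx) :
    ∃ la : List D.idx × D.idx, (∀ x ∈ la.1, x ∈ D.base.support) ∧ la.2 ∈ D.base.support ∧ wd D.P la.1 • la.2 = c ∧
      (c ∈ D.base.support → la = ([], c)) := by
  by_cases hc : c ∈ D.base.support
  · exact ⟨([], c), by simp, hc, by simp [wd_nil], fun _ => rfl⟩
  · obtain ⟨l, a, hl, ha, h⟩ := exists_word_of_root c
    exact ⟨(l, a), hl, ha, h, fun h => absurd h hc⟩

variable {avc : D.idx → (Red.Gm S ⟶ D.T)}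
  (havc : ∀ a, avc a = Red.DSmap S (D.P.coroot a).toAddMonoidHom ≫ D.split.inv.hom.hom)
  (e₁ : 𝟙_ (Over S) ⟶ Red.Ga S) (he₁ : Red.gaFn e₁ = 1)
  (hdual : ∀ a ∈ D.base.support, DualAt (D := D.toSplitRed) avc D.u (opp D.u) a)
  (w : D.idx → (𝟙_ (Over S) ⟶ G))
  (hw : ∀ a, w a = (e₁ ≫ D.u a) * (e₁ ≫ D.u (D.P.reflectionPerm a a))⁻¹ * (e₁ ≫ D.u a))

include havc he₁ hdual hw in
theorem isRootHom_word {l : List D.idx} (hl : ∀ x ∈ l, x ∈ D.base.support) {g : D.idx} {f : Red.Ga S ⟶ G}
    (hf : Red.IsRootHom D.i (D.split.hom.hom.hom ≫ Red.chi S (D.P.root g)) f) :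
    Red.IsRootHom D.i (D.split.hom.hom.hom ≫ Red.chi S (D.P.root (wd D.P l • g))) (conjHom (val w l) f) := by
  induction l with
  | nil => simpa [val, conjHom_one, wd_nil] using hf
  | cons a l ih =>
    have h := ih fun x hx => hl x (List.mem_cons_of_mem _ hx)
    rw [show val w (a :: l) = w a * val w l from List.prod_cons, conjHom_mul, wd_cons, mul_smul, reflection_smul_idx]
    exact isRootHom_conjHom
      (actsBy_weyl avc havc D.rootHom e₁ he₁ a (hdual a (hl a List.mem_cons_self)) (hw a)) rfl h

include havc he₁ hdual hw in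
theorem conj_coroot_word {l : List D.idx} (hl : ∀ x ∈ l, x ∈ D.base.support) (g : D.idx) {X : Over S}
    (z : X ⟶ Red.Gm S) : (toUnit X ≫ val w l) * (z ≫ avc g ≫ D.i) * (toUnit X ≫ val w l)⁻¹ =
      z ≫ avc (wd D.P l • g) ≫ D.i := by
  induction l with
  | nil => simp [val, MonObj.comp_one, wd_nil]
  | cons a l ih =>
    have ha := hl a List.mem_cons_self
    rw [show val w (a :: l) = w a * val w l from List.prod_cons, MonObj.comp_mul, wd_cons, mul_smul,
      reflection_smul_idx]
    calc _ = (toUnit X ≫ w a) * ((toUnit X ≫ val w l) * (z ≫ avc g ≫ D.i) * (toUnit X ≫ val w l)⁻¹) *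
          (toUnit X ≫ w a)⁻¹ := by group
      _ = _ := by
        rw [ih fun x hx => hl x (List.mem_cons_of_mem _ hx)]
        refine hom_ext_open fun R _ j _ C _ _ t => ?_
        simp only [MonObj.comp_mul, GrpObj.comp_inv, ← Category.assoc]
        rw [toUnit_unique (t ≫ toUnit X) (toUnit _), ← up_uv (t ≫ z), Category.assoc, Category.assoc]
        show (toUnit (Sp j C) ≫ w a) * hpt j avc _ _ * _ = hpt j avc _ _
        rw [weyl_conj_hpt havc D.rootHom j e₁ he₁ (hdual a ha) (hw a)]
        haveI : IsMonHom D.i := isMonHom_i (D := D.toSplitRed)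
        simp only [hpt, ← Category.assoc, up_avc (D := D.toSplitRed) j avc havc, ← MonObj.mul_comp, ← tpt_mul]
        congr 2
        refine MonoidHom.ext fun m => ?_
        obtain ⟨m, rfl⟩ := Multiplicative.ofAdd.surjective m
        rw [MonoidHom.mul_apply, ← zpow_one (uv (t ≫ z)), ← zpow_mul, cochi_zpow, cochi_zpow, cochi_zpow,
          ← Units.val_mul, ← zpow_add]
        congr 2
        rw [D.P.coroot_reflectionPerm, D.P.coreflection_apply_coroot]
        simp
        ring

include havc he₁ hdual hw in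
theorem dualAt_word {l : List D.idx} (hl : ∀ x ∈ l, x ∈ D.base.support) {a : D.idx} (ha : a ∈ D.base.support)
    {c : D.idx} (hc : wd D.P l • a = c) :
    IsMonHom (conjHom (val w l) (D.u (D.P.reflectionPerm a a))) ∧ ∀ (X : Over S) (x y : X ⟶ Red.Ga S),
      IsUnit (1 + Red.gaFn x * Red.gaFn y) → ∃ (x' y' : X ⟶ Red.Ga S) (z : X ⟶ Red.Gm S),
        Red.gmFn z = 1 + Red.gaFn x * Red.gaFn y ∧ Red.gaFn x' * Red.gmFn z = Red.gaFn x ∧
          Red.gaFn y' * Red.gmFn z = Red.gaFn y ∧
          (x ≫ conjHom (val w l) (D.u a)) * (y ≫ conjHom (val w l) (D.u (D.P.reflectionPerm a a))) =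
            (y' ≫ conjHom (val w l) (D.u (D.P.reflectionPerm a a))) * (z ≫ avc c ≫ D.i) *
              (x' ≫ conjHom (val w l) (D.u a)) := by
  refine ⟨(isRootHom_word havc e₁ he₁ hdual w hw hl (D.rootHom _)).1, fun X x y h => ?_⟩
  obtain ⟨x', y', z, hz, hx, hy, he⟩ := (hdual a ha).2 X x y h
  refine ⟨x', y', z, hz, hx, hy, ?_⟩
  rw [← hc, ← conj_coroot_word havc e₁ he₁ hdual w hw hl a z]
  simp only [comp_conjHom]
  calc _ = (toUnit X ≫ val w l) * ((x ≫ D.u a) * (y ≫ D.u (D.P.reflectionPerm a a))) * (toUnit X ≫ val w l)⁻¹ := by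
        group
    _ = _ := by rw [show (x ≫ D.u a) * (y ≫ D.u (D.P.reflectionPerm a a)) = _ from he]; group

include havc he₁ hdual hw in
/-- Transported Weyl elements carry transported root homomorphisms to each other up to a sign. -/
theorem carries_system {l lb l' : List D.idx} (hl : ∀ x ∈ l, x ∈ D.base.support)
    (hlb : ∀ x ∈ lb, x ∈ D.base.support) (hl' : ∀ x ∈ l', x ∈ D.base.support) {a ab a' : D.idx}
    (ha : a ∈ D.base.support) (hab : ab ∈ D.base.support) (ha' : a' ∈ D.base.support)
    (h : wd D.P l' • a' = wd D.P (l ++ [a] ++ l.reverse ++ lb) • ab) :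
    Carries (val w l * w a * (val w l)⁻¹) (conjHom (val w lb) (D.u ab)) (conjHom (val w l') (D.u a')) := by
  have hrev : ∀ {l : List D.idx}, (∀ x ∈ l, x ∈ D.base.support) → ∀ x ∈ l.reverse, x ∈ D.base.support :=
    fun hl x hx => hl x (List.mem_reverse.1 hx)
  have happ : ∀ {l₁ l₂ : List D.idx}, (∀ x ∈ l₁, x ∈ D.base.support) → (∀ x ∈ l₂, x ∈ D.base.support) →
      ∀ x ∈ l₁ ++ l₂, x ∈ D.base.support := fun h₁ h₂ x hx => (List.mem_append.1 hx).elim (h₁ x) (h₂ x)
  have hla : ∀ x ∈ l ++ [a], x ∈ D.base.support := happ hl (by simpa using ha)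
  have hk : ∀ {l : List D.idx}, (∀ x ∈ l, x ∈ D.base.support) → val w l.reverse * val w l ∈ signs D avc := by
    intro l hl
    have := weyl_equiv havc e₁ he₁ hdual w hw (happ (hrev hl) hl) (l' := []) (by simp)
      (by rw [wd_append, wd_reverse, inv_mul_cancel, wd_nil])
    simpa [val_append, val] using this
  set N := val w (l ++ [a] ++ l.reverse ++ lb)
  have hL : Carries N (D.u ab) (conjHom (val w l') (D.u a')) := by
    have h1 := carries_word havc e₁ he₁ hdual w hw (happ (hrev hl') (happ (happ hla (hrev hl)) hlb)) hab ha'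
      (by rw [wd_append, mul_smul, ← h, wd_reverse, inv_smul_smul])
    have h2 := (Carries.conjHom (val w l') (D.u a')).mul
      ((carries_signs havc (inv_mem (hk hl')) (D.rootHom a')).mul h1)
    convert h2 using 1
    simp only [N, val_append]
    group
  have hmid := Carries.conjHom (val w (l.reverse ++ lb)) (D.u ab)
  have hpre : Carries (val w (l ++ [a])) (conjHom (val w (l.reverse ++ lb)) (D.u ab))
      (conjHom (val w l') (D.u a')) := by
    have h3 := hL.mul hmid.inv
    convert h3 using 1
    simp only [N, val_append]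
    group
  have hfix := carries_signs havc (inv_mem (hk hl))
    (isRootHom_word havc e₁ he₁ hdual w hw (happ (hrev hl) hlb) (D.rootHom ab))
  have := (hpre.mul (hfix.mul hmid)).mul (Carries.conjHom (val w lb) (D.u ab)).inv
  simpa [val_append, val_singleton, _root_.mul_assoc] using this

end Groth.L14.Chev
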