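import Groth.Agent.L24.RootD.Tits
import Groth.Agent.L24.RootD.Dominant
import Groth.Agent.L24.RootD.Dihedral

/-!
Words in simple reflections: coordinates along a pair of simple roots, alternating words and their inversions.
-/

set_option autoImplicit false
set_option linter.unusedSectionVars false

open Function Set RootPairing
open Groth.L24.RootD

namespace Groth.L14.Chev.Words

/-- A letter, in coordinates along a pair: `true` is the first root, `p = ⟨b, a^∨⟩` and `q = ⟨a, b^∨⟩`. -/
def step (p q : ℤ) (c : Bool) (v : ℤ × ℤ) : ℤ × ℤ :=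
  bif c then (-v.1 - v.2 * p, v.2) else (v.1, -v.2 - v.1 * q)

/-- A word, in coordinates along a pair. -/
def coord (p q : ℤ) (t : List Bool) (v : ℤ × ℤ) : ℤ × ℤ := t.foldr (step p q) v

/-- The coordinates of a letter. -/
def unitVec (c : Bool) : ℤ × ℤ := bif c then (1, 0) else (0, 1)

/-- The alternating word beginning with a given letter. -/
def alt : Bool → ℕ → List Bool
  | _, 0 => []
  | c, k + 1 => c :: alt (!c) k

/-- The order of the product of two simple reflections. -/
def braidLen (p q : ℤ) : ℕ :=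
  if p * q = 0 then 2 else if p * q = 1 then 3 else if p * q = 2 then 4 else 6

/-- The possible pairings of two simple roots. -/
def pairList : List (ℤ × ℤ) := [(0, 0), (-1, -1), (-1, -2), (-2, -1), (-1, -3), (-3, -1)]

theorem alt_succ' : ∀ (c : Bool) (k : ℕ), alt c (k + 1) = alt c k ++ [bif k.bodd then !c else c]
  | c, 0 => by simp [alt]
  | c, k + 1 => by
    rw [alt, alt_succ' (!c) k, alt, Nat.bodd_succ]
    cases k.bodd <;> simp

theorem pairList_check : ∀ pq ∈ pairList, ∀ c : Bool,
    (∀ e : Bool, coord pq.1 pq.2 (alt c (braidLen pq.1 pq.2) ++ (alt (!c) (braidLen pq.1 pq.2)).reverse) (unitVec e) =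
      unitVec e) ∧
    ∀ k : Fin (braidLen pq.1 pq.2), 0 ≤ (coord pq.1 pq.2 (alt (!c) k).reverse (unitVec c)).1 ∧
      0 ≤ (coord pq.1 pq.2 (alt (!c) k).reverse (unitVec c)).2 := by
  decide

/-- The alternating words carrying the first root to a simple one. -/
theorem carry_check : ∀ pq ∈ pairList, ∀ c : Bool, ∀ k : Fin (braidLen pq.1 pq.2 + 1),
    (coord pq.1 pq.2 (alt c k) (1, 0) = (1, 0) ∨ coord pq.1 pq.2 (alt c k) (1, 0) = (0, 1)) →
      (k : ℕ) = 0 ∨ (pq = (0, 0) ∧ c = false ∧ (k : ℕ) = 1) ∨ (pq = (-1, -1) ∧ c = true ∧ (k : ℕ) = 2) ∨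
        (pq.1 * pq.2 = 2 ∧ c = false ∧ (k : ℕ) = 3) ∨ (pq.1 * pq.2 = 3 ∧ c = false ∧ (k : ℕ) = 5) := by
  decide

section Roots

variable {ι M N : Type*} [AddCommGroup M] [AddCommGroup N] {P : RootPairing ι ℤ M N}

/-- The letters. -/
def pick (a b : ι) (c : Bool) : ι := bif c then a else b

theorem root_coord {a b : ι} {p q : ℤ} (hp : P.pairing b a = p) (hq : P.pairing a b = q) :
    ∀ (t : List Bool) (k : ι) (v : ℤ × ℤ), P.root k = v.1 • P.root a + v.2 • P.root b →
      P.root (wd P (t.map (pick a b)) • k) =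
        (coord p q t v).1 • P.root a + (coord p q t v).2 • P.root b := by
  intro t
  induction t with
  | nil => intro k v h; simpa [wd_nil, coord] using h
  | cons c t ih =>
    intro k v h
    have h' := ih k v h
    rw [List.map_cons, wd_cons, mul_smul, root_reflection_smul, h', map_add, map_zsmul, map_zsmul]
    rw [show coord p q (c :: t) v = step p q c (coord p q t v) from rfl]
    cases c <;>
      simp only [pick, step, cond_true, cond_false, RootPairing.reflection_apply_root, P.pairing_same, hp, hq] <;>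
      module

theorem root_coord_unit {a b : ι} {p q : ℤ} (hp : P.pairing b a = p) (hq : P.pairing a b = q) (t : List Bool)
    (e : Bool) : P.root (wd P (t.map (pick a b)) • pick a b e) =
      (coord p q t (unitVec e)).1 • P.root a + (coord p q t (unitVec e)).2 • P.root b :=
  root_coord hp hq t _ _ (by cases e <;> simp [pick, unitVec])

variable [Finite ι] {Δ : Set ι}

/-- Two simple roots have one of the listed pairings. -/
theorem pairs_simple (hΔ : IsSimple P Δ) {a b : ι} (ha : a ∈ Δ) (hb : b ∈ Δ) (hne : a ≠ b)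
    (hpairs : (P.pairing a b, P.pairing b a) ∈ ({(0, 0), (1, 1), (-1, -1), (1, 2), (2, 1), (-1, -2), (-2, -1), (1, 3),
      (3, 1), (-1, -3), (-3, -1)} : Set (ℤ × ℤ))) [P.IsCrystallographic] :
    (P.pairing b a, P.pairing a b) ∈ pairList := by
  have h : ∀ i j, P.pairingIn ℤ i j = P.pairing i j := fun i j => by
    simpa using P.algebraMap_pairingIn ℤ i j
  have h1 := hΔ.pairingIn_nonpos ha hb hne
  have h2 := hΔ.pairingIn_nonpos hb ha (Ne.symm hne)
  rw [h] at h1 h2
  simp only [Set.mem_insert_iff, Set.mem_singleton_iff, Prod.mk.injEq] at hpairs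
  simp only [pairList, List.mem_cons, List.not_mem_nil, or_false, Prod.mk.injEq]
  omega

theorem neg_of_notMem (hΔ : IsSimple P Δ) [P.IsCrystallographic] {k : ι} (h : k ∉ _root_.RootD.posOf P Δ) :
    -P.root k ∈ _root_.RootD.natSpan P Δ :=
  (hΔ.mem_or k).resolve_left h

/-- A nonnegative combination of two roots made negative is made negative. -/
theorem smul_notMem (hΔ : IsSimple P Δ) [P.IsCrystallographic] {w : P.Aut} {a b k : ι} {x y : ℤ} (hx : 0 ≤ x)
    (hy : 0 ≤ y) (hk : P.root k = x • P.root a + y • P.root b) (ha : w • a ∉ _root_.RootD.posOf P Δ)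
    (hb : w • b ∉ _root_.RootD.posOf P Δ) : w • k ∉ _root_.RootD.posOf P Δ := by
  obtain ⟨x', rfl⟩ := Int.eq_ofNat_of_zero_le hx
  obtain ⟨y', rfl⟩ := Int.eq_ofNat_of_zero_le hy
  intro h
  refine hΔ.disjoint_pos h ?_
  show P.root (P.reflectionPerm (w • k) (w • k)) ∈ _root_.RootD.natSpan P Δ
  have e : P.root (P.reflectionPerm (w • k) (w • k)) = x' • -P.root (w • a) + y' • -P.root (w • b) := by
    rw [P.root_reflectionPerm, P.reflection_apply_self, root_smul, hk, smul_add, smul_zsmul_M, smul_zsmul_M,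
      ← root_smul, ← root_smul]
    module
  rw [e]
  exact AddSubmonoid.add_mem _ (AddSubmonoid.nsmul_mem _ (neg_of_notMem hΔ ha) x')
    (AddSubmonoid.nsmul_mem _ (neg_of_notMem hΔ hb) y')

/-- An element with two simple descents absorbs every word in them with positive inversions. -/
theorem strip (hΔ : IsSimple P Δ) [P.IsCrystallographic] {a b : ι} (ha : a ∈ Δ) (hb : b ∈ Δ) {p q : ℤ}
    (hp : P.pairing b a = p) (hq : P.pairing a b = q) {l : List ι} (hl : ∀ x ∈ l, x ∈ Δ)
    (hna : wd P l • a ∉ _root_.RootD.posOf P Δ) (hnb : wd P l • b ∉ _root_.RootD.posOf P Δ) :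
    ∀ t : List Bool, (∀ (c : Bool) (t₂ : List Bool), c :: t₂ <:+ t →
        0 ≤ (coord p q t₂.reverse (unitVec c)).1 ∧ 0 ≤ (coord p q t₂.reverse (unitVec c)).2) →
      ∃ r : List ι, (∀ x ∈ r, x ∈ Δ) ∧ wd P (r ++ t.map (pick a b)) = wd P l ∧
        r.length + t.length ≤ l.length := by
  intro t
  induction t with
  | nil => intro _; exact ⟨l, hl, by simp, by simp⟩
  | cons c t ih =>
    intro h
    obtain ⟨r, hr, he, hlen⟩ := ih fun c' t₂ h' => h c' t₂ (h'.trans (List.suffix_cons _ _))
    obtain ⟨h1, h2⟩ := h c t List.suffix_rfl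
    have hneg : wd P r • pick a b c ∉ _root_.RootD.posOf P Δ := by
      have e : wd P r = wd P l * wd P (t.reverse.map (pick a b)) := by
        rw [← he, wd_append, List.map_reverse, wd_reverse, mul_assoc, mul_inv_cancel, mul_one]
      rw [e, mul_smul]
      exact smul_notMem hΔ h1 h2 (root_coord_unit hp hq t.reverse c) hna hnb
    have hc : pick a b c ∈ Δ := by cases c <;> simpa [pick]
    obtain ⟨r', hr', he', hlt⟩ := exists_shorter hΔ hr hc hneg
    refine ⟨r', hr', ?_, by simp only [List.length_cons]; omega⟩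
    rw [List.map_cons, wd_append, wd_cons, ← mul_assoc, he', mul_assoc (wd P r), reflection_mul_self, mul_one,
      ← wd_append, he]

theorem suffix_alt : ∀ (c : Bool) (m : ℕ) (x : Bool) (t₂ : List Bool), x :: t₂ <:+ alt c m →
    ∃ k < m, t₂ = alt (!x) k
  | c, 0, x, t₂, h => by simp [alt] at h
  | c, m + 1, x, t₂, h => by
    rw [alt, List.suffix_cons_iff] at h
    rcases h with h | h
    · obtain ⟨rfl, rfl⟩ := List.cons.inj h
      exact ⟨m, Nat.lt_succ_self m, rfl⟩
    · obtain ⟨k, hk, e⟩ := suffix_alt _ _ _ _ h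
      exact ⟨k, Nat.lt_succ_of_lt hk, e⟩

theorem strip_alt (hΔ : IsSimple P Δ) [P.IsCrystallographic] {a b : ι} (ha : a ∈ Δ) (hb : b ∈ Δ)
    (hpq : (P.pairing b a, P.pairing a b) ∈ pairList) {l : List ι} (hl : ∀ x ∈ l, x ∈ Δ)
    (hna : wd P l • a ∉ _root_.RootD.posOf P Δ) (hnb : wd P l • b ∉ _root_.RootD.posOf P Δ) (c : Bool) :
    ∃ r : List ι, (∀ x ∈ r, x ∈ Δ) ∧
      wd P (r ++ (alt c (braidLen (P.pairing b a) (P.pairing a b))).map (pick a b)) = wd P l ∧
      r.length + (alt c (braidLen (P.pairing b a) (P.pairing a b))).length ≤ l.length :=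
  strip hΔ ha hb rfl rfl hl hna hnb _ fun x t₂ h => by
    obtain ⟨k, hk, rfl⟩ := suffix_alt _ _ _ _ h
    exact (pairList_check _ hpq x).2 ⟨k, hk⟩

/-- The braid relation in the Weyl group. -/
theorem wd_alt_eq [P.IsCrystallographic] {a b : ι} (hpq : (P.pairing b a, P.pairing a b) ∈ pairList) (c : Bool) :
    wd P ((alt c (braidLen (P.pairing b a) (P.pairing a b))).map (pick a b)) =
      wd P ((alt (!c) (braidLen (P.pairing b a) (P.pairing a b))).map (pick a b)) := by
  set m := braidLen (P.pairing b a) (P.pairing a b)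
  have hfix : ∀ e : Bool, wd P ((alt c m ++ (alt (!c) m).reverse).map (pick a b)) • pick a b e = pick a b e :=
    fun e => P.root.injective (by
      rw [root_coord_unit rfl rfl, (pairList_check _ hpq c).1 e]
      cases e <;> simp [pick, unitVec])
  have hmem : wd P ((alt c m ++ (alt (!c) m).reverse).map (pick a b)) ∈
      Subgroup.closure ({Equiv.reflection P a, Equiv.reflection P b} : Set P.Aut) := by
    rw [← Set.image_pair]
    refine wd_mem fun x hx => ?_
    obtain ⟨e, -, rfl⟩ := List.mem_map.1 hx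
    cases e <;> simp [pick]
  have h1 := eq_one_of_fix_pair hmem (hfix true) (hfix false)
  rw [List.map_append, wd_append, List.map_reverse, wd_reverse] at h1
  exact mul_inv_eq_one.1 h1

end Roots

end Groth.L14.Chev.Words
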